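import Groth.Agent.H26.DedMin.Global
import Groth.Agent.DimOneAmple.Exists
import Groth.Agent.Lib.AmpleEmbed
import Groth.Agent.H26.GGContract.Main
import Groth.Agent.DimFormula.DedekindFlat
import Groth.Agent.H26.GenDeg
import Groth.Agent.S10879

/-!
# Models of curves by closure in projective space
-/

noncomputable section

set_option autoImplicit false
set_option linter.style.haveILetI false
set_option linter.unusedSectionVars false
set_option backward.isDefEq.respectTransparency false
set_option backward.isDefEq.respectTransparency.types false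
set_option maxHeartbeats 1000000

universe u

open CategoryTheory CategoryTheory.Limits AlgebraicGeometry TopologicalSpace

namespace Groth.Agent.H26.DedMin

open Groth.Agent

variable {S : Scheme.{u}} [IsIntegral S] [IsLocallyNoetherian S] {K : Type u} [Field K]
  (j : Spec (CommRingCat.of K) ⟶ S) [IsPreimmersion j] [Flat j] (hj : ∀ a, j a = genericPoint S)

/-- An integral curve over the generic point has an integral proper model dominating the base. -/
theorem exists_closure {C : Scheme.{u}} [IsIntegral C] (g : C ⟶ Spec (CommRingCat.of K)) [IsProper g]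
    (hdim : topologicalKrullDim C ≤ 1) :
    ∃ (Y : Scheme.{u}) (_ : IsIntegral Y) (p : Y ⟶ S) (i : C ⟶ Y), IsProper p ∧ IsPullback i g p j ∧
      i (genericPoint C) = genericPoint Y := by
  haveI : IsLocallyNoetherian C := LocallyOfFiniteType.isLocallyNoetherian g
  haveI : CompactSpace C := QuasiCompact.compactSpace_of_compactSpace g
  haveI : AlgebraicGeometry.IsNoetherian C := ⟨⟩
  haveI : C.IsSeparated := ⟨by
    rw [← Limits.terminal.comp_from g]
    infer_instance⟩
  obtain ⟨L, hL⟩ := DimOneAmple.exists_isAmple hdim
  obtain ⟨n, r, hr, hrg⟩ := AmpleEmbed.exists_closedImmersion g hL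
  obtain ⟨a, ha, -⟩ := SeesawX.PnSpec.exists_iso n K
  let PK := CohB1.ProjSpaceOver n (Spec (CommRingCat.of K))
  let P := CohB1.ProjSpaceOver n S
  haveI := hr
  let r' : C ⟶ PK := r ≫ a.inv
  haveI : IsClosedImmersion r' := inferInstance
  have hr' : r' ≫ CohB1.ProjSpaceOver.toBase n _ = g := by
    rw [Category.assoc, ← ha, Iso.inv_hom_id_assoc]
    exact hrg
  let m : PK ⟶ P := pullback.lift (pullback.fst _ _) (CohB1.ProjSpaceOver.toBase n _ ≫ j)
    (pullback.condition.trans (congrArg _ (specULiftZIsTerminal.hom_ext _ _)) |>.trans (Category.assoc _ _ _).symm)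
  have hm : IsPullback m (CohB1.ProjSpaceOver.toBase n _) (CohB1.ProjSpaceOver.toBase n S) j := by
    refine IsPullback.of_right ?_ (pullback.lift_snd _ _ _) (IsPullback.of_hasPullback _ _)
    rw [pullback.lift_fst, show j ≫ specULiftZIsTerminal.from S = specULiftZIsTerminal.from _ from
      specULiftZIsTerminal.hom_ext _ _]
    exact IsPullback.of_hasPullback _ _
  haveI : IsPreimmersion m := MorphismProperty.of_isPullback (P := @IsPreimmersion) hm.flip ‹_›
  haveI : Flat m := MorphismProperty.of_isPullback (P := @Flat) hm.flip ‹_›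
  haveI : IsProper (CohB1.ProjSpaceOver.toBase n S) :=
    MorphismProperty.pullback_snd _ _ (Groth.Agent.PnCoh.Chow.isProper_toSpec n _)
  let Z : Closeds P := ⟨closure (Set.range (r' ≫ m)), isClosed_closure⟩
  let I := Scheme.IdealSheafData.vanishingIdeal Z
  have hrI : Set.range I.subschemeι = closure (Set.range (r' ≫ m)) := by
    rw [Scheme.IdealSheafData.range_subschemeι, Scheme.IdealSheafData.coe_support_vanishingIdeal]
    rfl
  have hgenI : IsGenericPoint ((r' ≫ m) (genericPoint C)) (closure (Set.range (r' ≫ m))) := by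
    have h := (genericPoint_spec C).image (r' ≫ m).continuous
    rwa [Set.image_univ] at h
  haveI : IsIntegral I.subscheme := by
    haveI : IrreducibleSpace (closure (Set.range (r' ≫ m))) := Subtype.irreducibleSpace hgenI.isIrreducible
    let e := I.subschemeι.isClosedEmbedding.isEmbedding.toHomeomorph.trans (Homeomorph.setCongr hrI)
    haveI : IrreducibleSpace I.subscheme := e.symm.surjective.irreducibleSpace e.symm.continuous
    haveI : IsReduced I.subscheme := H23.RedSub.isReduced_subscheme fun U => by
      exact PrimeSpectrum.isRadical_vanishingIdeal _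
    exact isIntegral_of_irreducibleSpace_of_isReduced _
  let Q := pullback I.subschemeι m
  let q₂ : Q ⟶ PK := pullback.snd I.subschemeι m
  have hgI : I.subschemeι (genericPoint I.subscheme) = (r' ≫ m) (genericPoint C) := by
    have h := (genericPoint_spec I.subscheme).image I.subschemeι.continuous
    rw [Set.image_univ, hrI, closure_closure] at h
    exact h.eq hgenI
  haveI : IsIntegral Q := isIntegral_preimmersion (pullback.fst I.subschemeι m) (by
    rw [Scheme.Pullback.range_fst, Set.mem_preimage, hgI]
    exact ⟨r' (genericPoint C), rfl⟩)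
  haveI : IsClosedImmersion q₂ := inferInstance
  have hrange : Set.range r' = Set.range q₂ := by
    rw [Scheme.Pullback.range_snd, hrI, show Set.range (r' ≫ m) = m '' Set.range r' from by
      rw [← Set.range_comp]; rfl, ← m.isEmbedding.closure_eq_preimage_closure_image,
      r'.isClosedEmbedding.isClosed_range.closure_eq]
  have hk := SurfSeq.ker_eq_of_range r' q₂ hrange
  let e : C ⟶ Q := IsClosedImmersion.lift q₂ r' hk.ge
  let e' : Q ⟶ C := IsClosedImmersion.lift r' q₂ hk.le
  have he : e ≫ q₂ = r' := IsClosedImmersion.lift_fac _ _ _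
  have he' : e' ≫ r' = q₂ := IsClosedImmersion.lift_fac _ _ _
  let E : C ≅ Q := ⟨e, e', (cancel_mono r').1 (by rw [Category.assoc, he', he, Category.id_comp]),
    (cancel_mono q₂).1 (by rw [Category.assoc, he, he', Category.id_comp])⟩
  let p : I.subscheme ⟶ S := I.subschemeι ≫ CohB1.ProjSpaceOver.toBase n S
  let i : C ⟶ I.subscheme := E.hom ≫ pullback.fst I.subschemeι m
  have hbig : IsPullback (pullback.fst I.subschemeι m) (q₂ ≫ CohB1.ProjSpaceOver.toBase n _) p j :=
    (IsPullback.of_hasPullback I.subschemeι m).paste_vert hm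
  have hsq : IsPullback i g p j := by
    refine IsPullback.of_iso hbig E.symm (Iso.refl _) (Iso.refl _) (Iso.refl _) ?_ ?_ (by simp) (by simp)
    · simp [i]
    · rw [Iso.refl_hom, Category.comp_id, Iso.symm_hom, Iso.eq_inv_comp, ← hr', ← Category.assoc]
      exact congrArg (· ≫ CohB1.ProjSpaceOver.toBase n _) he
  refine ⟨I.subscheme, inferInstance, p, i, inferInstance, hsq, I.subschemeι.isClosedEmbedding.injective ?_⟩
  rw [hgI, ← Scheme.Hom.comp_apply, Category.assoc, pullback.condition, ← Category.assoc]
  exact congrArg (fun h : C ⟶ P => h (genericPoint C)) (congrArg (· ≫ m) he)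

include hj in
/-- A model of a curve over a one-dimensional base has dimension at most two. -/
theorem dim_le_two {C Y : Scheme.{u}} [IsIntegral C] [IsIntegral Y] (g : C ⟶ Spec (CommRingCat.of K))
    [LocallyOfFiniteType g] (p : Y ⟶ S) [LocallyOfFiniteType p] (i : C ⟶ Y) (sq : IsPullback i g p j)
    (hgen : i (genericPoint C) = genericPoint Y) (hS : topologicalKrullDim S ≤ 1)
    (hdim : topologicalKrullDim C = 1) : topologicalKrullDim Y ≤ 2 := by
  haveI : IsLocallyNoetherian Y := LocallyOfFiniteType.isLocallyNoetherian p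
  haveI : IsPreimmersion i := MorphismProperty.of_isPullback sq.flip ‹IsPreimmersion j›
  have hη : p (genericPoint Y) = genericPoint S := by
    rw [← hgen, ← Scheme.Hom.comp_apply, sq.w, Scheme.Hom.comp_apply]
    exact hj _
  have hrd : FibDim.rd p (genericPoint Y) = 1 := by
    have e := VarDim.rdeg_congr sq.w (genericPoint C)
    rw [VarDim.rdeg_comp, VarDim.rdeg_comp, VarDim.rdeg_preimmersion i, VarDim.rdeg_preimmersion j, add_zero,
      zero_add, hgen, ← FibDim.rd_eq_rdeg, ← FibDim.rd_eq_rdeg] at e
    have h1 := GenDeg.topologicalKrullDim_eq_rd g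
    rw [hdim] at h1
    have h2 : FibDim.rd g (genericPoint C) = 1 :=
      ((Nat.cast_inj (R := ℕ∞)).1 (WithBot.coe_inj.1 h1.symm)).trans rfl
    rw [h2] at e
    exact_mod_cast e
  rw [topologicalKrullDim, Order.krullDim_eq_of_orderIso irreducibleSetEquivPoints,
    Order.krullDim_eq_iSup_coheight_of_nonempty]
  refine WithBot.coe_le_coe.2 (iSup_le fun x => ?_)
  have hs : DimFormula.codim (p x) ≤ 1 := by
    have h := (SchTop.ringKrullDim_stalk_le (p x)).trans hS
    rw [DimFormula.ringKrullDim_stalk] at h
    exact_mod_cast h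
  have h := (DimFormula.cd_formula p (genericPoint_specializes x)).1
  rw [DimFormula.cd_eq_codim_of_irreducible, hη, DimFormula.cd_eq_codim_of_irreducible, hrd] at h
  rw [← DimFormula.coe_codim]
  exact_mod_cast (by omega : DimFormula.codim x ≤ 2)

/-- A proper birational morphism onto a regular curve is an isomorphism. -/
theorem isIso_of_birational_regular_curve {X' C : Scheme.{u}} [IsIntegral X'] [IsIntegral C]
    [IsLocallyNoetherian C]
    (hC : ∀ c : C, IsRegularLocalRing (C.presheaf.stalk c) ∧ ringKrullDim (C.presheaf.stalk c) ≤ 1)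
    (f : X' ⟶ C) [IsProper f] (hbir : IsIso (f.stalkMap (genericPoint X'))) : IsIso f := by
  have hgen := SurfSeq.map_generic f hbir
  haveI : Flat f := DimFormula.flat_of_regular_dim_le_one hC f fun η hη => by
    rw [← hη (genericPoint X') (genericPoint_specializes η), hgen]
  haveI : Surjective f := ⟨fun c => by
    obtain ⟨x, -, hx⟩ := f.isClosedMap.specializingMap (a := genericPoint X')
      (show f (genericPoint X') ⤳ c from hgen ▸ genericPoint_specializes c)
    exact ⟨x, hx⟩⟩
  exact (S10879.result f hbir (Or.inr inferInstance)).1 inferInstance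

include hj in
/-- A modification of a model of a regular curve is again a model of the curve. -/
theorem isPullback_of_modification {C Y X : Scheme.{u}} [IsIntegral C] [IsIntegral Y] [IsIntegral X]
    (hC : ∀ c : C, IsRegularLocalRing (C.presheaf.stalk c) ∧ ringKrullDim (C.presheaf.stalk c) ≤ 1)
    (g : C ⟶ Spec (CommRingCat.of K)) [LocallyOfFiniteType g] (p : Y ⟶ S) (i : C ⟶ Y) (sq : IsPullback i g p j)
    (hgen : i (genericPoint C) = genericPoint Y)
    (φ : X ⟶ Y) [IsProper φ] (hbir : IsIso (φ.stalkMap (genericPoint X))) :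
    ∃ i' : C ⟶ X, IsPullback i' g (φ ≫ p) j ∧ i' ≫ φ = i := by
  haveI : IsLocallyNoetherian C := LocallyOfFiniteType.isLocallyNoetherian g
  haveI : IsPreimmersion i := MorphismProperty.of_isPullback sq.flip ‹IsPreimmersion j›
  haveI : Flat i := MorphismProperty.of_isPullback (P := @Flat) sq.flip ‹Flat j›
  let X' := pullback φ i
  let f : X' ⟶ C := pullback.snd φ i
  have hφgen := SurfSeq.map_generic φ hbir
  obtain ⟨x₀, hx₀, -⟩ := Scheme.Pullback.exists_preimage_pullback (f := φ) (g := i) (genericPoint X)
    (genericPoint C) (hφgen.trans hgen.symm)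
  haveI : IsIntegral X' := isIntegral_preimmersion (pullback.fst φ i) ⟨x₀, hx₀⟩
  have h1 : pullback.fst φ i (genericPoint X') = genericPoint X := by
    refine (Specializes.antisymm ?_ (genericPoint_specializes _)).eq
    rw [← hx₀]
    exact (genericPoint_specializes x₀).map (pullback.fst φ i).continuous
  haveI hq := isIso_stalkMap_preimmersion (pullback.fst φ i) (genericPoint X')
  haveI hi' := isIso_stalkMap_preimmersion i (f (genericPoint X'))
  have hb : IsIso (φ.stalkMap (pullback.fst φ i (genericPoint X'))) := by rw [h1]; exact hbir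
  have hbir' : IsIso (f.stalkMap (genericPoint X')) := by
    haveI := hb
    have h2 : IsIso ((pullback.fst φ i ≫ φ).stalkMap (genericPoint X')) := by
      rw [Scheme.Hom.stalkMap_comp]; infer_instance
    have h3 : IsIso ((f ≫ i).stalkMap (genericPoint X')) := by
      rw [Scheme.Hom.stalkMap_congr_hom (f ≫ i) (pullback.fst φ i ≫ φ) pullback.condition.symm]
      haveI := h2
      infer_instance
    rw [Scheme.Hom.stalkMap_comp] at h3
    exact IsIso.of_isIso_comp_left (i.stalkMap (f (genericPoint X'))) (f.stalkMap (genericPoint X'))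
  haveI := isIso_of_birational_regular_curve hC f hbir'
  refine ⟨inv f ≫ pullback.fst φ i, ?_, by rw [Category.assoc, pullback.condition, IsIso.inv_hom_id_assoc]⟩
  have hbig : IsPullback (pullback.fst φ i) (f ≫ g) (φ ≫ p) j :=
    (IsPullback.of_hasPullback φ i).paste_vert sq
  refine IsPullback.of_iso hbig (asIso f) (Iso.refl _) (Iso.refl _) (Iso.refl _) ?_ ?_ (by simp) (by simp)
  · rw [Iso.refl_hom, Category.comp_id, asIso_hom, IsIso.hom_inv_id_assoc]
  · rw [Iso.refl_hom, Category.comp_id, asIso_hom]

end Groth.Agent.H26.DedMin
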