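import Groth.Agent.H26.DedMin.Contracted
import Groth.Agent.H26.SmoothMinimal
import Groth.Agent.MinModel.Relative
import Groth.Agent.ExcContr.Localize

/-!
# Localising a surface over a Dedekind domain at a closed point of the base
-/

noncomputable section

set_option autoImplicit false
set_option linter.style.haveILetI false
set_option linter.unusedSectionVars false
set_option backward.isDefEq.respectTransparency false
set_option backward.isDefEq.respectTransparency.types false
set_option maxHeartbeats 1000000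

universe u

open CategoryTheory CategoryTheory.Limits AlgebraicGeometry TopologicalSpace IsLocalRing
open Groth.Agent.H23.StalkIdeal

namespace Groth.Agent.H26.DedMin

open Groth.Agent

section Transfer

variable {W Z E : Scheme.{u}} (q : W ⟶ Z)

/-- A flat preimmersion induces isomorphisms of local rings. -/
theorem isIso_stalkMap_preimmersion [Flat q] [IsPreimmersion q] (w : W) : IsIso (q.stalkMap w) := by
  rw [ConcreteCategory.isIso_iff_bijective]
  refine ⟨?_, q.stalkMap_surjective w⟩
  letI : Algebra (Z.presheaf.stalk (q w)) (W.presheaf.stalk w) := (q.stalkMap w).hom.toAlgebra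
  haveI : Module.Flat (Z.presheaf.stalk (q w)) (W.presheaf.stalk w) := Flat.stalkMap q w
  haveI : IsLocalHom (algebraMap (Z.presheaf.stalk (q w)) (W.presheaf.stalk w)) :=
    inferInstanceAs (IsLocalHom (q.stalkMap w).hom)
  haveI := Module.FaithfullyFlat.of_flat_of_isLocalHom (A := Z.presheaf.stalk (q w)) (B := W.presheaf.stalk w)
  exact FaithfulSMul.algebraMap_injective (Z.presheaf.stalk (q w)) (W.presheaf.stalk w)

variable (ι' : E ⟶ W) (κ : E ⟶ Z) [IsClosedImmersion ι'] [IsClosedImmersion κ] (hκ : ι' ≫ q = κ)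
  [∀ w, IsIso (q.stalkMap w)] (hinj : Function.Injective q)
include hκ hinj

theorem comap_ker : κ.ker.comap q = ι'.ker := by
  subst hκ
  refine ext_sI fun z => ?_
  rw [sI_comap]
  by_cases hz : z ∈ Set.range ι'
  · obtain ⟨a, rfl⟩ := hz
    let ec := (asIso (q.stalkMap (ι' a))).commRingCatIsoToRingEquiv
    rw [show sI (ι' ≫ q).ker (q (ι' a)) = RingHom.ker ((ι' ≫ q).stalkMap a).hom from
        (PointBlow.ker_stalkMap_closed (ι' ≫ q) a).symm,
      Scheme.Hom.stalkMap_comp, CommRingCat.hom_comp, ← RingHom.comap_ker,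
      PointBlow.ker_stalkMap_closed ι' a]
    exact Ideal.map_comap_of_surjective _ ec.surjective _
  · rw [PointBlow.sI_eq_top (I := ι'.ker) (by
      rw [Scheme.Hom.support_ker]
      show z ∉ closure (Set.range ι')
      rwa [ι'.isClosedEmbedding.isClosed_range.closure_eq])]
    rw [PointBlow.sI_eq_top, Ideal.map_top]
    rw [Scheme.Hom.support_ker]
    show q z ∉ closure (Set.range (ι' ≫ q))
    rw [(ι' ≫ q).isClosedEmbedding.isClosed_range.closure_eq]
    rintro ⟨a, ha⟩
    exact hz ⟨a, hinj ha⟩

/-- An exceptional curve pulls back to an exceptional curve along a localisation. -/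
theorem isExcCurve_up (h : Models.IsExcCurve κ) : Models.IsExcCurve ι' := by
  obtain ⟨heff, k, hk, e, ⟨φ⟩⟩ := h
  have hker := comap_ker q ι' κ hκ hinj
  have heff' : BlowUp.IsEffCartierIdeal (κ.ker.comap q) := ExcContr.isEffCartier_comap_of_isIso q heff
  refine ⟨hker ▸ heff', k, hk, e, ⟨?_ ≪≫ φ⟩⟩
  refine (Scheme.Modules.pullback (e.hom ≫ ι')).mapIso
      ((H26.InterDiv.nonempty_pullback_idealMod q κ.ker heff heff').some ≪≫
        eqToIso (congrArg ClSub.idealMod hker)).symm ≪≫
    (Scheme.Modules.pullbackComp (e.hom ≫ ι') q).app _ ≪≫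
    (Scheme.Modules.pullbackCongr (by rw [Category.assoc, hκ])).app _

/-- An exceptional curve of a localisation comes from an exceptional curve. -/
theorem isExcCurve_down [IsLocallyNoetherian Z] (h : Models.IsExcCurve ι') : Models.IsExcCurve κ := by
  obtain ⟨heff', k, hk, e, ⟨φ⟩⟩ := h
  have hker := comap_ker q ι' κ hκ hinj
  have heff : BlowUp.IsEffCartierIdeal κ.ker := by
    refine MeroX.isEffCartier_of_stalk _ fun z hz U hzU => ?_
    obtain ⟨a, rfl⟩ : z ∈ Set.range κ := by
      have hz' : z ∈ (κ.ker.support : Set Z) := hz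
      rw [Scheme.Hom.support_ker] at hz'
      rw [← κ.isClosedEmbedding.isClosed_range.closure_eq]
      exact hz'
    have hqa : q (ι' a) = κ a := by rw [← Scheme.Hom.comp_apply, hκ]
    obtain ⟨V, hV, g, hg, hVg⟩ := heff' (ι' a)
    let ec := (asIso (q.stalkMap (ι' a))).commRingCatIsoToRingEquiv
    have h1 : sI ι'.ker (ι' a) = Ideal.span {(W.presheaf.germ V.1 (ι' a) hV).hom g} := by
      rw [sI_eq _ V hV, CDivEq.stk, hVg, Ideal.map_span, Set.image_singleton]
    have h2 : sI κ.ker (q (ι' a)) = Ideal.span {ec.symm ((W.presheaf.germ V.1 (ι' a) hV).hom g)} := by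
      have h3 : (sI κ.ker (q (ι' a))).map (q.stalkMap (ι' a)).hom = sI ι'.ker (ι' a) := by
        rw [← sI_comap, hker]
      have h4 := congrArg (Ideal.map ec.symm.toRingHom) (h3.trans h1)
      rw [Ideal.map_map, Ideal.map_span, Set.image_singleton] at h4
      rw [show ec.symm.toRingHom.comp (q.stalkMap (ι' a)).hom = RingHom.id _ from
        RingHom.ext fun x => ec.symm_apply_apply x, Ideal.map_id] at h4
      exact h4
    have key : ∀ (y : Z) (hy : y ∈ U.1), y = q (ι' a) → ∃ g : Z.presheaf.stalk y,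
        g ∈ nonZeroDivisors (Z.presheaf.stalk y) ∧
          (κ.ker.ideal U).map (Z.presheaf.germ U y hy).hom = Ideal.span {g} := by
      rintro y hy rfl
      refine ⟨_, ?_, ((sI_eq κ.ker U hy).symm.trans h2)⟩
      have hg' := CDivEq.germ_mem_nonZeroDivisors V hV hg
      refine mem_nonZeroDivisors_iff_right.2 fun c hc => ?_
      have h5 := congrArg ec hc
      rw [map_mul, ec.apply_symm_apply, map_zero] at h5
      exact ec.injective ((mem_nonZeroDivisors_iff_right.1 hg' _ h5).trans (map_zero _).symm)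
    exact key _ hzU hqa.symm
  refine ⟨heff, k, hk, e, ⟨?_ ≪≫ φ⟩⟩
  refine (Scheme.Modules.pullbackCongr (by rw [Category.assoc, hκ])).app _ ≪≫
    ((Scheme.Modules.pullbackComp (e.hom ≫ ι') q).app _).symm ≪≫
    (Scheme.Modules.pullback (e.hom ≫ ι')).mapIso
      ((H26.InterDiv.nonempty_pullback_idealMod q κ.ker heff (hker ▸ heff')).some ≪≫
        eqToIso (congrArg ClSub.idealMod hker))

end Transfer

section Localise

variable {R : Type u} [CommRing R] [IsDedekindDomain R] (s : Spec (CommRingCat.of R))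

/-- The local ring of the base at a point. -/
abbrev LR : Type u := Localization.AtPrime (R := R) s.asIdeal

/-- The localisation map of the base. -/
abbrev lmap : Spec (CommRingCat.of (LR s)) ⟶ Spec (CommRingCat.of R) :=
  Spec.map (CommRingCat.ofHom (algebraMap R (LR s)))

variable (hs : s ≠ genericPoint (Spec (CommRingCat.of R)))

instance isPreimmersion_lmap : IsPreimmersion (lmap s) :=
  IsPreimmersion.of_isLocalization s.asIdeal.primeCompl

instance flat_lmap : Flat (lmap s) := by
  rw [HasRingHomProperty.Spec_iff (P := @Flat)]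
  exact RingHom.flat_algebraMap_iff.2 (IsLocalization.flat (LR s) s.asIdeal.primeCompl)

include hs in
theorem asIdeal_ne_bot : s.asIdeal ≠ ⊥ := fun h => hs (by
  rw [genericPoint_eq_bot_of_affine (CommRingCat.of R)]
  exact PrimeSpectrum.ext h)

include hs in
theorem isDVR : IsDiscreteValuationRing (LR s) :=
  IsLocalization.AtPrime.isDiscreteValuationRing_of_dedekind_domain R (asIdeal_ne_bot s hs) _

theorem lmap_closedPoint : lmap s (closedPoint (LR s)) = s :=
  PrimeSpectrum.ext (IsLocalization.AtPrime.under_maximalIdeal (LR s) s.asIdeal)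

theorem mem_range_lmap {z : Spec (CommRingCat.of R)} (h : z ⤳ s) : z ∈ Set.range (lmap s) := by
  rw [show Set.range (lmap s) = Set.range (PrimeSpectrum.comap (algebraMap R (LR s))) from rfl,
    PrimeSpectrum.localization_comap_range (LR s) s.asIdeal.primeCompl]
  have h' := (PrimeSpectrum.le_iff_specializes (show PrimeSpectrum R from z) s).2 h
  exact Set.disjoint_left.2 fun a ha hza => ha (h' hza)

theorem eq_closedPoint_of_lmap {t : Spec (CommRingCat.of (LR s))} (h : lmap s t = s) : t = closedPoint (LR s) :=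
  (lmap s).isEmbedding.injective (h.trans (lmap_closedPoint s).symm)

variable (Z : Over (Spec (CommRingCat.of R)))

/-- The localised surface. -/
abbrev loc : Over (Spec (CommRingCat.of (LR s))) := Over.mk (pullback.snd Z.hom (lmap s))

/-- The projection to the surface. -/
abbrev locπ : (loc s Z).left ⟶ Z.left := pullback.fst Z.hom (lmap s)

instance : IsPreimmersion (locπ s Z) := inferInstance
instance : Flat (locπ s Z) := inferInstance

instance isIso_stalkMap_locπ (w : (loc s Z).left) : IsIso ((locπ s Z).stalkMap w) :=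
  isIso_stalkMap_preimmersion _ w

instance [IsProper Z.hom] : IsProper (loc s Z).hom := inferInstanceAs (IsProper (pullback.snd Z.hom (lmap s)))
instance [Flat Z.hom] : Flat (loc s Z).hom := inferInstanceAs (Flat (pullback.snd Z.hom (lmap s)))

theorem loc_regular (hreg : ∀ z : Z.left, IsRegularLocalRing (Z.left.presheaf.stalk z)) (w : (loc s Z).left) :
    IsRegularLocalRing ((loc s Z).left.presheaf.stalk w) := by
  haveI := hreg (locπ s Z w)
  exact IsRegularLocalRing.of_ringEquiv (asIso ((locπ s Z).stalkMap w)).commRingCatIsoToRingEquiv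

theorem loc_dim (hd : ∀ z : Z.left, ringKrullDim (Z.left.presheaf.stalk z) ≤ 2) (w : (loc s Z).left) :
    ringKrullDim ((loc s Z).left.presheaf.stalk w) ≤ 2 :=
  (ringKrullDim_eq_of_ringEquiv (asIso ((locπ s Z).stalkMap w)).commRingCatIsoToRingEquiv).symm.trans_le (hd _)

theorem range_locπ : Set.range (locπ s Z) = Z.hom ⁻¹' Set.range (lmap s) := Scheme.Pullback.range_fst _ _

theorem apply_generic_base [IsIntegral Z.left] [Flat Z.hom] :
    Z.hom (genericPoint Z.left) = genericPoint (Spec (CommRingCat.of R)) := by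
  obtain ⟨η', -, hη'⟩ := Flat.generalizingMap (f := Z.hom) (genericPoint_specializes (Z.hom (genericPoint Z.left)))
  exact ((((genericPoint_specializes η').map Z.hom.continuous).trans (specializes_of_eq hη')).antisymm
    (genericPoint_specializes _)).eq

theorem loc_isIntegral [IsIntegral Z.left] [Flat Z.hom] : IsIntegral (loc s Z).left := by
  obtain ⟨g, hg⟩ : genericPoint Z.left ∈ Set.range (locπ s Z) := by
    rw [range_locπ, Set.mem_preimage, apply_generic_base]
    exact mem_range_lmap s (genericPoint_specializes _)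
  haveI : Nonempty (loc s Z).left := ⟨g⟩
  have hgen : ∀ w, g ⤳ w := fun w =>
    (locπ s Z).isEmbedding.isInducing.specializes_iff.1 (hg ▸ genericPoint_specializes (locπ s Z w))
  haveI : IrreducibleSpace (loc s Z).left := by
    haveI : PreirreducibleSpace (loc s Z).left :=
      ⟨fun u v hu hv ⟨a, _, ha⟩ ⟨b, _, hb⟩ => ⟨g, trivial, (hgen a).mem_open hu ha, (hgen b).mem_open hv hb⟩⟩
    exact ⟨inferInstance⟩
  haveI : AlgebraicGeometry.IsReduced (loc s Z).left := by
    haveI : ∀ w : (loc s Z).left, _root_.IsReduced ((loc s Z).left.presheaf.stalk w) := fun w =>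
      let e := (asIso ((locπ s Z).stalkMap w)).commRingCatIsoToRingEquiv
      isReduced_of_injective e.symm.toRingHom e.symm.injective
    exact isReduced_of_isReduced_stalk _
  exact isIntegral_of_irreducibleSpace_of_isReduced _

include hs in
/-- No exceptional curve over the point means none on the localisation. -/
theorem no_exc_loc [LocallyOfFiniteType Z.hom]
    (hno : ∀ {E : Scheme.{u}} (ι : E ⟶ Z.left) [IsClosedImmersion ι], Models.IsExcCurve ι →
      ¬ ∀ a, Z.hom (ι a) = s) :
    haveI := isDVR s hs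
    ∀ Γ : ArSurf.VertComp (LR s) (loc s Z), ¬ Models.IsExcCurve Γ.ι := by
  haveI := isDVR s hs
  intro Γ hΓ
  haveI : IsLocallyNoetherian Z.left := LocallyOfFiniteType.isLocallyNoetherian Z.hom
  have hover : ∀ a, Z.hom ((Γ.ι ≫ locπ s Z) a) = s := fun a => by
    rw [← Scheme.Hom.comp_apply, Category.assoc, pullback.condition, ← Category.assoc,
      show Γ.ι ≫ pullback.snd Z.hom (lmap s) = _ from Γ.w, Category.assoc, Scheme.Hom.comp_apply,
      Scheme.Hom.comp_apply]
    generalize Γ.curve.hom a = w
    rw [show Spec.map (CommRingCat.ofHom (IsLocalRing.residue (LR s))) w = closedPoint (LR s) from by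
      refine PrimeSpectrum.ext ?_
      show Ideal.comap (IsLocalRing.residue (LR s)) w.asIdeal = IsLocalRing.maximalIdeal (LR s)
      rw [(Ideal.eq_bot_or_top w.asIdeal).resolve_right w.isPrime.ne_top, ← RingHom.ker_eq_comap_bot,
        IsLocalRing.ker_residue], lmap_closedPoint]
  have hclosed : IsClosed (Set.range (Γ.ι ≫ locπ s Z)) := by
    have hr : Set.range (Γ.ι ≫ locπ s Z) = locπ s Z '' Set.range Γ.ι := by rw [← Set.range_comp]; rfl
    obtain ⟨C, hC, hCe⟩ := (locπ s Z).isEmbedding.isInducing.isClosed_iff.1 Γ.ι.isClosedEmbedding.isClosed_range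
    have hcl : IsClosed ({s} : Set (Spec (CommRingCat.of R))) :=
      (PrimeSpectrum.isClosed_singleton_iff_isMaximal _).2
        (s.isPrime.isMaximal (asIdeal_ne_bot s hs))
    have : Set.range (Γ.ι ≫ locπ s Z) = C ∩ Z.hom ⁻¹' {s} := by
      rw [hr, ← hCe]
      ext y
      constructor
      · rintro ⟨w, hw, rfl⟩
        obtain ⟨a, ha⟩ := hCe.le hw
        refine ⟨hw, ?_⟩
        rw [← ha]
        exact hover a
      · rintro ⟨hy, hys⟩
        obtain ⟨w, rfl⟩ : y ∈ Set.range (locπ s Z) := by
          rw [range_locπ, Set.mem_preimage, show Z.hom y = s from hys]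
          exact ⟨_, lmap_closedPoint s⟩
        exact ⟨w, hy, rfl⟩
    rw [this]
    exact hC.inter (hcl.preimage Z.hom.continuous)
  haveI : IsPreimmersion (Γ.ι ≫ locπ s Z) := inferInstance
  haveI : IsClosedImmersion (Γ.ι ≫ locπ s Z) := IsClosedImmersion.of_isPreimmersion _ hclosed
  exact hno (Γ.ι ≫ locπ s Z)
    (isExcCurve_down (locπ s Z) Γ.ι _ rfl (locπ s Z).isEmbedding.injective hΓ) hover

include hs in
/-- An exceptional curve over the point gives an exceptional curve of the localisation. -/
theorem exists_exc_loc {E : Scheme.{u}} (ι : E ⟶ Z.left) [IsClosedImmersion ι] (hE : Models.IsExcCurve ι)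
    (h : ∀ a, Z.hom (ι a) = s) :
    haveI := isDVR s hs
    ∃ Γ : ArSurf.VertComp (LR s) (loc s Z), Models.IsExcCurve Γ.ι ∧
      Set.range Γ.ι = locπ s Z ⁻¹' Set.range ι := by
  haveI := isDVR s hs
  let E' := pullback ι (locπ s Z)
  let p₁ : E' ⟶ E := pullback.fst ι (locπ s Z)
  let ι' : E' ⟶ (loc s Z).left := pullback.snd ι (locπ s Z)
  haveI : Flat p₁ := inferInstance
  haveI : IsPreimmersion p₁ := inferInstance
  haveI : IsClosedImmersion ι' := inferInstance
  have hsurj : Function.Surjective p₁ := fun a => by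
    have : a ∈ Set.range p₁ := by
      rw [Scheme.Pullback.range_fst, Set.mem_preimage, range_locπ, Set.mem_preimage, h a]
      exact ⟨_, lmap_closedPoint s⟩
    exact this
  haveI : IsIso p₁ := by
    have hoe : Topology.IsOpenEmbedding p₁ :=
      ⟨p₁.isEmbedding, by rw [hsurj.range_eq]; exact isOpen_univ⟩
    haveI : ∀ w, IsIso (p₁.stalkMap w) := fun w => isIso_stalkMap_preimmersion p₁ w
    haveI : IsOpenImmersion p₁ := IsOpenImmersion.of_isIso_stalkMap p₁ hoe
    exact (isIso_iff_isOpenImmersion_and_epi_base p₁).2 ⟨inferInstance, (TopCat.epi_iff_surjective _).2 hsurj⟩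
  have hc : inv p₁ ≫ ι' ≫ locπ s Z = ι := by
    rw [IsIso.inv_comp_eq]
    exact pullback.condition.symm
  haveI : IsClosedImmersion (inv p₁ ≫ ι') := inferInstance
  have hexc : Models.IsExcCurve (inv p₁ ≫ ι') :=
    isExcCurve_up (locπ s Z) (inv p₁ ≫ ι') ι (by rw [Category.assoc, hc]) (locπ s Z).isEmbedding.injective hE
  obtain ⟨-, k, hk, e, -⟩ := id hexc
  haveI : IsIntegral (CohB1.ProjSpace 1 k) := H23.PnChart.isIntegral_projSpace 1 k
  haveI : Nonempty E := ⟨e.hom (genericPoint _)⟩
  haveI : IsIntegral E := isIntegral_of_isOpenImmersion e.inv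
  have hcl : ∀ a, (loc s Z).hom ((inv p₁ ≫ ι') a) = closedPoint (LR s) := fun a => by
    refine eq_closedPoint_of_lmap s ?_
    have e1 : (inv p₁ ≫ ι') ≫ (pullback.snd Z.hom (lmap s) ≫ lmap s) = ι ≫ Z.hom := by
      rw [← pullback.condition, ← hc]
      simp only [Category.assoc]
    calc _ = (((inv p₁ ≫ ι') ≫ (pullback.snd Z.hom (lmap s) ≫ lmap s)) : E ⟶ _) a := rfl
      _ = s := by rw [e1]; exact h a
  obtain ⟨Γ, hΓ, -⟩ := MinModel.exists_vertComp (inv p₁ ≫ ι') k e hcl
  refine ⟨Γ, ExcTransport.isExcCurve_of_ker _ Γ.ι (SurfSeq.ker_eq_of_range _ Γ.ι hΓ.symm) hexc, ?_⟩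
  rw [hΓ, ← Scheme.Pullback.range_snd]
  ext y
  refine ⟨fun ⟨a, ha⟩ => ⟨inv p₁ a, ha⟩, fun ⟨w, hw⟩ => ⟨p₁ w, ?_⟩⟩
  show (inv p₁ ≫ ι') (p₁ w) = y
  rw [← Scheme.Hom.comp_apply, IsIso.hom_inv_id_assoc]
  exact hw

end Localise

end Groth.Agent.H26.DedMin
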