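import Groth.Agent.AmpleVan.AmpleLocal
import Groth.Agent.AmpleVan.Components
import Groth.Agent.H26.CompList
import Groth.Agent.H26.ArInter
import Groth.Agent.Lib.CurveAmple
import Groth.Agent.H26.InterForm

/-!
# Ampleness on a surface over a discrete valuation ring from the degrees on the vertical curves
-/

noncomputable section

set_option autoImplicit false
set_option linter.style.haveILetI false
set_option linter.unusedSectionVars false
set_option backward.isDefEq.respectTransparency false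
set_option backward.isDefEq.respectTransparency.types false
set_option maxHeartbeats 1600000

universe u

open CategoryTheory CategoryTheory.Limits AlgebraicGeometry TopologicalSpace IsLocalRing

namespace Groth.Agent.H26.DedMin

open Groth.Agent

theorem vanishingIdeal_le_ker {C X : Scheme.{u}} [IsReduced C] (g : C ⟶ X) [QuasiCompact g] (Z : Closeds X)
    (h : Set.range g ⊆ Z) : Scheme.IdealSheafData.vanishingIdeal Z ≤ g.ker := by
  refine (Scheme.IdealSheafData.vanishingIdeal_antimono (S := g.ker.support) ?_).trans ?_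
  · intro x hx
    have hx' : x ∈ (g.ker.support : Set X) := hx
    rw [Scheme.Hom.support_ker] at hx'
    exact closure_minimal h Z.isClosed hx'
  rw [Scheme.IdealSheafData.vanishingIdeal_support]
  intro U x hx
  rw [Scheme.Hom.ker_apply, RingHom.mem_ker]
  obtain ⟨m, hm⟩ := hx
  rw [Scheme.Hom.ker_apply, RingHom.mem_ker, map_pow] at hm
  exact IsReduced.eq_zero _ ⟨m, hm⟩

variable {R : Type u} [CommRing R] [IsDomain R] [IsDiscreteValuationRing R]

/-- Every point of the closed fibre lies on a component. -/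
theorem exists_component_mem {X : Over (Spec (CommRingCat.of R))} {x : X.left} (hx : x ∈ Models.specialFibreSet R X) :
    ∃ C ∈ Models.fibreComponents R X, x ∈ C := by
  let Z : Set (Set X.left) := {T | IsIrreducible T ∧ T ⊆ Models.specialFibreSet R X}
  obtain ⟨C, hsubC, hC⟩ := zorn_subset_nonempty Z (fun c hc hchain hne => by
    refine ⟨⋃₀ c, ⟨⟨?_, ?_⟩, Set.sUnion_subset fun T hT => (hc hT).2⟩, fun T hT => Set.subset_sUnion_of_mem hT⟩
    · obtain ⟨T, hT⟩ := hne
      exact (hc hT).1.1.mono (Set.subset_sUnion_of_mem hT)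
    · intro u v hu hv ⟨a, ⟨T, hT, haT⟩, hau⟩ ⟨b, ⟨T', hT', hbT'⟩, hbv⟩
      rcases hchain.total hT hT' with h | h
      · obtain ⟨q, hq, hq'⟩ := (hc hT').1.2 u v hu hv ⟨a, h haT, hau⟩ ⟨b, hbT', hbv⟩
        exact ⟨q, ⟨T', hT', hq⟩, hq'⟩
      · obtain ⟨q, hq, hq'⟩ := (hc hT).1.2 u v hu hv ⟨a, haT, hau⟩ ⟨b, h hbT', hbv⟩
        exact ⟨q, ⟨T, hT, hq⟩, hq'⟩) {x} ⟨isIrreducible_singleton, Set.singleton_subset_iff.2 hx⟩
  exact ⟨C, hC, hsubC rfl⟩

/-- Positive degree on the components of the closed fibre forces ampleness. -/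
theorem isAmple_of_inter_pos (Y : Over (Spec (CommRingCat.of R))) [IsIntegral Y.left] [IsProper Y.hom] [Flat Y.hom]
    (hdim : topologicalKrullDim Y.left = 2) {L : Y.left.Modules} (hL : PicF.IsInvertible L)
    (h : ∀ Δ : ArSurf.VertComp R Y, Set.range Δ.ι.base ∈ Models.fibreComponents R Y → 0 < ArSurf.inter R Y L Δ) :
    CohB1.IsAmple L := by
  classical
  obtain ⟨n, Δ, hΔ⟩ := CompList.exists_componentList hdim
  let J := IsLocalRing.maximalIdeal R
  letI : Y.left.Over (Spec (CommRingCat.of R)) := ⟨Y.hom⟩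
  haveI : IsProper (Y.left ↘ Spec (CommRingCat.of R)) := inferInstanceAs (IsProper Y.hom)
  refine AmpleVan.FibreVanish.isAmple_of_level0 (A := R) hL ?_
  let i0 := CohB1.thickι Y.hom J 0
  show CohB1.IsAmple ((Scheme.Modules.pullback i0).obj L)
  let Z0 := CohB1.thick Y.hom J 0
  haveI hq : IsClosedImmersion (CohB1.specQuot J 0) := by
    refine IsClosedImmersion.spec_of_surjective _ ?_
    exact Ideal.Quotient.mk_surjective
  haveI : IsClosedImmersion i0 := inferInstanceAs (IsClosedImmersion (pullback.fst _ _))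
  letI : Z0.Over (Spec (CommRingCat.of R)) := ⟨i0 ≫ Y.hom⟩
  haveI : IsProper (Z0 ↘ Spec (CommRingCat.of R)) := inferInstanceAs (IsProper (i0 ≫ Y.hom))
  have hr : Set.range i0 ⊆ Models.specialFibreSet R Y := by
    rintro _ ⟨z, rfl⟩
    show Y.hom (i0 z) = IsLocalRing.closedPoint R
    rw [← Scheme.Hom.comp_apply, show i0 ≫ Y.hom = pullback.snd Y.hom (CohB1.specQuot J 0) ≫ CohB1.specQuot J 0
      from pullback.condition, Scheme.Hom.comp_apply]
    generalize (pullback.snd Y.hom (CohB1.specQuot J 0)) z = q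
    refine PrimeSpectrum.ext (((IsLocalRing.maximalIdeal.isMaximal R).eq_of_le (PrimeSpectrum.isPrime _).ne_top ?_).symm)
    intro a ha
    show Ideal.Quotient.mk (J ^ (0 + 1)) a ∈ (q : PrimeSpectrum (R ⧸ J ^ (0 + 1))).asIdeal
    rw [Ideal.Quotient.eq_zero_iff_mem.2 (by rwa [zero_add, pow_one])]
    exact Ideal.zero_mem _
  let C : Fin n → Closeds Z0 := fun j =>
    ⟨i0 ⁻¹' Set.range (Δ j).ι.base, ((Δ j).ι.isClosedEmbedding.isClosed_range).preimage i0.continuous⟩
  refine AmpleVan.FiniteSurj.isAmple_of_finite_cover (A := R) (PicClLib.isInvertible_pullback i0 hL)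
    (Finset.univ.image C) ?_ fun D hD => ?_
  · refine top_le_iff.1 fun z _ => ?_
    obtain ⟨S, hS, hzS⟩ := exists_component_mem (hr ⟨z, rfl⟩)
    obtain ⟨j, hj⟩ := hΔ.2.symm ▸ hS
    exact (Finset.le_sup (f := id) (Finset.mem_image.2 ⟨j, Finset.mem_univ j, rfl⟩) : C j ≤ _)
      (show i0 z ∈ Set.range (Δ j).ι.base by rw [show Set.range (Δ j).ι.base = S from hj]; exact hzS)
  obtain ⟨j, -, rfl⟩ := Finset.mem_image.1 hD
  haveI := (Δ j).isClosedImmersion
  haveI := (Δ j).isIntegral
  haveI := ArInter.isProper_curve (Δ j)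
  haveI : CompactSpace Y.left := QuasiCompact.compactSpace_of_compactSpace Y.hom
  let κ := CommRingCat.ofHom ((Ideal.quotEquivOfEq (show J ^ (0 + 1) = J by rw [zero_add, pow_one])).toRingHom)
  let u : (Δ j).curve.left ⟶ Z0 := pullback.lift (Δ j).ι ((Δ j).curve.hom ≫ Spec.map κ) (by
    rw [(Δ j).w, Category.assoc]
    congr 1
    show _ = Spec.map κ ≫ Spec.map (CommRingCat.ofHom _)
    rw [← Spec.map_comp]
    rfl)
  have hu : u ≫ i0 = (Δ j).ι := pullback.lift_fst _ _ _
  haveI : IsClosedImmersion (u ≫ i0) := hu ▸ inferInstance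
  haveI : IsClosedImmersion u := IsClosedImmersion.of_comp u i0
  have hur : Set.range u = i0 ⁻¹' Set.range (Δ j).ι.base := by
    ext z
    refine ⟨?_, ?_⟩
    · rintro ⟨c, rfl⟩
      exact ⟨c, by rw [← Scheme.Hom.comp_apply, hu]⟩
    · rintro ⟨c, hc⟩
      refine ⟨c, i0.isClosedEmbedding.injective ?_⟩
      rw [← Scheme.Hom.comp_apply, hu]
      exact hc
  let I := Scheme.IdealSheafData.vanishingIdeal (C j)
  let w : (Δ j).curve.left ⟶ I.subscheme := IsClosedImmersion.lift I.subschemeι u (by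
    rw [Scheme.IdealSheafData.ker_subschemeι]
    exact vanishingIdeal_le_ker u (C j) hur.le)
  have hw : w ≫ I.subschemeι = u := IsClosedImmersion.lift_fac _ _ _
  haveI : IsClosedImmersion (w ≫ I.subschemeι) := hw ▸ inferInstance
  haveI : IsClosedImmersion w := IsClosedImmersion.of_comp w I.subschemeι
  haveI : Surjective w := ⟨fun p => by
    have hp : I.subschemeι p ∈ (C j : Set Z0) := (AmpleVan.FiniteSurj.range_vanishingIdeal (C j)).le ⟨p, rfl⟩
    obtain ⟨c, hc⟩ := hur.ge hp
    refine ⟨c, I.subschemeι.isClosedEmbedding.injective ?_⟩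
    rw [← Scheme.Hom.comp_apply, hw, hc]⟩
  letI : I.subscheme.Over (Spec (CommRingCat.of R)) := ⟨I.subschemeι ≫ i0 ≫ Y.hom⟩
  haveI : IsProper (I.subscheme ↘ Spec (CommRingCat.of R)) :=
    inferInstanceAs (IsProper (I.subschemeι ≫ i0 ≫ Y.hom))
  refine AmpleVan.FiniteSurj.isAmple_of_finite_surjective (A := R) w
    (PicClLib.isInvertible_pullback _ (PicClLib.isInvertible_pullback i0 hL)) ?_
  have hLj := PicClLib.isInvertible_pullback (Δ j).ι hL
  refine AmpleX.isAmple_of_iso ?_ (CurveAmple.isAmple_of_deg_pos (k := IsLocalRing.ResidueField R) (Δ j).dim_eq hLj ?_)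
  · exact (Scheme.Modules.pullbackCongr hu.symm).app L ≪≫ ((Scheme.Modules.pullbackComp u i0).app L).symm ≪≫
      (Scheme.Modules.pullbackCongr hw.symm).app _ ≪≫ ((Scheme.Modules.pullbackComp w I.subschemeι).app _).symm
  · rw [← ArInter.curveDeg_eq (Δ j) hLj]
    exact h (Δ j) (hΔ.2 ▸ ⟨j, rfl⟩)

end Groth.Agent.H26.DedMin
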