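import Groth.Agent.H26.DedMin.BCEtale
import Groth.Agent.RegBlow6.Regular
import Mathlib.RingTheory.AdicCompletion.LocalRing

/-!
# Arithmetic surfaces and completion of the base
-/

noncomputable section

set_option autoImplicit false
set_option linter.style.haveILetI false
set_option linter.unusedSectionVars false
set_option backward.isDefEq.respectTransparency false
set_option backward.isDefEq.respectTransparency.types false
set_option maxHeartbeats 1000000

universe u

open CategoryTheory CategoryTheory.Limits AlgebraicGeometry TopologicalSpace IsLocalRing TensorProduct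

namespace Groth.Agent.H26.DedMin

open Groth.Agent Groth.Agent.H23 Groth.Agent.H28

/-- The completion is unramified with trivial residue extension. -/
theorem compl_facts (R : Type u) [CommRing R] [IsDomain R] [IsDiscreteValuationRing R]
    (R' : Type u) [CommRing R'] [IsDomain R'] [IsDiscreteValuationRing R'] [Algebra R R']
    (e : R' ≃ₐ[R] AdicCompletion (IsLocalRing.maximalIdeal R) R) :
    Function.Injective (algebraMap R R') ∧
      (maximalIdeal R).map (algebraMap R R') = maximalIdeal R' ∧
      ∀ x : R', ∃ r : R, x - algebraMap R R' r ∈ maximalIdeal R' := by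
  have hfg : (maximalIdeal R).FG := (maximalIdeal R).fg_of_isNoetherianRing
  let C := AdicCompletion (maximalIdeal R) R
  have hC := AdicCompletion.maximalIdeal_eq_map_of_fg hfg
  have hmax : (maximalIdeal R).map (algebraMap R R') = maximalIdeal R' := by
    have h1 : (maximalIdeal R).map (algebraMap R R') = (maximalIdeal C).map (e.symm : C →+* R') := by
      rw [hC, Ideal.map_map]
      congr 1
      exact (RingHom.ext fun a => e.symm.commutes a).symm
    rw [h1]
    haveI : ((maximalIdeal C).map (e.symm : C →+* R')).IsMaximal :=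
      Ideal.map_isMaximal_of_equiv e.symm.toRingEquiv
    exact IsLocalRing.eq_maximalIdeal inferInstance
  refine ⟨?_, hmax, fun x => ?_⟩
  · intro a b hab
    have h := congrArg e hab
    rw [e.commutes, e.commutes] at h
    haveI : IsHausdorff (maximalIdeal R) R := inferInstance
    exact AdicCompletion.of_injective (maximalIdeal R) R h
  · obtain ⟨r, hr⟩ := Ideal.Quotient.mk_surjective (AdicCompletion.evalOneₐ (maximalIdeal R) (e x))
    refine ⟨r, ?_⟩
    have h2 : e x - algebraMap R C r ∈ maximalIdeal C := by
      rw [hC, ← AdicCompletion.ker_evalOneₐ_eq_map (maximalIdeal R) hfg]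
      show AdicCompletion.evalOneₐ (maximalIdeal R) (e x - algebraMap R C r) = 0
      rw [map_sub, sub_eq_zero, AlgHom.commutes]
      exact hr.symm
    have h3 : (e.symm : C →+* R') (e x - algebraMap R C r) ∈ (maximalIdeal C).map (e.symm : C →+* R') :=
      Ideal.mem_map_of_mem _ h2
    have h4 : (maximalIdeal C).map (e.symm : C →+* R') = maximalIdeal R' := by
      rw [hC, Ideal.map_map, ← hmax]
      congr 1
      exact RingHom.ext fun a => e.symm.commutes a
    rw [h4] at h3
    convert h3 using 1
    show _ = e.symm (e x - algebraMap R C r)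
    rw [map_sub, e.symm.commutes]
    exact congrArg (· - algebraMap R R' r) (AlgEquiv.symm_apply_apply e x).symm

variable {A A' : Type u} [CommRing A] [IsDomain A] [IsDiscreteValuationRing A]
  [CommRing A'] [IsDomain A'] [IsDiscreteValuationRing A'] [Algebra A A']
  (hinj : Function.Injective (algebraMap A A'))
  (hmax : (maximalIdeal A).map (algebraMap A A') = maximalIdeal A')
  (hres : ∀ x : A', ∃ r : A, x - algebraMap A A' r ∈ maximalIdeal A')

include hmax in
theorem isLocalHom_of_max : IsLocalHom (algebraMap A A') :=
  ((IsLocalRing.local_hom_TFAE (algebraMap A A')).out 2 0).1 hmax.le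

include hmax in
theorem surjective_base (hinj : Function.Injective (algebraMap A A')) :
    Surjective (Spec.map (CommRingCat.ofHom (algebraMap A A'))) := by
  haveI := isLocalHom_of_max hmax
  refine ⟨fun t => ?_⟩
  by_cases ht : t.asIdeal = ⊥
  · refine ⟨⟨⊥, Ideal.bot_prime⟩, PrimeSpectrum.ext ?_⟩
    rw [ht]
    show Ideal.comap (algebraMap A A') ⊥ = ⊥
    rw [← RingHom.ker_eq_comap_bot, ← RingHom.injective_iff_ker_eq_bot]
    exact hinj
  · refine ⟨closedPoint A', PrimeSpectrum.ext ?_⟩
    show Ideal.comap (algebraMap A A') (maximalIdeal A') = t.asIdeal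
    rw [IsLocalRing.maximalIdeal_comap, IsLocalRing.eq_maximalIdeal (t.isPrime.isMaximal ht)]

include hinj in
theorem flat_base : Flat (Spec.map (CommRingCat.ofHom (algebraMap A A'))) := by
  rw [HasRingHomProperty.Spec_iff (P := @Flat)]
  refine RingHom.flat_algebraMap_iff.2 ?_
  haveI : FaithfulSMul A A' := (faithfulSMul_iff_algebraMap_injective _ _).2 hinj
  infer_instance

include hmax hres in
/-- The closed fibre of the base extension is trivial. -/
theorem bijective_includeRight :
    Function.Bijective (Algebra.TensorProduct.includeRight :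
      ResidueField A →ₐ[A] A' ⊗[A] ResidueField A) := by
  haveI := isLocalHom_of_max hmax
  constructor
  · letI : Algebra (ResidueField A) (ResidueField A') := (IsLocalRing.ResidueField.map (algebraMap A A')).toAlgebra
    haveI : Nontrivial (A' ⊗[A] ResidueField A) := by
      let r : ResidueField A →ₐ[A] ResidueField A' :=
        { IsLocalRing.ResidueField.map (algebraMap A A') with
          commutes' := fun a => rfl }
      let l : A' →ₐ[A] ResidueField A' := IsScalarTower.toAlgHom A A' _
      exact (Algebra.TensorProduct.lift l r fun _ _ => Commute.all _ _).toRingHom.domain_nontrivial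
    exact (Algebra.TensorProduct.includeRight (R := A) (A := A') (B := ResidueField A)).toRingHom.injective
  · intro z
    have h0 : ∀ x ∈ maximalIdeal A', x ⊗ₜ[A] (1 : ResidueField A) = 0 := by
      intro x hx
      have hle : (maximalIdeal A).map (algebraMap A A') ≤
          RingHom.ker (Algebra.TensorProduct.includeLeftRingHom : A' →+* A' ⊗[A] ResidueField A) := by
        rw [Ideal.map_le_iff_le_comap]
        intro a ha
        rw [Ideal.mem_comap, RingHom.mem_ker]
        show algebraMap A A' a ⊗ₜ[A] (1 : ResidueField A) = 0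
        rw [Algebra.algebraMap_eq_smul_one, TensorProduct.smul_tmul, ← Algebra.algebraMap_eq_smul_one,
          show algebraMap A (ResidueField A) a = 0 from (IsLocalRing.residue_eq_zero_iff a).2 ha,
          TensorProduct.tmul_zero]
      rw [hmax] at hle
      exact hle hx
    induction z using TensorProduct.induction_on with
    | zero => exact ⟨0, map_zero _⟩
    | add a b ha hb =>
      obtain ⟨a, rfl⟩ := ha
      obtain ⟨b, rfl⟩ := hb
      exact ⟨a + b, map_add _ _ _⟩
    | tmul x y =>
      obtain ⟨b, rfl⟩ := IsLocalRing.residue_surjective y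
      obtain ⟨c, hc⟩ := hres x
      refine ⟨IsLocalRing.residue A (c * b), ?_⟩
      have h1 := h0 _ hc
      rw [TensorProduct.sub_tmul, sub_eq_zero] at h1
      have h2 : x ⊗ₜ[A] IsLocalRing.residue A b = b • (x ⊗ₜ[A] (1 : ResidueField A)) := by
        rw [← TensorProduct.tmul_smul, ← Algebra.algebraMap_eq_smul_one]
        rfl
      rw [h2, h1, Algebra.algebraMap_eq_smul_one, TensorProduct.smul_tmul', ← mul_smul, TensorProduct.smul_tmul,
        ← Algebra.algebraMap_eq_smul_one, mul_comm]
      rfl

include hmax hres in
theorem isIso_closedFibre :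
    IsIso (pullback.snd (Spec.map (CommRingCat.ofHom (algebraMap A A')))
      (Spec.map (CommRingCat.ofHom (IsLocalRing.residue A)))) := by
  haveI : IsIso (CommRingCat.ofHom (Algebra.TensorProduct.includeRight :
      ResidueField A →ₐ[A] A' ⊗[A] ResidueField A).toRingHom) :=
    (ConcreteCategory.isIso_iff_bijective _).2 (bijective_includeRight hmax hres)
  have h := pullbackSpecIso_inv_snd A A' (ResidueField A)
  rw [Iso.inv_comp_eq] at h
  show IsIso (pullback.snd (Spec.map (CommRingCat.ofHom (algebraMap A A')))
      (Spec.map (CommRingCat.ofHom (algebraMap A (ResidueField A)))))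
  rw [h]
  refine @IsIso.comp_isIso _ _ _ _ _ _ _ inferInstance ?_
  exact inferInstanceAs (IsIso (Spec.map (CommRingCat.ofHom (Algebra.TensorProduct.includeRight :
      ResidueField A →ₐ[A] A' ⊗[A] ResidueField A).toRingHom)))

variable (X : Over (Spec (CommRingCat.of A)))

include hinj hmax hres in
/-- Regularity and dimension at points of the closed fibre. -/
theorem regular_dim_compl [IsProper X.hom] (hreg : ∀ z : X.left, IsRegularLocalRing (X.left.presheaf.stalk z))
    (x' : (pullback X.hom (Spec.map (CommRingCat.ofHom (algebraMap A A'))) : Scheme.{u}))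
    (hx' : pullback.snd X.hom (Spec.map (CommRingCat.ofHom (algebraMap A A'))) x' = closedPoint A') :
    IsRegularLocalRing ((pullback X.hom (Spec.map (CommRingCat.ofHom (algebraMap A A')))).presheaf.stalk x') ∧
      ringKrullDim ((pullback X.hom (Spec.map (CommRingCat.ofHom (algebraMap A A')))).presheaf.stalk x') =
        ringKrullDim (X.left.presheaf.stalk (pullback.fst X.hom (Spec.map (CommRingCat.ofHom (algebraMap A A'))) x')) := by
  haveI := isLocalHom_of_max hmax
  haveI := flat_base hinj
  let j := Spec.map (CommRingCat.ofHom (algebraMap A A'))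
  let π := pullback.fst X.hom j
  haveI : IsLocallyNoetherian (pullback X.hom j : Scheme.{u}) :=
    LocallyOfFiniteType.isLocallyNoetherian (pullback.snd X.hom j)
  haveI : IsLocallyNoetherian X.left := LocallyOfFiniteType.isLocallyNoetherian X.hom
  haveI := hreg (π x')
  refine regular_dim_of_map_eq π x' ?_
  let x := π x'
  -- the fibre is a point
  let c : Spec (X.left.residueField x) ⟶ Spec (CommRingCat.of A) := X.left.fromSpecResidueField x ≫ X.hom
  have hcl : ∀ w, c w = closedPoint A := fun w => by
    show (X.left.fromSpecResidueField x ≫ X.hom) w = closedPoint A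
    rw [Scheme.Hom.comp_apply, Scheme.fromSpecResidueField_apply, ← Scheme.Hom.comp_apply,
      pullback.condition, Scheme.Hom.comp_apply]
    refine (congrArg j hx').trans (PrimeSpectrum.ext ?_)
    exact IsLocalRing.maximalIdeal_comap (algebraMap A A')
  obtain ⟨g, hg⟩ := H26.CompList.exists_fac c hcl
  let res := Spec.map (CommRingCat.ofHom (IsLocalRing.residue A))
  haveI : IsIso (pullback.snd j res) := isIso_closedFibre hmax hres
  haveI : IsIso (pullback.snd j c) := by
    have hw : (pullback.lift (pullback.fst j c) (pullback.snd j c ≫ g)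
        (by rw [Category.assoc, hg]; exact pullback.condition)) ≫ pullback.snd j res = pullback.snd j c ≫ g :=
      pullback.lift_snd _ _ _
    exact MorphismProperty.of_isPullback (P := MorphismProperty.isomorphisms Scheme.{u})
      (IsPullback.of_right (by rw [pullback.lift_fst, hg]; exact (IsPullback.of_hasPullback j c).flip.flip) hw
        (IsPullback.of_hasPullback j res)) ‹IsIso (pullback.snd j res)›
  have hF : IsPullback (π.fiberι x ≫ pullback.snd X.hom j) (π.fiberToSpecResidueField x) j c :=
    (((IsPullback.of_hasPullback π (X.left.fromSpecResidueField x)).flip.paste_vert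
      (IsPullback.of_hasPullback X.hom j))).flip
  haveI : IsIso (π.fiberToSpecResidueField x) := by
    rw [← hF.isoPullback_hom_snd]
    infer_instance
  let w : π.fiber x := π.asFiber x'
  have hwx : π.fiberι x w = x' := π.fiberι_asFiber x'
  haveI : IsIntegral (Spec (X.left.residueField x)) := inferInstance
  have hfield : IsField ((π.fiber x).presheaf.stalk w) := by
    refine MulEquiv.isField ?_ (asIso ((π.fiberToSpecResidueField x).stalkMap w)).commRingCatIsoToRingEquiv.symm.toMulEquiv
    haveI : Subsingleton (Spec (X.left.residueField x) : Scheme.{u}) :=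
      inferInstanceAs (Subsingleton (PrimeSpectrum (X.left.residueField x)))
    rw [Subsingleton.elim (π.fiberToSpecResidueField x w) (genericPoint _)]
    exact CurveBundle.isField_stalk_generic
  suffices h : ∀ y, y = π.fiberι x w →
      (maximalIdeal (X.left.presheaf.stalk (π y))).map (π.stalkMap y).hom =
        maximalIdeal ((pullback X.hom j).presheaf.stalk y) from h x' hwx.symm
  rintro _ rfl
  rw [← FlatDvr.ker_stalkMap_fiberι π w]
  letI := hfield.toField
  exact IsLocalRing.eq_maximalIdeal (RingHom.ker_isMaximal_of_surjective _ ((π.fiberι x).stalkMap_surjective w))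

include hinj hmax hres in
theorem isArithSurface_compl (hX : ArSurf.IsArithSurface A X)
    [IsIntegral ((Over.pullback (Spec.map (CommRingCat.ofHom (algebraMap A A')))).obj X).left] :
    ArSurf.IsArithSurface A' ((Over.pullback (Spec.map (CommRingCat.ofHom (algebraMap A A')))).obj X) := by
  obtain ⟨hreg, hint, hdim, hflat, hproj⟩ := hX
  let j := Spec.map (CommRingCat.ofHom (algebraMap A A'))
  haveI := flat_base hinj
  haveI := surjective_base hmax hinj
  let π : pullback X.hom j ⟶ X.left := pullback.fst X.hom j
  let p : pullback X.hom j ⟶ Spec (CommRingCat.of A') := pullback.snd X.hom j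
  haveI : IsProper X.hom := by
    obtain ⟨n, i, hi, hc⟩ := hproj
    haveI := hi
    haveI := MultiP1.isProper_toBase (X := Spec (CommRingCat.of A)) n
    exact hc ▸ inferInstance
  haveI : IsLocallyNoetherian (pullback X.hom j : Scheme.{u}) := LocallyOfFiniteType.isLocallyNoetherian p
  haveI : IsLocallyNoetherian X.left := LocallyOfFiniteType.isLocallyNoetherian X.hom
  have hcl : ∀ {S : Type u} [CommRing S] [IsLocalRing S] {Z : Scheme.{u}} (f : Z ⟶ Spec (CommRingCat.of S))
      [IsProper f] (z : Z), IsClosed ({z} : Set Z) → f z = closedPoint S := fun f _ z hz => by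
    have h := f.isClosedMap _ hz
    rw [Set.image_singleton] at h
    exact (Set.mem_singleton_iff.1 ((IsLocalRing.specializes_closedPoint _).mem_closed h rfl)).symm
  have hmono : ∀ {Z : Scheme.{u}} {z x : Z}, z ⤳ x →
      ringKrullDim (Z.presheaf.stalk z) ≤ ringKrullDim (Z.presheaf.stalk x) := fun {Z z x} h => by
    rw [ringKrullDim_stalk_eq_coheight, ringKrullDim_stalk_eq_coheight]
    exact WithBot.coe_le_coe.2 (Order.coheight_anti (show x ≤ z from h))
  have hkey : ∀ Z : Scheme.{u}, Nonempty Z →
      topologicalKrullDim Z = ⨆ z : Z, ringKrullDim (Z.presheaf.stalk z) := fun Z hZ => by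
    rw [topologicalKrullDim, Order.krullDim_eq_of_orderIso irreducibleSetEquivPoints,
      Order.krullDim_eq_iSup_coheight_of_nonempty, WithBot.coe_iSup (OrderTop.bddAbove _)]
    exact iSup_congr fun z => (ringKrullDim_stalk_eq_coheight z).symm
  haveI hintX' : IsIntegral (pullback X.hom j : Scheme.{u}) :=
    inferInstanceAs (IsIntegral ((Over.pullback j).obj X).left)
  refine ⟨fun z => ?_, inferInstance, ?_, inferInstanceAs (Flat p), isProjectiveOver_bc _ hproj π (IsPullback.of_hasPullback X.hom j)⟩
  · obtain ⟨x', hzx, hx'⟩ := SchTop.exists_isClosed_specializes (X := pullback X.hom j) z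
    haveI : IsRegularLocalRing (((Over.pullback (Spec.map (CommRingCat.ofHom (algebraMap A A')))).obj X).left.presheaf.stalk x') :=
      (regular_dim_compl hinj hmax hres X hreg x' (hcl p x' hx')).1
    exact RegBlow6.isRegularLocalRing_of_specializes hzx
  · show topologicalKrullDim (pullback X.hom j : Scheme.{u}) = 2
    rw [← hdim, hkey _ ⟨genericPoint _⟩, hkey _ ⟨π (genericPoint _)⟩]
    refine le_antisymm (iSup_le fun z => ?_) (iSup_le fun z => ?_)
    · obtain ⟨x', hzx, hx'⟩ := SchTop.exists_isClosed_specializes z
      refine (hmono hzx).trans ?_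
      rw [(regular_dim_compl hinj hmax hres X hreg x' (hcl p x' hx')).2]
      exact le_iSup (fun z => ringKrullDim (X.left.presheaf.stalk z)) (π x')
    · obtain ⟨x, hzx, hx⟩ := SchTop.exists_isClosed_specializes z
      obtain ⟨x', hx₁, hx₂⟩ := Scheme.Pullback.exists_preimage_pullback (f := X.hom) (g := j) x (closedPoint A') (by
        rw [hcl X.hom x hx]
        refine PrimeSpectrum.ext ?_
        haveI := isLocalHom_of_max hmax
        exact (IsLocalRing.maximalIdeal_comap (algebraMap A A')).symm)
      refine (hmono hzx).trans ?_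
      rw [← hx₁, ← (regular_dim_compl hinj hmax hres X hreg x' hx₂).2]
      exact le_iSup (fun z => ringKrullDim ((pullback X.hom j).presheaf.stalk z)) x'

include hinj hmax hres in
theorem relMinimal_iff_compl (hX : ArSurf.IsArithSurface A X)
    (hg : FGA.eulerCharLE (FractionRing A) ((Neron.genericFibre A).obj X).left (Coh.structureModule _) 1 ≤ 0)
    [IsIntegral ((Over.pullback (Spec.map (CommRingCat.ofHom (algebraMap A A')))).obj X).left] :
    Neron.IsRelMinimalRegularModel A X ↔
      Neron.IsRelMinimalRegularModel A' ((Over.pullback (Spec.map (CommRingCat.ofHom (algebraMap A A')))).obj X) := by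
  haveI := isLocalHom_of_max hmax
  let φ := algebraMap A A'
  let j := Spec.map (CommRingCat.ofHom φ)
  let X' := (Over.pullback j).obj X
  let π : X'.left ⟶ X.left := pullback.fst X.hom j
  have sq : IsPullback π X'.hom X.hom j := IsPullback.of_hasPullback X.hom j
  have hX' := isArithSurface_compl hinj hmax hres X hX
  let ψ : ResidueField A →+* ResidueField A' := IsLocalRing.ResidueField.map φ
  have hψ : Function.Bijective ψ := by
    refine ⟨ψ.injective, fun y => ?_⟩
    obtain ⟨x, rfl⟩ := IsLocalRing.residue_surjective y
    obtain ⟨r, hr⟩ := hres x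
    refine ⟨IsLocalRing.residue A r, ?_⟩
    rw [IsLocalRing.ResidueField.map_residue]
    exact ((Ideal.Quotient.eq).2 hr).symm
  haveI hproper : IsProper X.hom := by
    obtain ⟨-, -, -, -, n, i, hi, hc⟩ := id hX
    haveI := hi
    haveI := MultiP1.isProper_toBase (X := Spec (CommRingCat.of A)) n
    exact hc ▸ inferInstance
  constructor
  · intro hmin
    refine relMinimal_of_no_exc X' hX' fun {t} ht {E} ι _ hE => no_exc_of_vert ?_ ht ι hE
    exact nef_bc φ π sq hX hX' (flat_base hinj) (RingHom.Finite.of_surjective _ hψ.2) hmin hg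
  · intro hmin'
    refine relMinimal_of_no_exc X hX fun {t} ht {E} ι _ hE => no_exc_of_vert (fun Γ hΓ => ?_) ht ι hE
    have hg' : FGA.eulerCharLE (FractionRing A') ((Neron.genericFibre A').obj X').left (Coh.structureModule _) 1 ≤ 0 :=
      le_of_eq_of_le (euler_bc φ hinj π sq) hg
    obtain ⟨ω, -, hω⟩ := exists_canonical_surface hX
    obtain ⟨ω', -, hω'⟩ := exists_canonical_surface hX'
    have hnef := (S13321.result A' X' hX' hg' ω' hω').1 hmin'
    obtain ⟨eω⟩ := canonical_bc φ π sq hX hX' (flat_base hinj) ω hω ω' hω'
    have hneg := Adjunction.canonical_neg_of_isExcCurve hX hω Γ hΓ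
    let ψ' := Spec.map (CommRingCat.ofHom ψ)
    haveI : IsIso (CommRingCat.ofHom ψ) := (ConcreteCategory.isIso_iff_bijective _).2 hψ
    let res := Spec.map (CommRingCat.ofHom (IsLocalRing.residue A))
    let res' := Spec.map (CommRingCat.ofHom (IsLocalRing.residue A'))
    have hρ : res' ≫ j = ψ' ≫ res := by
      rw [← Spec.map_comp, ← Spec.map_comp]
      rfl
    haveI := Γ.isClosedImmersion
    let h' := Γ.curve.hom ≫ inv ψ'
    let l : Γ.curve.left ⟶ X'.left := sq.lift Γ.ι (h' ≫ res') (by
      rw [Category.assoc, hρ, Category.assoc, IsIso.inv_hom_id_assoc]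
      exact Γ.w)
    have hl : l ≫ π = Γ.ι := sq.lift_fst _ _ _
    haveI : IsSeparated π := inferInstanceAs (IsSeparated (pullback.fst X.hom j))
    haveI : IsClosedImmersion (l ≫ π) := hl.symm ▸ inferInstance
    haveI : IsClosedImmersion l := IsClosedImmersion.of_comp l π
    let Γ' : ArSurf.VertComp A' X' :=
      ⟨Over.mk h', l, inferInstance, Γ.isIntegral, Γ.dim_eq, sq.lift_snd _ _ _⟩
    have h0 : 0 ≤ Pic13.curveDeg (ResidueField A') h' ((Scheme.Modules.pullback Γ.ι).obj ω) := by
      rw [Pic13Lib.NumTriv.curveDeg_congr _ h' ((Scheme.Modules.pullbackCongr hl.symm).app ω ≪≫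
        ((Scheme.Modules.pullbackComp l π).app ω).symm ≪≫ (Scheme.Modules.pullback l).mapIso eω)]
      exact hnef Γ'
    obtain ⟨d, hd⟩ : ∃ d : ℕ, ArSurf.inter A X ω Γ =
        d * Pic13.curveDeg (ResidueField A') h' ((Scheme.Modules.pullback Γ.ι).obj ω) :=
      ⟨_, curveDeg_restrict _ _ ψ h' Γ.curve.hom (by rw [Category.assoc, IsIso.inv_hom_id, Category.comp_id]) _⟩
    rw [hd] at hneg
    exact absurd hneg (not_lt.2 (mul_nonneg (Int.natCast_nonneg _) h0))

end Groth.Agent.H26.DedMin
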