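import Groth.Agent.H26.DedMin.Min
import Groth.Agent.H26.InterDiv
import Groth.Agent.H26.InterSymm
import Groth.Agent.DivX.CodimOne
import Groth.Agent.AmpleNear22.Main
import Groth.Agent.S7642
import Groth.Agent.S4381
import Groth.Agent.S2821
import Groth.Agent.Lib.AmpleEmbed

/-!
# Regular proper surfaces over a discrete valuation ring are projective
-/

noncomputable section

set_option autoImplicit false
set_option linter.style.haveILetI false
set_option linter.unusedSectionVars false
set_option backward.isDefEq.respectTransparency false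
set_option backward.isDefEq.respectTransparency.types false
set_option maxHeartbeats 1000000

universe u

open CategoryTheory CategoryTheory.Limits AlgebraicGeometry TopologicalSpace IsLocalRing

namespace Groth.Agent.H26.DedMin

open Groth.Agent

/-- The point of the closed point factors through the residue field. -/
theorem exists_fac_closedPoint {R : Type u} [CommRing R] [IsDomain R] [IsDiscreteValuationRing R]
    (t : Spec (CommRingCat.of R)) (ht : t = closedPoint R) :
    ∃ g' : Spec ((Spec (CommRingCat.of R)).residueField t) ⟶ Spec (CommRingCat.of (ResidueField R)),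
      g' ≫ Spec.map (CommRingCat.ofHom (IsLocalRing.residue R)) =
        (Spec (CommRingCat.of R)).fromSpecResidueField t :=
  H26.CompList.exists_fac (R := R) ((Spec (CommRingCat.of R)).fromSpecResidueField t)
    (fun w => (Scheme.fromSpecResidueField_apply t w).trans ht)

variable {R : Type u} [CommRing R] [IsDomain R] [IsDiscreteValuationRing R]
  (X : Over (Spec (CommRingCat.of R))) [IsProper X.hom] [Flat X.hom] [IsIntegral X.left]
  (hreg : ∀ z : X.left, IsRegularLocalRing (X.left.presheaf.stalk z))
  (hdim : topologicalKrullDim X.left = 2)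
include hreg hdim

/-- A chain of length three does not exist. -/
theorem not_chain3 {a b c d : X.left} (h1 : a < b) (h2 : b < c) (h3 : c < d) : False := by
  let q : LTSeries X.left :=
    (((RelSeries.singleton _ d : LTSeries X.left).cons c h3).cons b h2).cons a h1
  have h : (3 : WithBot ℕ∞) ≤ topologicalKrullDim X.left := by
    rw [topologicalKrullDim, Order.krullDim_eq_of_orderIso (irreducibleSetEquivPoints (α := X.left))]
    exact le_of_eq_of_le (by simp [q]) (Order.LTSeries.length_le_krullDim q)
  rw [hdim] at h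
  exact absurd h (by decide)

/-- Through a closed point of a vertical curve passes a horizontal prime divisor. -/
theorem exists_horizontal (Γ : ArSurf.VertComp R X) :
    ∃ I : X.left.IdealSheafData, BlowUp.IsEffCartierIdeal I ∧
      ¬ Disjoint (Set.range Γ.ι.base) (I.support : Set X.left) ∧
      ∀ Γ' : ArSurf.VertComp R X, Models.genPtOf R X Γ' ∉ (I.support : Set X.left) := by
  classical
  haveI : IsLocallyNoetherian X.left := LocallyOfFiniteType.isLocallyNoetherian X.hom
  obtain ⟨ϖ, hirr⟩ := IsDiscreteValuationRing.exists_irreducible R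
  have hclp : ∀ t : Spec (CommRingCat.of R), t = closedPoint R ↔ ϖ ∈ t.asIdeal := fun t => by
    constructor
    · rintro rfl
      exact hirr.not_isUnit
    · intro h
      refine PrimeSpectrum.ext ((IsLocalRing.maximalIdeal.isMaximal R).eq_of_le t.isPrime.ne_top ?_).symm
      rw [hirr.maximalIdeal_eq, Ideal.span_singleton_le_iff_mem]
      exact h
  have hvert : ∀ (Γ' : ArSurf.VertComp R X) (a : Γ'.curve.left), X.hom (Γ'.ι a) = closedPoint R := fun Γ' a => by
    rw [← Scheme.Hom.comp_apply, Γ'.w, Scheme.Hom.comp_apply]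
    generalize Γ'.curve.hom a = w
    refine PrimeSpectrum.ext ?_
    show Ideal.comap (IsLocalRing.residue R) w.asIdeal = IsLocalRing.maximalIdeal R
    rw [(Ideal.eq_bot_or_top w.asIdeal).resolve_right w.isPrime.ne_top, ← RingHom.ker_eq_comap_bot,
      IsLocalRing.ker_residue]
  have hgenR : X.hom (genericPoint X.left) ≠ closedPoint R := by
    obtain ⟨η', -, hη'⟩ := Flat.generalizingMap (f := X.hom) (genericPoint_specializes (X.hom (genericPoint X.left)))
    rw [(((genericPoint_specializes η').map X.hom.continuous).trans (specializes_of_eq hη') |>.antisymm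
      (genericPoint_specializes _)).eq, genericPoint_eq_bot_of_affine (CommRingCat.of R)]
    intro h
    exact hirr.ne_zero (Ideal.mem_bot.1 ((hclp _).1 h))
  obtain ⟨c, hc⟩ : ∃ c : Γ.curve.left, c ≠ genericPoint Γ.curve.left := by
    by_contra hall
    simp only [not_exists, not_not] at hall
    haveI : Subsingleton Γ.curve.left := ⟨fun a b => (hall a).trans (hall b).symm⟩
    have h0 : topologicalKrullDim Γ.curve.left ≤ 0 := topologicalKrullDim_zero_of_discreteTopology _
    rw [Γ.dim_eq] at h0
    exact absurd h0 (by decide)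
  let x : X.left := Γ.ι c
  let γ : X.left := Models.genPtOf R X Γ
  have hxγ : x < γ := lt_of_le_of_ne (show x ≤ γ from (genericPoint_specializes c).map Γ.ι.continuous)
    fun h => hc (Γ.ι.isClosedEmbedding.injective h)
  have hgenlt : ∀ Γ' : ArSurf.VertComp R X, Models.genPtOf R X Γ' < genericPoint X.left := fun Γ' =>
    lt_of_le_of_ne (show Models.genPtOf R X Γ' ≤ genericPoint X.left from genericPoint_specializes _)
      fun h => hgenR ((congrArg X.hom h).symm.trans (hvert Γ' _))
  let A := X.left.presheaf.stalk x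
  haveI := hreg x
  obtain ⟨hdom, hufd⟩ := S2821.result A
  haveI := hdom
  haveI := hufd
  let σ := X.left.fromSpecStalk x
  obtain ⟨φ, hφ⟩ := Spec.map_surjective (σ ≫ X.hom)
  let p : A := φ.hom ϖ
  have hfib : ∀ q : PrimeSpectrum A, X.hom (σ q) = closedPoint R ↔ p ∈ q.asIdeal := fun q => by
    rw [hclp, ← Scheme.Hom.comp_apply, ← hφ]
    rfl
  have hrange := Scheme.range_fromSpecStalk (X := X.left) (x := x)
  obtain ⟨qγ, hqγ⟩ : γ ∈ Set.range σ := hrange.ge (show γ ⤳ x from hxγ.le)
  obtain ⟨qη, hqη⟩ : genericPoint X.left ∈ Set.range σ := hrange.ge (genericPoint_specializes x)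
  have hp0 : p ≠ 0 := fun h => hgenR (by
    rw [← hqη]
    exact (hfib qη).2 (h ▸ Submodule.zero_mem _))
  have hqγne : qγ.asIdeal ≠ maximalIdeal A := fun h => hxγ.ne (by
    rw [← hqγ, show qγ = closedPoint A from PrimeSpectrum.ext h]
    exact Scheme.fromSpecStalk_closedPoint.symm)
  have hpm : p ∈ maximalIdeal A := IsLocalRing.le_maximalIdeal qγ.isPrime.ne_top ((hfib qγ).1 (by
    rw [hqγ]; exact hvert Γ _))
  -- the maximal ideal is not minimal over the uniformiser
  let S := (Ideal.span {p}).minimalPrimes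
  have hS : S.Finite := Ideal.finite_minimalPrimes_of_isNoetherianRing A _
  have hmS : ∀ P ∈ S, ¬ maximalIdeal A ≤ P := fun P hP hle => by
    haveI := hP.1.1
    have hPm : P = maximalIdeal A := le_antisymm (IsLocalRing.le_maximalIdeal hP.1.1.ne_top) hle
    have hqγp : Ideal.span {p} ≤ qγ.asIdeal := (Ideal.span_singleton_le_iff_mem _).2 ((hfib qγ).1 (by
      rw [hqγ]; exact hvert Γ _))
    exact hqγne (le_antisymm (IsLocalRing.le_maximalIdeal qγ.isPrime.ne_top)
      (hPm ▸ hP.2 ⟨qγ.isPrime, hqγp⟩ (hPm ▸ IsLocalRing.le_maximalIdeal qγ.isPrime.ne_top)))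
  obtain ⟨f, hfm, hfS⟩ : ∃ f ∈ maximalIdeal A, ∀ P ∈ S, f ∉ P := by
    by_contra hcon
    simp only [not_exists, not_and, not_forall, not_not] at hcon
    have hsub : (maximalIdeal A : Set A) ⊆ ⋃ P ∈ (↑hS.toFinset : Set (Ideal A)), (P : Set A) := fun a ha => by
      obtain ⟨P, hP, haP⟩ := hcon a ha
      exact Set.mem_biUnion (hS.mem_toFinset.2 hP) haP
    obtain ⟨P, hP, hle⟩ := (Ideal.subset_union_prime (R := A) (s := hS.toFinset) ⊥ ⊥
      fun P hP _ _ => (hS.mem_toFinset.1 hP).1.1).1 hsub
    exact hmS P (hS.mem_toFinset.1 hP) hle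
  have hSne : S.Nonempty := by
    obtain ⟨P, hP, -⟩ := Ideal.exists_minimalPrimes_le
      (show Ideal.span {p} ≤ maximalIdeal A from (Ideal.span_singleton_le_iff_mem _).2 hpm)
    exact ⟨P, hP⟩
  have hf0 : f ≠ 0 := fun h => by
    obtain ⟨P, hP⟩ := hSne
    exact hfS P hP (h ▸ P.zero_mem)
  obtain ⟨g, hg, hgf⟩ := WfDvdMonoid.exists_irreducible_factor ((IsLocalRing.mem_maximalIdeal f).1 hfm) hf0
  have hgp : Prime g := UniqueFactorizationMonoid.irreducible_iff_prime.1 hg
  let q₀ : PrimeSpectrum A := ⟨Ideal.span {g}, (Ideal.span_singleton_prime hgp.ne_zero).2 hgp⟩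
  have hpq : p ∉ q₀.asIdeal := fun h => by
    haveI := q₀.isPrime
    obtain ⟨P, hP, hPq⟩ := Ideal.exists_minimalPrimes_le
      (show Ideal.span {p} ≤ q₀.asIdeal from (Ideal.span_singleton_le_iff_mem _).2 h)
    refine hfS P hP (Ideal.mem_of_dvd P hgf ?_)
    haveI := hP.1.1
    have hP0 : P ≠ ⊥ := fun e => hp0 (Ideal.mem_bot.1 (e ▸ hP.1.2 (Ideal.mem_span_singleton_self p)))
    obtain ⟨l, hlP, hl⟩ := Ideal.IsPrime.exists_mem_prime_of_ne_bot hP.1.1 hP0
    have hgl : g ∣ l := Ideal.mem_span_singleton.1 (hPq hlP)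
    exact Ideal.mem_of_dvd P ((hgp.irreducible.associated_of_dvd hl.irreducible hgl).dvd') hlP
  let ξ : X.left := σ q₀
  have hξs : X.hom ξ ≠ closedPoint R := fun h => hpq ((hfib q₀).1 h)
  have hξx : ξ ⤳ x := hrange.le ⟨q₀, rfl⟩
  have hξne : ξ ≠ x := fun h => hξs (by rw [h]; exact hvert Γ c)
  have hξη : ξ ≠ genericPoint X.left := by
    intro h
    have h' : q₀ = qη := σ.isEmbedding.injective (h.trans hqη.symm)
    obtain ⟨q₁, hq₁⟩ : genericPoint X.left ∈ Set.range σ := hrange.ge (genericPoint_specializes x)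
    have hbot : (⟨⊥, Ideal.isPrime_bot⟩ : PrimeSpectrum A) ⤳ q₀ :=
      (PrimeSpectrum.le_iff_specializes _ _).1 bot_le
    have h2 := (hbot.map σ.continuous).antisymm ((specializes_of_eq h).trans (genericPoint_specializes _))
    exact hgp.ne_zero (Ideal.span_singleton_eq_bot.1
      (congrArg PrimeSpectrum.asIdeal (σ.isEmbedding.injective h2.eq)).symm)
  have hl1 : x < ξ := lt_of_le_of_ne (show x ≤ ξ from hξx) hξne.symm
  have hl2 : ξ < genericPoint X.left :=
    lt_of_le_of_ne (show ξ ≤ genericPoint X.left from genericPoint_specializes ξ) hξη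
  let Z : Closeds X.left := ⟨closure {ξ}, isClosed_closure⟩
  let I := Scheme.IdealSheafData.vanishingIdeal Z
  have hsupp : (I.support : Set X.left) = closure {ξ} := Scheme.IdealSheafData.coe_support_vanishingIdeal _
  have hr : Set.range I.subschemeι = closure {ξ} := by rw [Scheme.IdealSheafData.range_subschemeι, hsupp]
  haveI : IsIntegral I.subscheme := by
    haveI : IrreducibleSpace (closure ({ξ} : Set X.left)) :=
      Subtype.irreducibleSpace isIrreducible_singleton.closure
    let e := I.subschemeι.isClosedEmbedding.isEmbedding.toHomeomorph.trans (Homeomorph.setCongr hr)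
    haveI : IrreducibleSpace I.subscheme := e.symm.surjective.irreducibleSpace e.symm.continuous
    haveI : IsReduced I.subscheme := H23.RedSub.isReduced_subscheme fun U => by
      exact PrimeSpectrum.isRadical_vanishingIdeal _
    exact isIntegral_of_irreducibleSpace_of_isReduced _
  have hgenI : I.subschemeι (genericPoint I.subscheme) = ξ := by
    have h := (genericPoint_spec I.subscheme).image I.subschemeι.continuous
    rw [Set.image_univ, hr, closure_closure] at h
    exact h.eq (show IsGenericPoint ξ (closure {ξ}) from rfl)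
  refine ⟨I, DivX.isEffCartier_of_codim_one I ?_ (fun z _ => @RegUFD.ufd (X.left.presheaf.stalk z) _ (hreg z)),
    Set.not_disjoint_iff.2 ⟨x, ⟨c, rfl⟩, hsupp.ge hξx.mem_closure⟩, fun Γ' hΓ' => ?_⟩
  · rw [hgenI, ringKrullDim_stalk_eq_coheight]
    have hc1 : Order.coheight ξ = 1 := by
      refine le_antisymm (Order.coheight_le fun s hs => ?_) ?_
      · by_contra hlen
        rw [not_le] at hlen
        have hlen' : 2 ≤ s.length := by exact_mod_cast hlen
        have e1 : ξ < s ⟨1, by omega⟩ := by
          rw [← hs]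
          exact s.strictMono (show (⟨0, by omega⟩ : Fin (s.length + 1)) < ⟨1, by omega⟩ from Fin.mk_lt_mk.2 Nat.one_pos)
        have e2 : s ⟨1, by omega⟩ < s ⟨2, by omega⟩ := s.strictMono (Fin.mk_lt_mk.2 (by omega))
        exact not_chain3 X hreg hdim hl1 e1 e2
      · exact Order.one_le_iff_pos.2 (Order.coheight_pos.2 fun hm => hl2.2 (hm hl2.le))
    rw [hc1]
    rfl
  · rw [hsupp] at hΓ'
    have hle : Models.genPtOf R X Γ' ≤ ξ := specializes_iff_mem_closure.2 hΓ'
    have hne : Models.genPtOf R X Γ' ≠ ξ := fun h => hξs (h ▸ hvert Γ' _)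
    obtain ⟨d, hd⟩ : ∃ d : Γ'.curve.left, d ≠ genericPoint Γ'.curve.left := by
      by_contra hall
      simp only [not_exists, not_not] at hall
      haveI : Subsingleton Γ'.curve.left := ⟨fun a b => (hall a).trans (hall b).symm⟩
      have h0 : topologicalKrullDim Γ'.curve.left ≤ 0 := topologicalKrullDim_zero_of_discreteTopology _
      rw [Γ'.dim_eq] at h0
      exact absurd h0 (by decide)
    exact not_chain3 X hreg hdim (lt_of_le_of_ne (show Γ'.ι d ≤ Models.genPtOf R X Γ' from
      (genericPoint_specializes d).map Γ'.ι.continuous) fun h => hd (Γ'.ι.isClosedEmbedding.injective h))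
      (lt_of_le_of_ne hle hne) hl2

/-- A regular proper flat surface over a discrete valuation ring is projective. -/
theorem isArithSurface_of_proper : ArSurf.IsArithSurface R X := by
  classical
  haveI : IsLocallyNoetherian X.left := LocallyOfFiniteType.isLocallyNoetherian X.hom
  let k := IsLocalRing.ResidueField R
  let r : Spec (CommRingCat.of k) ⟶ Spec (CommRingCat.of R) := Spec.map (CommRingCat.ofHom (IsLocalRing.residue R))
  haveI : IsClosedImmersion r := IsClosedImmersion.spec_of_surjective _ IsLocalRing.residue_surjective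
  let W := pullback X.hom r
  let i : W ⟶ X.left := pullback.fst X.hom r
  letI : W.Over (Spec (CommRingCat.of k)) := ⟨pullback.snd X.hom r⟩
  haveI : IsProper (W ↘ Spec (CommRingCat.of k)) := inferInstanceAs (IsProper (pullback.snd X.hom r))
  haveI := CurveCohLib.isNoetherian_of_proper (k := k) (X := W)
  have hrr : Set.range r = {closedPoint R} := by
    have h : ∀ w, r w = closedPoint R := fun w => by
      refine PrimeSpectrum.ext ?_
      show Ideal.comap (IsLocalRing.residue R) w.asIdeal = IsLocalRing.maximalIdeal R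
      rw [(Ideal.eq_bot_or_top w.asIdeal).resolve_right w.isPrime.ne_top, ← RingHom.ker_eq_comap_bot,
        IsLocalRing.ker_residue]
    exact subset_antisymm (fun _ ⟨w, hw⟩ => hw ▸ h w) (Set.singleton_subset_iff.2 ⟨closedPoint k, h _⟩)
  have hWs : ∀ w : W, X.hom (i w) = closedPoint R := fun w => by
    rw [← Scheme.Hom.comp_apply, pullback.condition, Scheme.Hom.comp_apply]
    exact hrr.le ⟨_, rfl⟩
  have hgenR : X.hom (genericPoint X.left) ≠ closedPoint R := by
    obtain ⟨η', -, hη'⟩ := Flat.generalizingMap (f := X.hom) (genericPoint_specializes (X.hom (genericPoint X.left)))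
    rw [(((genericPoint_specializes η').map X.hom.continuous).trans (specializes_of_eq hη') |>.antisymm
      (genericPoint_specializes _)).eq, genericPoint_eq_bot_of_affine (CommRingCat.of R)]
    intro h
    exact IsDiscreteValuationRing.not_a_field R (congrArg PrimeSpectrum.asIdeal h).symm
  have hdW : topologicalKrullDim W ≤ 1 := by
    rw [topologicalKrullDim, Order.krullDim_eq_of_orderIso (irreducibleSetEquivPoints (α := W))]
    refine iSup_le fun q => ?_
    by_contra hlen
    rw [not_le] at hlen
    have hlen' : 2 ≤ q.length := by exact_mod_cast hlen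
    have hmono : ∀ a b : W, a < b → i a < i b := fun a b h =>
      lt_of_le_of_ne (show i a ≤ i b from (show b ⤳ a from h.le).map i.continuous)
        fun e => h.ne (i.isClosedEmbedding.injective e)
    exact not_chain3 X hreg hdim
      (hmono _ _ (q.strictMono (show (⟨0, by omega⟩ : Fin (q.length + 1)) < ⟨1, by omega⟩ from Fin.mk_lt_mk.2 (by omega))))
      (hmono _ _ (q.strictMono (show (⟨1, by omega⟩ : Fin (q.length + 1)) < ⟨2, by omega⟩ from Fin.mk_lt_mk.2 (by omega))))
      (lt_of_le_of_ne (show i (q ⟨2, by omega⟩) ≤ genericPoint X.left from genericPoint_specializes _)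
        fun e => hgenR (e ▸ hWs _))
  let J := {C : Set W // C ∈ irreducibleComponents (W : Type u) ∧ topologicalKrullDim C = 1}
  haveI : Finite J :=
    ((NoetherianSpace.finite_irreducibleComponents (α := W)).subset fun C hC => hC.1).to_subtype
  let ic : ∀ C : J, (W.irreducibleComponentIdeal C.1 C.2.1).radical.subscheme ⟶ W := fun C =>
    (W.irreducibleComponentIdeal C.1 C.2.1).radical.subschemeι
  let mk : J → ArSurf.VertComp R X := fun C =>
    { curve := Over.mk (ic C ≫ pullback.snd X.hom r)
      ι := ic C ≫ i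
      isClosedImmersion := inferInstance
      isIntegral := (S7642.comp_facts C.1 C.2.1).1
      dim_eq := (S7642.comp_facts C.1 C.2.1).2.trans C.2.2
      w := by
        show (ic C ≫ i) ≫ X.hom = (ic C ≫ pullback.snd X.hom r) ≫ r
        rw [Category.assoc, pullback.condition, Category.assoc] }
  obtain ⟨m, ⟨e⟩⟩ := Finite.exists_equiv_fin J
  choose I hI hmeet havoid using fun j : Fin m => exists_horizontal X hreg hdim (mk (e.symm j))
  have hinv : ∀ j, ∃ L : X.left.Modules, ClSub.IsInverseOf L (ClSub.idealMod (I j)) := fun j => by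
    obtain ⟨M, -, hM₀⟩ := H23.PicInv.exists_inverse (IdealCl.isInvertible_idealMod (hI j))
    refine ⟨M, ?_⟩
    letI := H23.PicMul.clMonoid X.left
    refine H23.PicMul.cl_eq_iff.1 ?_
    rw [H23.PicMul.cl_tensor, mul_comm, ← H23.PicMul.cl_tensor]
    exact H23.PicMul.cl_eq_iff.2 hM₀
  choose L hL using hinv
  have hLi : ∀ j, PicF.IsInvertible (L j) := fun j =>
    ArInter.isInvertible_of_inverse (IdealCl.isInvertible_idealMod (hI j)) (hL j)
  let H := FGA.multiTwist L fun _ => 1
  have hHi : PicF.IsInvertible H := ArInter.isInvertible_multiTwist hLi _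
  have hamp : CohB1.IsAmple ((Scheme.Modules.pullback i).obj H) := by
    refine (S7642.result k W hdW _ (PicClLib.isInvertible_pullback i hHi)).2 fun C hC hC1 => ?_
    let Γ := mk ⟨C, hC, hC1⟩
    have hpos : 0 < ArSurf.inter R X H Γ := by
      rw [ArInter.inter_multiTwist Γ hLi]
      refine Finset.sum_pos' (fun j _ => ?_) ⟨e ⟨C, hC, hC1⟩, Finset.mem_univ _, ?_⟩
      · rw [Nat.cast_one, one_mul]
        exact (InterDiv.inter_nonneg_and_eq_zero_iff Γ (hI j) (havoid j Γ) (hL j)).1
      · rw [Nat.cast_one, one_mul]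
        obtain ⟨h0, hiff⟩ := InterDiv.inter_nonneg_and_eq_zero_iff Γ (hI (e ⟨C, hC, hC1⟩))
          (havoid _ Γ) (hL (e ⟨C, hC, hC1⟩))
        refine lt_of_le_of_ne h0 fun h => hmeet (e ⟨C, hC, hC1⟩) ?_
        rw [Equiv.symm_apply_apply]
        exact hiff.1 h.symm
    haveI := ArInter.isProper_curve Γ
    rw [ArSurf.inter, ArInter.curveDeg_eq Γ (PicClLib.isInvertible_pullback Γ.ι hHi)] at hpos
    letI : (W.irreducibleComponentIdeal C hC).radical.subscheme.Over (Spec (CommRingCat.of k)) :=
      ⟨ic ⟨C, hC, hC1⟩ ≫ pullback.snd X.hom r⟩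
    haveI := (S7642.comp_facts C hC).1
    haveI : IsProper ((W.irreducibleComponentIdeal C hC).radical.subscheme ↘ Spec (CommRingCat.of k)) :=
      inferInstanceAs (IsProper (ic ⟨C, hC, hC1⟩ ≫ pullback.snd X.hom r))
    exact lt_of_lt_of_eq hpos
      (CurveRR.deg_congr (X := (W.irreducibleComponentIdeal C hC).radical.subscheme) k
        ((Scheme.Modules.pullbackComp (ic ⟨C, hC, hC1⟩) i).app H).symm 1)
  let t := closedPoint R
  let p₁ := pullback.fst X.hom ((Spec (CommRingCat.of R)).fromSpecResidueField t)
  have hfib : CohB1.IsAmple ((Scheme.Modules.pullback (X.hom.fiberι t)).obj H) := by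
    haveI : IsPreimmersion (X.hom.fiberι t) := inferInstance
    have hsub : Set.range (X.hom.fiberι t) ⊆ Set.range i := by
      rw [Scheme.Hom.range_fiberι, Scheme.Pullback.range_fst, hrr]
    haveI : IsReduced (Spec ((Spec (CommRingCat.of R)).residueField t)) := inferInstance
    obtain ⟨g', hg'⟩ := exists_fac_closedPoint t rfl
    let u : X.hom.fiber t ⟶ W := pullback.lift (X.hom.fiberι t) (X.hom.fiberToSpecResidueField t ≫ g') (by
      rw [Category.assoc, hg']; exact pullback.condition)
    have hu : u ≫ i = X.hom.fiberι t := pullback.lift_fst _ _ _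
    haveI : QuasiCompact (X.hom.fiberι t) := inferInstance
    haveI : CompactSpace (X.hom.fiber t) := inferInstance
    have hemb : Topology.IsEmbedding u := Topology.IsEmbedding.of_comp u.continuous i.continuous (by
      rw [show (i : W → X.left) ∘ u = X.hom.fiberι t from funext fun a => by
        rw [← hu]; rfl]
      exact (X.hom.fiberι t).isEmbedding)
    exact AmpleX.isAmple_of_iso ((Scheme.Modules.pullbackComp u i).app H ≪≫
        (Scheme.Modules.pullbackCongr hu).app H)
      (AmpleVan.isAmple_pullback_of_isEmbedding u hemb hamp)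
  haveI : CompactSpace X.left := QuasiCompact.compactSpace_of_compactSpace X.hom
  obtain ⟨V, htV, hV⟩ := AmpleNear22.exists_relAmple X.hom hHi t hfib
  have hVt : V = ⊤ := top_le_iff.1 fun z _ =>
    ((PrimeSpectrum.le_iff_specializes (show PrimeSpectrum R from z) t).1
      (IsLocalRing.le_maximalIdeal z.isPrime.ne_top)).mem_open V.2 htV
  subst hVt
  haveI : IsAffine ((⊤ : (Spec (CommRingCat.of R)).Opens) : Scheme.{u}) := isAffineOpen_top _
  have hamp' := (S4381.result _ _).1 hV
  let U : X.left.Opens := X.hom ⁻¹ᵁ ⊤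
  have hU : U = ⊤ := rfl
  haveI : IsIso U.ι := by rw [show U = ⊤ from rfl]; exact (Scheme.topIso X.left).isIso_hom
  have hH : CohB1.IsAmple H := by
    have h2 := AmpleVan.isAmple_pullback_of_isEmbedding (inv U.ι) (inv U.ι).isOpenEmbedding.isEmbedding hamp'
    refine AmpleX.isAmple_of_iso ?_ h2
    exact (Scheme.Modules.pullback (inv U.ι)).mapIso ((Scheme.Modules.restrictFunctorIsoPullback U.ι).app H) ≪≫
      (Scheme.Modules.pullbackComp (inv U.ι) U.ι).app H ≪≫
      (Scheme.Modules.pullbackCongr (IsIso.inv_hom_id U.ι)).app H ≪≫ (Scheme.Modules.pullbackId X.left).app H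
  obtain ⟨N, j, hj, hj'⟩ := AmpleEmbed.exists_closedImmersion X.hom hH
  obtain ⟨a, ha, -⟩ := SeesawX.PnSpec.exists_iso N R
  haveI := hj
  refine ⟨hreg, ‹IsIntegral X.left›, hdim, ‹Flat X.hom›, N, j ≫ a.inv, inferInstance, ?_⟩
  rw [Category.assoc, ← ha, Iso.inv_hom_id_assoc]
  exact hj'

end Groth.Agent.H26.DedMin
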