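import Groth.Agent.H26.DedMin.BCSurf
import Groth.Agent.SeesawX.PnFibre
import Groth.Agent.H26.DedMin.Proj

/-!
# Relative minimality and etale base change over Dedekind domains
-/

noncomputable section

set_option autoImplicit false
set_option linter.style.haveILetI false
set_option linter.unusedSectionVars false
set_option backward.isDefEq.respectTransparency false
set_option backward.isDefEq.respectTransparency.types false
set_option maxHeartbeats 1000000

universe u

open CategoryTheory CategoryTheory.Limits AlgebraicGeometry TopologicalSpace IsLocalRing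

namespace Groth.Agent.H26.DedMin

open Groth.Agent Groth.Agent.H23 Groth.Agent.H28

/-- Projectivity passes to base change. -/
theorem isProjectiveOver_bc {R R' : Type u} [CommRing R] [CommRing R'] (θ : R →+* R')
    {X : Over (Spec (CommRingCat.of R))} (hX : Neron.IsProjectiveOver R X) {X' : Over (Spec (CommRingCat.of R'))}
    (π : X'.left ⟶ X.left) (sq : IsPullback π X'.hom X.hom (Spec.map (CommRingCat.ofHom θ))) :
    Neron.IsProjectiveOver R' X' := by
  obtain ⟨n, i, hi, hc⟩ := hX
  let j := Spec.map (CommRingCat.ofHom θ)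
  have hP := SeesawX.PnFibre.isPullback_ψ (n := n) j
  let i' : X'.left ⟶ CohB1.ProjSpaceOver n (Spec (CommRingCat.of R')) :=
    hP.lift (π ≫ i) X'.hom (by rw [Category.assoc, hc]; exact sq.w)
  have hsq : IsPullback π i' i (H28.PnBC.ψ (n := n) j) :=
    IsPullback.of_bot (by rw [show i' ≫ CohB1.ProjSpaceOver.toBase n _ = X'.hom from hP.lift_snd _ _ _, hc]; exact sq)
      (hP.lift_fst _ _ _).symm hP
  haveI : IsClosedImmersion i' := MorphismProperty.of_isPullback hsq hi
  exact ⟨n, i', inferInstance, hP.lift_snd _ _ _⟩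

/-- A rewriting of `nef_bc` for curves given by closed immersions. -/
theorem no_exc_of_vert {A : Type u} [CommRing A] [IsDomain A] [IsDiscreteValuationRing A]
    {X : Over (Spec (CommRingCat.of A))} (h : ∀ Γ : ArSurf.VertComp A X, ¬ Models.IsExcCurve Γ.ι)
    {s : Spec (CommRingCat.of A)} (hs : s ≠ genericPoint (Spec (CommRingCat.of A)))
    {E : Scheme.{u}} (ι : E ⟶ X.left) [IsClosedImmersion ι] (hE : Models.IsExcCurve ι) :
    ¬ ∀ a, X.hom (ι a) = s := fun hover => by
  have hs' : s = closedPoint A := by
    have hne : s.asIdeal ≠ ⊥ := fun h0 => hs (by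
      rw [genericPoint_eq_bot_of_affine (CommRingCat.of A)]
      exact PrimeSpectrum.ext h0)
    exact PrimeSpectrum.ext (IsLocalRing.eq_maximalIdeal (s.isPrime.isMaximal hne))
  obtain ⟨-, k, hk, e, -⟩ := id hE
  haveI : IsIntegral (CohB1.ProjSpace 1 k) := H23.PnChart.isIntegral_projSpace 1 k
  haveI : Nonempty E := ⟨e.hom (genericPoint _)⟩
  haveI : IsIntegral E := isIntegral_of_isOpenImmersion e.inv
  obtain ⟨Γ, hΓ, -⟩ := MinModel.exists_vertComp ι k e fun a => (hover a).trans hs'
  exact h Γ (ExcTransport.isExcCurve_of_ker ι Γ.ι (SurfSeq.ker_eq_of_range ι Γ.ι hΓ.symm) hE)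

variable {R R' : Type u} [CommRing R] [IsDedekindDomain R] [CommRing R'] [IsDedekindDomain R']
  [Algebra R R'] [Algebra.Etale R R']

theorem isArithSurface_etale (hsurj : Function.Surjective (PrimeSpectrum.comap (algebraMap R R')))
    (X : Over (Spec (CommRingCat.of R))) (hX : ArSurf.IsArithSurface R X)
    [IsIntegral ((Over.pullback (Spec.map (CommRingCat.ofHom (algebraMap R R')))).obj X).left] :
    ArSurf.IsArithSurface R' ((Over.pullback (Spec.map (CommRingCat.ofHom (algebraMap R R')))).obj X) := by
  obtain ⟨hreg, hint, hdim, hflat, hproj⟩ := hX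
  let j : Spec (CommRingCat.of R') ⟶ Spec (CommRingCat.of R) := Spec.map (CommRingCat.ofHom (algebraMap R R'))
  haveI : Etale j := (HasRingHomProperty.Spec_iff (P := @Etale)).2
    (RingHom.etale_algebraMap.2 inferInstance)
  haveI : Surjective j := ⟨hsurj⟩
  let π : pullback X.hom j ⟶ X.left := pullback.fst X.hom j
  haveI : LocallyOfFiniteType X.hom := by
    obtain ⟨n, i, hi, hc⟩ := hproj
    haveI := hi
    haveI := MultiP1.isProper_toBase (X := Spec (CommRingCat.of R)) n
    exact hc ▸ inferInstance
  haveI : IsLocallyNoetherian X.left := LocallyOfFiniteType.isLocallyNoetherian X.hom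
  have hkey := fun x' => @regular_dim_of_etale _ _ π inferInstance inferInstance x' (hreg _)
  refine ⟨fun z => (hkey z).1, inferInstance, ?_, inferInstanceAs (Flat (pullback.snd X.hom j)),
    isProjectiveOver_bc (algebraMap R R') hproj π (IsPullback.of_hasPullback X.hom j)⟩
  exact (dim_eq_of_stalk π π.surjective fun z => (hkey z).2).trans hdim

theorem relMinimal_etale (hsurj : Function.Surjective (PrimeSpectrum.comap (algebraMap R R')))
    (X : Over (Spec (CommRingCat.of R))) (hX : ArSurf.IsArithSurface R X) (hmin : Neron.IsRelMinimalRegularModel R X)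
    (hg : FGA.eulerCharLE (FractionRing R) ((Neron.genericFibre R).obj X).left (Coh.structureModule _) 1 ≤ 0)
    [IsIntegral ((Over.pullback (Spec.map (CommRingCat.ofHom (algebraMap R R')))).obj X).left] :
    Neron.IsRelMinimalRegularModel R' ((Over.pullback (Spec.map (CommRingCat.ofHom (algebraMap R R')))).obj X) := by
  let X' := (Over.pullback (Spec.map (CommRingCat.ofHom (algebraMap R R')))).obj X
  have hX' : ArSurf.IsArithSurface R' X' := isArithSurface_etale hsurj X hX
  refine relMinimal_of_no_exc X' hX' fun {s'} hs' {E} ι _ hE hover => ?_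
  let j : Spec (CommRingCat.of R') ⟶ Spec (CommRingCat.of R) := Spec.map (CommRingCat.ofHom (algebraMap R R'))
  haveI : Etale j := (HasRingHomProperty.Spec_iff (P := @Etale)).2
    (RingHom.etale_algebraMap.2 inferInstance)
  let π : X'.left ⟶ X.left := pullback.fst X.hom j
  let s : Spec (CommRingCat.of R) := j s'
  haveI hmax' : s'.asIdeal.IsMaximal := s'.isPrime.isMaximal (asIdeal_ne_bot s' hs')
  have hs : s ≠ genericPoint (Spec (CommRingCat.of R)) := fun h => by
    refine asIdeal_ne_bot s' hs' ?_
    have hm := MorLib.WT.map_maximalIdeal_stalkMap j s'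
    have hf : IsField ((Spec (CommRingCat.of R)).presheaf.stalk (j s')) := by
      show IsField ((Spec (CommRingCat.of R)).presheaf.stalk s)
      rw [h]
      exact CurveBundle.isField_stalk_generic
    rw [MorLib.WT.fibreIdeal, IsLocalRing.isField_iff_maximalIdeal_eq.1 hf, Ideal.map_bot] at hm
    letI : Algebra R' ((Spec (CommRingCat.of R')).presheaf.stalk s') := StructureSheaf.stalkAlgebra R' s'
    haveI : IsLocalization.AtPrime ((Spec (CommRingCat.of R')).presheaf.stalk s') s'.asIdeal :=
      inferInstanceAs (IsLocalization.AtPrime ((Spec.structureSheaf R').presheaf.stalk s') s'.asIdeal)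
    refine (eq_bot_iff).2 fun a ha => ?_
    refine (Submodule.mem_bot R').2 (IsLocalization.injective ((Spec (CommRingCat.of R')).presheaf.stalk s')
      s'.asIdeal.primeCompl_le_nonZeroDivisors ?_)
    rw [map_zero, ← Submodule.mem_bot ((Spec (CommRingCat.of R')).presheaf.stalk s')]
    exact hm.ge ((IsLocalization.AtPrime.to_map_mem_maximal_iff _ s'.asIdeal a).2 ha)
  haveI hmax : s.asIdeal.IsMaximal := s.isPrime.isMaximal (asIdeal_ne_bot s hs)
  haveI := isDVR s hs
  haveI := isDVR s' hs'
  let φ : LR s →+* LR s' := Localization.localRingHom s.asIdeal s'.asIdeal (algebraMap R R') rfl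
  haveI : IsLocalHom φ := Localization.isLocalHom_localRingHom _ _ _ rfl
  have hφ : φ.comp (algebraMap R (LR s)) = (algebraMap R' (LR s')).comp (algebraMap R R') :=
    RingHom.ext fun a => Localization.localRingHom_to_map _ _ _ rfl a
  have hinj : Function.Injective (algebraMap R R') := by
    rw [injective_iff_map_eq_zero]
    intro a ha
    obtain ⟨p, hp⟩ := hsurj ⊥
    have h : a ∈ (PrimeSpectrum.comap (algebraMap R R') p).asIdeal := by
      show algebraMap R R' a ∈ p.asIdeal
      rw [ha]
      exact zero_mem _
    rw [hp] at h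
    exact (Submodule.mem_bot R).1 h
  have hlj : Spec.map (CommRingCat.ofHom φ) ≫ lmap s = lmap s' ≫ j := by
    rw [← Spec.map_comp, ← Spec.map_comp, ← CommRingCat.ofHom_comp, ← CommRingCat.ofHom_comp, hφ]
  have hφinj : Function.Injective φ := by
    rw [RingHom.injective_iff_ker_eq_bot, ← IsLocalization.map_comap s.asIdeal.primeCompl (LR s) (RingHom.ker φ)]
    have h0 : Ideal.comap (algebraMap R (LR s)) (RingHom.ker φ) = ⊥ := by
      rw [RingHom.comap_ker, hφ, ← RingHom.injective_iff_ker_eq_bot, RingHom.coe_comp]
      exact (IsLocalization.injective _ s'.asIdeal.primeCompl_le_nonZeroDivisors).comp hinj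
    rw [← Ideal.map_bot (f := algebraMap R (LR s)), ← h0]
  have sqX : IsPullback π X'.hom X.hom j := IsPullback.of_hasPullback X.hom j
  have big : IsPullback (locπ s' X' ≫ π) (loc s' X').hom X.hom (Spec.map (CommRingCat.ofHom φ) ≫ lmap s) := by
    rw [hlj]
    exact (IsPullback.of_hasPullback X'.hom (lmap s')).paste_horiz sqX
  let π' : (loc s' X').left ⟶ (loc s X).left := pullback.lift (locπ s' X' ≫ π)
    ((loc s' X').hom ≫ Spec.map (CommRingCat.ofHom φ)) (by rw [big.w]; simp only [Category.assoc])
  have sq : IsPullback π' (loc s' X').hom (loc s X).hom (Spec.map (CommRingCat.ofHom φ)) :=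
    IsPullback.of_right (by rw [pullback.lift_fst]; exact big) (pullback.lift_snd _ _ _)
      (IsPullback.of_hasPullback X.hom (lmap s))
  -- properties of the localisations
  obtain ⟨hreg, hint, hdim, hflat, hproj⟩ := id hX
  obtain ⟨hreg', hint', hdim', hflat', hproj'⟩ := id hX'
  haveI := hint; haveI := hflat; haveI := hint'; haveI := hflat'
  haveI : IsProper X.hom := by
    obtain ⟨n, i, hi, hc⟩ := hproj
    haveI := hi
    haveI := MultiP1.isProper_toBase (X := Spec (CommRingCat.of R)) n
    exact hc ▸ inferInstance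
  haveI : IsProper X'.hom := by
    obtain ⟨n, i, hi, hc⟩ := hproj'
    haveI := hi
    haveI := MultiP1.isProper_toBase (X := Spec (CommRingCat.of R')) n
    exact hc ▸ inferInstance
  obtain ⟨Γ', hΓ'e, -⟩ := exists_exc_loc s' hs' X' ι hE hover
  haveI : IsIntegral (loc s' X').left := loc_isIntegral s' X'
  haveI : IsIntegral (loc s X).left := loc_isIntegral s X
  haveI : IsLocallyNoetherian (loc s' X').left := LocallyOfFiniteType.isLocallyNoetherian (loc s' X').hom
  have hA' : ArSurf.IsArithSurface (LR s') (loc s' X') :=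
    isArithSurface_of_proper (loc s' X') (loc_regular s' X' hreg') (MinDesing.dim_eq_two (loc s' X').hom
      (loc_dim s' X' fun z => (CurveCohLib.ringKrullDim_stalk_le_topologicalKrullDim z).trans_eq hdim') Γ')
  have hd2 : topologicalKrullDim (loc s X).left = 2 := by
    rw [← MinDesing.dim_eq_two (loc s' X').hom
      (loc_dim s' X' fun z => (CurveCohLib.ringKrullDim_stalk_le_topologicalKrullDim z).trans_eq hdim') Γ']
    haveI : Surjective π' := by
      haveI : Surjective (Spec.map (CommRingCat.ofHom φ)) := ⟨fun t => by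
        rcases (IsDiscreteValuationRing.iff_pid_with_one_nonzero_prime (LR s)).1 inferInstance |>.2 with ⟨P, -, hP⟩
        by_cases ht : t.asIdeal = ⊥
        · refine ⟨⟨⊥, Ideal.bot_prime⟩, PrimeSpectrum.ext ?_⟩
          rw [ht]
          show Ideal.comap φ ⊥ = ⊥
          rw [← RingHom.ker_eq_comap_bot, ← RingHom.injective_iff_ker_eq_bot]
          exact hφinj
        · refine ⟨closedPoint (LR s'), PrimeSpectrum.ext ?_⟩
          show Ideal.comap φ (maximalIdeal (LR s')) = t.asIdeal
          rw [IsLocalRing.maximalIdeal_comap, IsLocalRing.eq_maximalIdeal (t.isPrime.isMaximal ht)]⟩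
      exact MorphismProperty.of_isPullback (P := @Surjective) sq.flip inferInstance
    haveI : IsLocallyNoetherian X'.left := LocallyOfFiniteType.isLocallyNoetherian X'.hom
    haveI : IsLocallyNoetherian X.left := LocallyOfFiniteType.isLocallyNoetherian X.hom
    refine (dim_eq_of_stalk π' π'.surjective fun w => ?_).symm
    have h : locπ s X (π' w) = π (locπ s' X' w) := by
      rw [← Scheme.Hom.comp_apply, pullback.lift_fst, Scheme.Hom.comp_apply]
    haveI := hreg (π (locπ s' X' w))
    rw [ringKrullDim_eq_of_ringEquiv (asIso ((locπ s' X').stalkMap w)).commRingCatIsoToRingEquiv.symm,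
      (regular_dim_of_etale π (locπ s' X' w)).2, ← h,
      ringKrullDim_eq_of_ringEquiv (asIso ((locπ s X).stalkMap (π' w))).commRingCatIsoToRingEquiv.symm]
  have hA : ArSurf.IsArithSurface (LR s) (loc s X) :=
    isArithSurface_of_proper (loc s X) (loc_regular s X hreg) hd2
  have hminA : Neron.IsRelMinimalRegularModel (LR s) (loc s X) :=
    relMinimal_of_no_exc _ hA fun {t} ht {E} ι _ hE => no_exc_of_vert
      (no_exc_loc s hs X fun ι _ h => not_exc_of_relMinimal X hX hmin hs ι h) ht ι hE
  have hgA : FGA.eulerCharLE (FractionRing (LR s)) ((Neron.genericFibre (LR s)).obj (loc s X)).left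
      (Coh.structureModule _) 1 ≤ 0 := by
    refine le_of_eq_of_le ?_ hg
    exact euler_bc (algebraMap R (LR s)) (IsLocalization.injective _ s.asIdeal.primeCompl_le_nonZeroDivisors)
      (Z := X) (Z' := loc s X) (locπ s X) (IsPullback.of_hasPullback X.hom (lmap s))
  have hflatφ : Flat (Spec.map (CommRingCat.ofHom φ)) := by
    rw [HasRingHomProperty.Spec_iff (P := @Flat)]
    letI := φ.toAlgebra
    show Module.Flat (LR s) (LR s')
    haveI : FaithfulSMul (LR s) (LR s') := (faithfulSMul_iff_algebraMap_injective _ _).2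
      (show Function.Injective φ from hφinj)
    infer_instance
  refine nef_bc φ π' sq hA hA' hflatφ ?_ hminA hgA Γ' hΓ'e
  -- the residue extension is finite
  have hR' : Function.Surjective ((IsLocalRing.residue (LR s')).comp (algebraMap R' (LR s'))) :=
    (Ideal.bijective_algebraMap_quotient_residueField s'.asIdeal).2.comp Ideal.Quotient.mk_surjective
  have hft : ((IsLocalRing.ResidueField.map φ).comp ((IsLocalRing.residue (LR s)).comp (algebraMap R (LR s)))).FiniteType := by
    rw [← RingHom.comp_assoc, IsLocalRing.ResidueField.map_comp_residue, RingHom.comp_assoc, hφ, ← RingHom.comp_assoc]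
    exact (RingHom.FiniteType.of_surjective _ hR').comp (RingHom.finiteType_algebraMap.2 inferInstance)
  exact RingHom.finite_iff_finiteType_of_isJacobsonRing.2 hft.of_comp_finiteType

end Groth.Agent.H26.DedMin
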