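import Groth.Agent.H26.DedMin.Global
import Groth.Agent.H26.ArtinTriv.Contract
import Groth.Agent.H26.CompList
import Groth.Agent.H26.ArInter
import Groth.Agent.Lib.DegPullFinite
import Groth.Agent.S9683
import Groth.Agent.Pic13Lib.NumTrivBasic
import Groth.Agent.H23.RedSub
import Groth.Agent.Triage.SchDense

/-!
# Degrees on vertical curves after an unramified base change
-/

noncomputable section

set_option autoImplicit false
set_option linter.style.haveILetI false
set_option linter.unusedSectionVars false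
set_option backward.isDefEq.respectTransparency false
set_option backward.isDefEq.respectTransparency.types false
set_option maxHeartbeats 1000000

universe u

open CategoryTheory CategoryTheory.Limits AlgebraicGeometry TopologicalSpace IsLocalRing

namespace Groth.Agent.H26.DedMin

open Groth.Agent Groth.Agent.H23

/-- Ranks of cohomology along an extension of the ground field. -/
theorem finrank_restrict (k K : Type u) [Field k] [Field K] (ψ : k →+* K) {Y : Scheme.{u}}
    (g : Y ⟶ Spec (CommRingCat.of K)) (g₀ : Y ⟶ Spec (CommRingCat.of k))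
    (h : g ≫ Spec.map (CommRingCat.ofHom ψ) = g₀) (M : Y.Modules) (i : ℕ) :
    (letI : Y.Over (Spec (CommRingCat.of k)) := ⟨g₀⟩; Module.finrank k (Coh.HH Y M i)) =
      (letI := ψ.toAlgebra; Module.finrank k K) *
        (letI : Y.Over (Spec (CommRingCat.of K)) := ⟨g⟩; Module.finrank K (Coh.HH Y M i)) := by
  subst h
  letI := ψ.toAlgebra
  letI : Y.Over (Spec (CommRingCat.of k)) := ⟨g ≫ Spec.map (CommRingCat.ofHom ψ)⟩
  letI : Y.Over (Spec (CommRingCat.of K)) := ⟨g⟩
  have hT : ∀ a : k, Coh.toGlobal (g ≫ Spec.map (CommRingCat.ofHom ψ)) a = Coh.toGlobal g (ψ a) := fun a => by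
    show (g ≫ Spec.map (CommRingCat.ofHom ψ)).appTop ((Scheme.ΓSpecIso (CommRingCat.of k)).inv a) =
      g.appTop ((Scheme.ΓSpecIso (CommRingCat.of K)).inv (ψ a))
    rw [Scheme.Hom.comp_appTop, CommRingCat.comp_apply]
    congr 1
    exact (ConcreteCategory.congr_hom (Scheme.ΓSpecIso_inv_naturality (CommRingCat.ofHom ψ)) a).symm
  haveI : IsScalarTower k K (Coh.HH Y M i) := IsScalarTower.of_algebraMap_smul fun a x => by
    show Coh.toGlobal g (ψ a) • x = Coh.toGlobal (g ≫ Spec.map (CommRingCat.ofHom ψ)) a • x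
    rw [hT]
  exact (Module.finrank_mul_finrank k K (Coh.HH Y M i)).symm

/-- Degrees along an extension of the ground field. -/
theorem curveDeg_restrict (k K : Type u) [Field k] [Field K] (ψ : k →+* K) {Y : Scheme.{u}}
    (g : Y ⟶ Spec (CommRingCat.of K)) (g₀ : Y ⟶ Spec (CommRingCat.of k))
    (h : g ≫ Spec.map (CommRingCat.ofHom ψ) = g₀) (M : Y.Modules) :
    Pic13.curveDeg k g₀ M = (letI := ψ.toAlgebra; (Module.finrank k K : ℤ)) * Pic13.curveDeg K g M := by
  simp only [Pic13.curveDeg, FGA.eulerCharLE, Finset.sum_range_succ, Finset.sum_range_one,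
    finrank_restrict k K ψ g g₀ h]
  push_cast
  ring

variable {A A' : Type u} [CommRing A] [IsDomain A] [IsDiscreteValuationRing A]
  [CommRing A'] [IsDomain A'] [IsDiscreteValuationRing A'] (φ : A →+* A') [IsLocalHom φ]
  {X : Over (Spec (CommRingCat.of A))} {X' : Over (Spec (CommRingCat.of A'))}
  (π : X'.left ⟶ X.left) (sq : IsPullback π X'.hom X.hom (Spec.map (CommRingCat.ofHom φ)))

include sq in
/-- A nef module stays nef after base change along an extension with finite residue extension. -/
theorem nef_pullback [IsProper X.hom] [IsSeparated X'.hom] (hfin : (IsLocalRing.ResidueField.map φ).Finite)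
    (ω : X.left.Modules) (hω : PicF.IsInvertible ω)
    (hnef : ∀ C : ArSurf.VertComp A X, 0 ≤ ArSurf.inter A X ω C) (Γ' : ArSurf.VertComp A' X') :
    0 ≤ ArSurf.inter A' X' ((Scheme.Modules.pullback π).obj ω) Γ' := by
  let k := ResidueField A
  let k' := ResidueField A'
  let ψ : k →+* k' := IsLocalRing.ResidueField.map φ
  let res := Spec.map (CommRingCat.ofHom (IsLocalRing.residue A))
  let res' := Spec.map (CommRingCat.ofHom (IsLocalRing.residue A'))
  let sψ := Spec.map (CommRingCat.ofHom ψ)
  let sφ := Spec.map (CommRingCat.ofHom φ)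
  have hρ : res' ≫ sφ = sψ ≫ res := by
    rw [← Spec.map_comp, ← Spec.map_comp]
    rfl
  haveI : IsClosedImmersion res := IsClosedImmersion.spec_of_surjective _ IsLocalRing.residue_surjective
  haveI : IsClosedImmersion res' := IsClosedImmersion.spec_of_surjective _ IsLocalRing.residue_surjective
  haveI : IsFinite sψ := (IsFinite.SpecMap_iff _).2 hfin
  haveI : IsFinite (res' ≫ sφ) := hρ ▸ inferInstance
  let Z := pullback X.hom (res' ≫ sφ)
  let q : Z ⟶ X.left := pullback.fst X.hom (res' ≫ sφ)
  let r : Z ⟶ X'.left := sq.lift q (pullback.snd X.hom (res' ≫ sφ) ≫ res')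
    (by rw [Category.assoc]; exact pullback.condition)
  have hrq : r ≫ π = q := sq.lift_fst _ _ _
  haveI : IsSeparated r := by
    haveI : IsSeparated (r ≫ π) := hrq.symm ▸ inferInstance
    exact IsSeparated.of_comp r π
  haveI := Γ'.isIntegral
  haveI := Γ'.isClosedImmersion
  let w : Γ'.curve.left ⟶ Z := pullback.lift (Γ'.ι ≫ π) Γ'.curve.hom (by
    rw [Category.assoc, sq.w, ← Category.assoc, Γ'.w, Category.assoc])
  have hwr : w ≫ r = Γ'.ι := by
    refine sq.hom_ext ?_ ?_
    · rw [Category.assoc, hrq]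
      exact pullback.lift_fst _ _ _
    · rw [Category.assoc, sq.lift_snd, pullback.lift_snd_assoc]
      exact Γ'.w.symm
  haveI : IsClosedImmersion w := by
    haveI : IsClosedImmersion (w ≫ r) := hwr.symm ▸ inferInstance
    exact IsClosedImmersion.of_comp w r
  let v : Γ'.curve.left ⟶ X.left := Γ'.ι ≫ π
  haveI hvfin : IsFinite v := by
    rw [show v = w ≫ q from (pullback.lift_fst _ _ _).symm]
    infer_instance
  -- the image curve
  have hcl : IsClosed (Set.range v) := v.isClosedMap.isClosed_range
  let I := Scheme.IdealSheafData.vanishingIdeal (⟨Set.range v, hcl⟩ : Closeds X.left)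
  let W := I.subscheme
  have hsupp : (I.support : Set X.left) = Set.range v :=
    Scheme.IdealSheafData.coe_support_vanishingIdeal _
  have hrange : Set.range I.subschemeι = Set.range v :=
    (Scheme.IdealSheafData.range_subschemeι I).trans hsupp
  haveI : IsReduced W := H23.RedSub.isReduced_vanishingIdeal _
  have hker : I ≤ v.ker := le_trans (Scheme.IdealSheafData.vanishingIdeal_antimono
    (show (⟨closure (Set.range v), isClosed_closure⟩ : Closeds X.left) ≤ ⟨Set.range v, hcl⟩ from
      closure_minimal subset_rfl hcl)) (Triage.SchDense.vanishingIdeal_le_ker v)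
  let f : Γ'.curve.left ⟶ W := IsClosedImmersion.lift I.subschemeι v (by rw [Scheme.IdealSheafData.ker_subschemeι]; exact hker)
  have hfv : f ≫ I.subschemeι = v := IsClosedImmersion.lift_fac _ _ _
  haveI : IsFinite f := by
    haveI : IsFinite (f ≫ I.subschemeι) := hfv.symm ▸ hvfin
    exact IsFinite.of_comp f I.subschemeι
  haveI : Surjective f := ⟨fun y => by
    obtain ⟨a, ha⟩ := hrange.le ⟨y, rfl⟩
    exact ⟨a, I.subschemeι.isClosedEmbedding.injective (by rw [← Scheme.Hom.comp_apply, hfv]; exact ha)⟩⟩
  haveI : IrreducibleSpace W := by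
    refine (irreducibleSpace_def _).2 ?_
    rw [Set.top_eq_univ, ← f.surjective.range_eq, ← Set.image_univ]
    exact (IrreducibleSpace.isIrreducible_univ _).image _ f.continuous.continuousOn
  haveI : IsIntegral W := isIntegral_of_irreducibleSpace_of_isReduced W
  have hdimW : topologicalKrullDim W = 1 := ((S9683.result f).2 inferInstance).symm.trans Γ'.dim_eq
  obtain ⟨g, hg⟩ := H26.CompList.exists_fac (I.subschemeι ≫ X.hom) fun y => by
    obtain ⟨a, rfl⟩ := f.surjective y
    rw [← Scheme.Hom.comp_apply, reassoc_of% hfv, Category.assoc, sq.w, ← Category.assoc, Γ'.w,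
      Category.assoc, hρ, Scheme.Hom.comp_apply, Scheme.Hom.comp_apply]
    generalize (sψ (Γ'.curve.hom a)) = t
    refine PrimeSpectrum.ext ?_
    show Ideal.comap (IsLocalRing.residue A) t.asIdeal = IsLocalRing.maximalIdeal A
    rw [(Ideal.eq_bot_or_top t.asIdeal).resolve_right t.isPrime.ne_top, ← RingHom.ker_eq_comap_bot,
      IsLocalRing.ker_residue]
  let Γ : ArSurf.VertComp A X := ⟨Over.mk g, I.subschemeι, inferInstance, inferInstanceAs (IsIntegral W), hdimW, hg.symm⟩
  have hfg : f ≫ g = Γ'.curve.hom ≫ sψ := by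
    rw [← cancel_mono res, Category.assoc, hg, reassoc_of% hfv, Category.assoc, sq.w, ← Category.assoc,
      Γ'.w, Category.assoc, hρ, Category.assoc]
  letI : W.Over (Spec (CommRingCat.of k)) := ⟨g⟩
  letI : Γ'.curve.left.Over (Spec (CommRingCat.of k)) := ⟨Γ'.curve.hom ≫ sψ⟩
  haveI hWp : IsProper (W ↘ Spec (CommRingCat.of k)) := by
    haveI : IsProper (g ≫ res) := by rw [hg]; infer_instance
    exact IsProper.of_comp g res
  haveI : IsProper (Γ'.curve.left ↘ Spec (CommRingCat.of k)) := by
    show IsProper (Γ'.curve.hom ≫ sψ)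
    rw [← hfg]
    haveI : IsProper g := hWp
    infer_instance
  have hξ : f (genericPoint Γ'.curve.left) = genericPoint W :=
    ((genericPoint_spec Γ'.curve.left).image f.continuous).eq (by
      rw [Set.image_univ, f.surjective.range_eq, closure_univ]
      exact genericPoint_spec W)
  have hinv : PicF.IsInvertible ((Scheme.Modules.pullback I.subschemeι).obj ω) :=
    PicClLib.isInvertible_pullback _ hω
  have h0 : 0 ≤ Curv2.deg k W ((Scheme.Modules.pullback I.subschemeι).obj ω) 1 := by
    rw [← ArtinTriv.curveDeg_eq_deg hdimW hinv]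
    exact hnef Γ
  have h1 := DegPull.deg_pullback k Γ'.dim_eq hdimW f hfg hξ (InvEnd.isFinLocFreeOfRank_one hinv)
  rw [← ArtinTriv.curveDeg_eq_deg Γ'.dim_eq (PicClLib.isInvertible_pullback _ hinv)] at h1
  have h2 : Pic13.curveDeg k (Γ'.curve.hom ≫ sψ)
      ((Scheme.Modules.pullback Γ'.ι).obj ((Scheme.Modules.pullback π).obj ω)) =
      ArSurf.curveDeg k Γ'.curve.left ((Scheme.Modules.pullback f).obj ((Scheme.Modules.pullback I.subschemeι).obj ω)) :=
    Pic13Lib.NumTriv.curveDeg_congr k _ ((Scheme.Modules.pullbackComp _ _).app ω ≪≫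
      (Scheme.Modules.pullbackCongr hfv.symm).app ω ≪≫ ((Scheme.Modules.pullbackComp _ _).app ω).symm)
  rw [curveDeg_restrict k k' ψ Γ'.curve.hom _ rfl] at h2
  have hpos : (0 : ℤ) < (letI := ψ.toAlgebra; (Module.finrank k k' : ℤ)) := by
    letI := ψ.toAlgebra
    haveI : Module.Finite k k' := hfin
    exact_mod_cast Module.finrank_pos
  refine nonneg_of_mul_nonneg_right (a := (letI := ψ.toAlgebra; (Module.finrank k k' : ℤ))) ?_ hpos
  show 0 ≤ _ * Pic13.curveDeg k' Γ'.curve.hom _
  rw [h2, h1]
  exact mul_nonneg (Int.natCast_nonneg _) h0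

end Groth.Agent.H26.DedMin
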