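import Groth.Agent.H26.DedMin.Iso
import Groth.Agent.H26.Adjunction.Canon
import Groth.Agent.S7909
import Groth.Agent.Pic13Lib.NumTrivBasic

/-!
# Automorphisms of a minimal arithmetic surface and its contractions
-/

noncomputable section

set_option autoImplicit false
set_option linter.style.haveILetI false
set_option linter.unusedSectionVars false
set_option backward.isDefEq.respectTransparency false
set_option backward.isDefEq.respectTransparency.types false
set_option maxHeartbeats 1000000

universe u

open CategoryTheory CategoryTheory.Limits AlgebraicGeometry TopologicalSpace IsLocalRing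

namespace Groth.Agent.H26.DedMin

open Groth.Agent Groth.Agent.H23 Groth.Agent.H28

theorem isRegularImmersion_id (X : Scheme.{u}) :
    RegImm.IsRegularImmersionOfCodim RegImm.Kind.regular 0 (𝟙 X) := by
  refine ⟨inferInstance, fun z => ?_⟩
  obtain ⟨U, hU, hz, -⟩ := exists_isAffineOpen_mem_and_subset (x := z) (U := ⊤) trivial
  refine ⟨⟨U, hU⟩, hz, inferInstance, [], rfl, ⟨RingTheory.Sequence.IsWeaklyRegular.nil _ _, ?_⟩, ?_⟩
  · haveI : Nonempty (U : Set X) := ⟨⟨z, hz⟩⟩
    haveI : Nonempty ↥U.toScheme := ⟨⟨z, hz⟩⟩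
    haveI : Nontrivial Γ(X, U) := inferInstance
    rw [Ideal.ofList_nil, Submodule.bot_smul]
    exact top_ne_bot
  · ext a
    simp
    exact Iff.rfl

/-- The structure sheaf is canonical for an isomorphism. -/
theorem isCanonical_of_isIso {X Y : Scheme.{u}} (τ : X ⟶ Y) [IsIso τ] :
    Canon.IsCanonical τ (Coh.structureModule X) := by
  letI := PicMul.clMonoid X
  refine ⟨X, 𝟙 X, τ, 0, 0, Category.id_comp _, isRegularImmersion_id X, inferInstance, inferInstance, inferInstance,
    Coh.structureModule X, Coh.structureModule X, H28.KvbLam.isExtPow_zero _, H28.KvbLam.isExtPow_zero _, ?_⟩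
  refine PicMul.cl_eq_iff.1 ?_
  rw [PicMul.cl_tensor, ← PicMul.one_def, one_mul]
  exact (map_one (PicMul.pullHom (𝟙 X))).symm

variable {R : Type u} [CommRing R] [IsDomain R] [IsDiscreteValuationRing R]

/-- A canonical sheaf is invariant under automorphisms. -/
theorem canonical_invariant {X : Over (Spec (CommRingCat.of R))} (hX : ArSurf.IsArithSurface R X)
    (ω : X.left.Modules) (hω : Canon.IsCanonical X.hom ω) (τ : X ⟶ X) [IsIso τ] :
    Nonempty ((Scheme.Modules.pullback τ.left).obj ω ≅ ω) := by
  obtain ⟨-, -, -, -, n, i, hi, hc⟩ := hX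
  haveI := hi
  haveI : IsIso τ.left := inferInstanceAs (IsIso ((Over.forget _).map τ))
  haveI := H23.MultiP1.isProper_toBase (X := Spec (CommRingCat.of R)) n
  haveI : IsProper X.hom := hc ▸ inferInstance
  haveI : IsLocallyNoetherian X.left := LocallyOfFiniteType.isLocallyNoetherian X.hom
  obtain ⟨e⟩ := S13306.result X.left X.left _ τ.left X.hom (Adjunction.exists_immersion_P1 τ.left)
    ⟨n, i, inferInstance, hc⟩ _ ω ω (isCanonical_of_isIso τ.left) hω ((Over.w τ).symm ▸ hω)
  letI := PicMul.clMonoid X.left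
  refine ⟨?_⟩
  have h := PicMul.cl_eq_iff.2 (Nonempty.intro e)
  rw [PicMul.cl_tensor, ← PicMul.one_def, one_mul] at h
  exact (PicMul.cl_eq_iff.1 h.symm).some

/-- An automorphism extends from the generic fibre to the canonical model. -/
theorem existsUnique_contraction_auto {X : Over (Spec (CommRingCat.of R))} (hX : ArSurf.IsArithSurface R X)
    (hmin : Neron.IsRelMinimalRegularModel R X)
    (hg : FGA.eulerCharLE (FractionRing R) ((Neron.genericFibre R).obj X).left (Coh.structureModule _) 1 ≤ 0)
    (ωX : X.left.Modules) (hωX : Canon.IsCanonical X.hom ωX)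
    {r : ℕ} (Γ : Fin r → ArSurf.VertComp R X)
    (hK : ∀ i, ArSurf.inter R X ωX (Γ i) = 0)
    (hall : ∀ C : ArSurf.VertComp R X, ArSurf.inter R X ωX C = 0 →
      ∃ i, Set.range (C.ι.base : C.curve.left → X.left) = Set.range ((Γ i).ι.base : (Γ i).curve.left → X.left))
    (hΓ : Function.Injective fun i => Set.range ((Γ i).ι.base : (Γ i).curve.left → X.left))
    (Y : Over (Spec (CommRingCat.of R))) (f : X ⟶ Y)
    (hYint : IsIntegral Y.left) (hYnor : ∀ q : Y.left, IsIntegrallyClosed (Y.left.presheaf.stalk q))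
    (hYdim : topologicalKrullDim Y.left = 2) (hYfl : Flat Y.hom) (hYpr : Neron.IsProjectiveOver R Y)
    (hfpt : ∀ i, ∃ y : Y.left, Set.range (((Γ i).ι ≫ f.left).base : (Γ i).curve.left → Y.left) = {y})
    (hfpre : f.left.base ⁻¹' (f.left.base '' ⋃ i, Set.range (Γ i).ι.base) = ⋃ i, Set.range (Γ i).ι.base)
    (hfiso : ∀ V : Y.left.Opens, (V : Set Y.left) ∩ f.left.base '' (⋃ i, Set.range (Γ i).ι.base) = ∅ →
      IsIso (f.left ∣_ V))
    (σ : (Neron.genericFibre R).obj Y ≅ (Neron.genericFibre R).obj Y) :
    ∃! τ : Y ⟶ Y, IsIso τ ∧ (Neron.genericFibre R).map τ = σ.hom := by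
  classical
  obtain ⟨hreg, hint, hdim, hflat, n, i, hi, hc⟩ := id hX
  haveI := hint; haveI := hflat; haveI := hi; haveI := hYint; haveI := hYfl
  haveI := H23.MultiP1.isProper_toBase (X := Spec (CommRingCat.of R)) n
  haveI : IsProper X.hom := hc ▸ inferInstance
  obtain ⟨m, j, hj, hjc⟩ := id hYpr
  haveI := hj
  haveI := H23.MultiP1.isProper_toBase (X := Spec (CommRingCat.of R)) m
  haveI : IsProper Y.hom := hjc ▸ inferInstance
  haveI : IsProper (f.left ≫ Y.hom) := by rw [Over.w f]; infer_instance
  haveI : IsProper f.left := IsProper.of_comp f.left Y.hom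
  -- the exceptional locus
  let B : Set Y.left := f.left.base '' ⋃ i, Set.range (Γ i).ι.base
  have hBcl : IsClosed B := f.left.isClosedMap _ (isClosed_iUnion_of_finite fun k => (Γ k).ι.isClosedEmbedding.isClosed_range)
  let V : Y.left.Opens := ⟨Bᶜ, hBcl.isOpen_compl⟩
  haveI := hfiso V (Set.compl_inter_self _)
  let q := pullback.fst Y.hom (Neron.genPt R)
  let p := pullback.fst X.hom (Neron.genPt R)
  have hne : ∀ y ∈ B, Y.hom y ∉ Set.range (Neron.genPt R) := by
    rintro _ ⟨x, hx, rfl⟩ h
    obtain ⟨k, c, rfl⟩ := Set.mem_iUnion.1 hx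
    rw [← Scheme.Hom.comp_apply, Over.w f, ← Scheme.Hom.comp_apply, (Γ k).w, Scheme.Hom.comp_apply,
      SmoothMinimal.range_genPt, Set.mem_singleton_iff] at h
    have hpt : ∀ z : (Spec (CommRingCat.of (IsLocalRing.ResidueField R)) : Scheme.{u}),
        (Spec.map (CommRingCat.ofHom (IsLocalRing.residue R)) z : PrimeSpectrum R).asIdeal = maximalIdeal R := fun z => by
      show Ideal.comap (IsLocalRing.residue R) _ = _
      rw [show (z : PrimeSpectrum (IsLocalRing.ResidueField R)).asIdeal = ⊥ from
        (Ideal.eq_bot_or_top _).resolve_right (z : PrimeSpectrum (IsLocalRing.ResidueField R)).isPrime.ne_top]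
      exact IsLocalRing.ker_residue
    have h' := congrArg PrimeSpectrum.asIdeal h
    rw [hpt] at h'
    rw [genericPoint_eq_bot_of_affine] at h'
    exact IsDiscreteValuationRing.not_a_field R h'
  have hq : Set.range q ⊆ Set.range V.ι := by
    rintro _ ⟨z, rfl⟩
    rw [Scheme.Opens.range_ι]
    exact fun hB => hne _ hB ⟨pullback.snd Y.hom (Neron.genPt R) z, by
      rw [← Scheme.Hom.comp_apply, ← pullback.condition, Scheme.Hom.comp_apply]⟩
  let l := IsOpenImmersion.lift V.ι q hq
  have hl : l ≫ V.ι = q := IsOpenImmersion.lift_fac _ _ _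
  let k := l ≫ inv (f.left ∣_ V) ≫ (f.left ⁻¹ᵁ V).ι
  have hkf : k ≫ f.left = q := by
    simp only [k, Category.assoc, ← morphismRestrict_ι, IsIso.inv_hom_id_assoc, hl]
  have hkw : k ≫ X.hom = pullback.snd Y.hom (Neron.genPt R) ≫ Neron.genPt R := by
    rw [← Over.w f, ← Category.assoc, hkf, pullback.condition]
  haveI hfK : IsIso ((Neron.genericFibre R).map f) := by
    let fK := (Neron.genericFibre R).map f
    have h₁ : fK.left ≫ q = p ≫ f.left := pullback.lift_fst _ _ _
    have h₂ : fK.left ≫ pullback.snd Y.hom (Neron.genPt R) = pullback.snd X.hom (Neron.genPt R) := Over.w fK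
    refine ⟨Over.homMk (pullback.lift k _ hkw) (pullback.lift_snd _ _ _), Over.OverMorphism.ext ?_, Over.OverMorphism.ext ?_⟩
    · refine pullback.hom_ext ?_ ?_
      · rw [Over.comp_left, Category.assoc]
        erw [pullback.lift_fst]
        rw [Over.id_left, Category.id_comp]
        have hp : Set.range p ⊆ Set.range (f.left ⁻¹ᵁ V).ι := by
          rintro _ ⟨z, rfl⟩
          rw [Scheme.Opens.range_ι]
          show f.left (p z) ∈ V
          rw [← Scheme.Hom.comp_apply, ← h₁, Scheme.Hom.comp_apply]
          exact (Scheme.Opens.range_ι V).le (hq ⟨_, rfl⟩)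
        show fK.left ≫ k = p
        rw [← IsOpenImmersion.lift_fac _ _ hp]
        simp only [k, ← Category.assoc]
        congr 1
        rw [IsIso.comp_inv_eq, ← cancel_mono V.ι]
        simp only [Category.assoc, hl, morphismRestrict_ι]
        rw [IsOpenImmersion.lift_fac_assoc, h₁]
      · rw [Over.comp_left, Category.assoc]
        erw [pullback.lift_snd]
        rw [Over.id_left, Category.id_comp]
        exact h₂
    · refine pullback.hom_ext ?_ ?_
      · rw [Over.comp_left, Category.assoc]
        erw [h₁]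
        rw [← Category.assoc]
        erw [pullback.lift_fst]
        rw [hkf, Over.id_left, Category.id_comp]
      · rw [Over.comp_left, Category.assoc]
        erw [h₂]
        rw [Over.id_left, Category.id_comp]
        exact pullback.lift_snd _ _ _
  let e := asIso ((Neron.genericFibre R).map f)
  obtain ⟨t, ⟨ht, htK⟩, -⟩ := existsUnique_iso X X hX hX hmin hmin hg (e ≪≫ σ ≪≫ e.symm)
  haveI := ht
  haveI : IsIso t.left := inferInstanceAs (IsIso ((Over.forget _).map t))
  -- the components are permuted
  obtain ⟨eω⟩ := canonical_invariant hX ωX hωX t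
  have hperm : ∀ a, ∃ b, t.left.base '' Set.range (Γ a).ι.base = Set.range (Γ b).ι.base := fun a => by
    let C : ArSurf.VertComp R X :=
      { curve := (Γ a).curve
        ι := (Γ a).ι ≫ t.left
        isClosedImmersion := inferInstance
        isIntegral := (Γ a).isIntegral
        dim_eq := (Γ a).dim_eq
        w := by rw [Category.assoc, Over.w t, (Γ a).w] }
    have hC : ArSurf.inter R X ωX C = 0 := by
      rw [← hK a]
      exact Pic13Lib.NumTriv.curveDeg_congr _ _ ((((Scheme.Modules.pullbackComp (Γ a).ι t.left).app ωX).symm) ≪≫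
        (Scheme.Modules.pullback (Γ a).ι).mapIso eω)
    obtain ⟨b, hb⟩ := hall C hC
    exact ⟨b, by rw [← hb, ← Set.range_comp]; rfl⟩
  choose π hπ using hperm
  let U := ⋃ i, Set.range (Γ i).ι.base
  have hU : t.left.base '' U = U := by
    have hinj : Function.Injective π := fun a b hab => hΓ
      (Set.image_injective.2 t.left.isOpenEmbedding.injective ((hπ a).trans (hab ▸ (hπ b).symm)))
    simp only [U, Set.image_iUnion, hπ]
    exact (Finite.injective_iff_surjective.1 hinj).iUnion_comp fun b => Set.range (Γ b).ι.base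
  have hU' : t.left.base ⁻¹' U = U := by
    conv_lhs => rw [← hU]
    exact Set.preimage_image_eq _ t.left.isOpenEmbedding.injective
  have himg : (t ≫ f).left.base '' U = f.left.base '' U := by
    rw [show (t ≫ f).left.base '' U = f.left.base '' (t.left.base '' U) from by rw [← Set.image_comp]; rfl, hU]
  obtain ⟨⟨g, hgf, -⟩, hgiso⟩ := S7909.result R X (fun x => RegLoc6.isIntegrallyClosed_of_isRegularLocalRing _) hdim
    ⟨n, i, hi, hc⟩ Γ Y Y f (t ≫ f) ⟨hYint, hYnor, hYdim, hYfl, hYpr, hfpt, hfpre, hfiso⟩
    ⟨hYint, hYnor, hYdim, hYfl, hYpr, fun a => by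
      obtain ⟨y, hy⟩ := hfpt (π a)
      refine ⟨y, ?_⟩
      rw [← hy]
      show Set.range (f.left.base ∘ t.left.base ∘ (Γ a).ι.base) = Set.range (f.left.base ∘ (Γ (π a)).ι.base)
      rw [Set.range_comp, Set.range_comp t.left.base, hπ, ← Set.range_comp], by
      rw [himg]
      show t.left.base ⁻¹' (f.left.base ⁻¹' (f.left.base '' U)) = U
      rw [hfpre, hU'], fun W hW => by
      rw [himg] at hW
      haveI := hfiso W hW
      rw [Over.comp_left, morphismRestrict_comp]
      infer_instance⟩
  refine ⟨g, ⟨hgiso g hgf, ?_⟩, fun g' hg' => ?_⟩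
  · have h := congrArg (Neron.genericFibre R).map hgf
    rw [Functor.map_comp, Functor.map_comp, htK] at h
    exact (cancel_epi ((Neron.genericFibre R).map f)).1 (by simpa [e] using h)
  · refine hom_ext_genericFibre g' g (hg'.2.trans ?_)
    have h := congrArg (Neron.genericFibre R).map hgf
    rw [Functor.map_comp, Functor.map_comp, htK] at h
    exact ((cancel_epi ((Neron.genericFibre R).map f)).1 (by simpa [e] using h)).symm

end Groth.Agent.H26.DedMin
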