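import Groth.Agent.H26.DedMin.Iso
import Groth.Agent.H26.Adjunction.RelMin

/-!
# Relative minimality is the absence of exceptional curves over closed points
-/

noncomputable section

set_option autoImplicit false
set_option linter.style.haveILetI false
set_option linter.unusedSectionVars false
set_option backward.isDefEq.respectTransparency false
set_option backward.isDefEq.respectTransparency.types false
set_option maxHeartbeats 1000000

universe u

open CategoryTheory CategoryTheory.Limits AlgebraicGeometry TopologicalSpace IsLocalRing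

namespace Groth.Agent.H26.DedMin

open Groth.Agent

/-- Surjective specializing maps do not raise the dimension. -/
theorem topologicalKrullDim_le_of_surjective {X Y : Scheme.{u}} (f : X ⟶ Y) (hsur : Function.Surjective f)
    (hsp : SpecializingMap f) : topologicalKrullDim Y ≤ topologicalKrullDim X := by
  have key : ∀ (n : ℕ) (p : LTSeries Y), p.length = n → ∃ q : LTSeries X, q.length = n ∧ f q.head = p.head := by
    intro n
    induction n with
    | zero =>
      intro p _
      obtain ⟨x, hx⟩ := hsur p.head
      exact ⟨RelSeries.singleton _ x, rfl, by rw [RelSeries.head_singleton]; exact hx⟩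
    | succ n ih =>
      intro p hp
      have hne : p.length ≠ 0 := by omega
      obtain ⟨q, hq, hqh⟩ := ih (p.tail hne) (by rw [RelSeries.tail_length]; omega)
      have hlt : p.head < f q.head := by
        rw [hqh, RelSeries.head_tail]
        show p.toFun 0 < p.toFun 1
        have h01 := p.strictMono (show (0 : Fin (p.length + 1)) < 1 from by
          haveI : NeZero p.length := ⟨hne⟩
          exact Fin.one_pos')
        exact h01
      obtain ⟨x, hx, hxe⟩ := hsp (a := q.head) (show f q.head ⤳ p.head from hlt.le)
      have hxlt : x < q.head := lt_of_le_of_ne hx fun h => hlt.ne (by rw [← hxe, h])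
      exact ⟨q.cons x hxlt, by rw [RelSeries.cons_length, hq], by rw [RelSeries.head_cons]; exact hxe⟩
  rw [topologicalKrullDim, topologicalKrullDim, Order.krullDim_eq_of_orderIso irreducibleSetEquivPoints,
    Order.krullDim_eq_of_orderIso (irreducibleSetEquivPoints (α := X))]
  refine iSup_le fun p => ?_
  obtain ⟨q, hq, -⟩ := key _ p rfl
  exact le_of_eq_of_le (by rw [hq]) (Order.LTSeries.length_le_krullDim q)

variable {R : Type u} [CommRing R] [IsDedekindDomain R]

/-- An arithmetic surface without exceptional curves over closed points is relatively minimal. -/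
theorem relMinimal_of_no_exc (X : Over (Spec (CommRingCat.of R))) (hX : ArSurf.IsArithSurface R X)
    (hno : ∀ {s : Spec (CommRingCat.of R)}, s ≠ genericPoint (Spec (CommRingCat.of R)) →
      ∀ {E : Scheme.{u}} (ι : E ⟶ X.left) [IsClosedImmersion ι], Models.IsExcCurve ι → ¬ ∀ a, X.hom (ι a) = s) :
    Neron.IsRelMinimalRegularModel R X := by
  obtain ⟨hreg, hint, hdim, hflat, n, i, hi, hiw⟩ := hX
  refine ⟨hreg, ⟨n, i, hi, hiw⟩, hflat, fun Y hregY hprojY hflatY g hgen => ?_⟩
  obtain ⟨m, j, hj, hjw⟩ := hprojY
  haveI := hint
  haveI := hi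
  haveI := hj
  haveI : IsProper (CohB1.ProjSpaceOver.toBase n (Spec (CommRingCat.of R))) :=
    MorphismProperty.pullback_snd _ _ (Groth.Agent.PnCoh.Chow.isProper_toSpec n _)
  haveI : IsProper (CohB1.ProjSpaceOver.toBase m (Spec (CommRingCat.of R))) :=
    MorphismProperty.pullback_snd _ _ (Groth.Agent.PnCoh.Chow.isProper_toSpec m _)
  haveI : IsProper X.hom := by rw [← hiw]; infer_instance
  haveI : IsProper Y.hom := by rw [← hjw]; infer_instance
  haveI := hflat
  haveI := hflatY
  haveI : IsProper g.left := by
    haveI : IsProper (g.left ≫ Y.hom) := by rw [Over.w g]; infer_instance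
    exact IsProper.of_comp g.left Y.hom
  haveI : IsLocallyNoetherian X.left := LocallyOfFiniteType.isLocallyNoetherian X.hom
  haveI : IsLocallyNoetherian Y.left := LocallyOfFiniteType.isLocallyNoetherian Y.hom
  let B := Spec (CommRingCat.of R)
  let qX := pullback.fst X.hom (Neron.genPt R)
  let qY := pullback.fst Y.hom (Neron.genPt R)
  haveI : IsPreimmersion (Neron.genPt R) := IsPreimmersion.of_isLocalization (nonZeroDivisors R)
  let gK := ((Neron.genericFibre R).map g).left
  haveI := hgen
  haveI hgK : IsIso gK := inferInstanceAs (IsIso ((Over.forget _).map ((Neron.genericFibre R).map g)))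
  have hsq : qX ≫ g.left = gK ≫ qY := (pullback.lift_fst _ _ _).symm
  have hrX : Set.range qX = X.hom ⁻¹' {genericPoint B} := by
    rw [Scheme.Pullback.range_fst, SmoothMinimal.range_genPt]
  have hrY : Set.range qY = Y.hom ⁻¹' {genericPoint B} := by
    rw [Scheme.Pullback.range_fst, SmoothMinimal.range_genPt]
  have hXg : X.hom (genericPoint X.left) = genericPoint B := by
    obtain ⟨η', -, hη'⟩ := Flat.generalizingMap (f := X.hom) (genericPoint_specializes (X.hom (genericPoint X.left)))
    exact (((genericPoint_specializes η').map X.hom.continuous).trans (specializes_of_eq hη')).antisymm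
      (genericPoint_specializes _) |>.eq
  have hgY : ∀ y : Y.left, g.left (genericPoint X.left) ⤳ y := fun y => by
    obtain ⟨y', hy', hy'e⟩ := Flat.generalizingMap (f := Y.hom) (genericPoint_specializes (Y.hom y))
    obtain ⟨w, rfl⟩ : y' ∈ Set.range qY := hrY.ge hy'e
    obtain ⟨v, rfl⟩ := gK.surjective w
    refine Specializes.trans ?_ hy'
    have e : g.left (qX v) = qY (gK v) := by
      rw [← Scheme.Hom.comp_apply qX, hsq, Scheme.Hom.comp_apply]; rfl
    show g.left (genericPoint X.left) ⤳ qY (gK v)
    rw [← e]
    exact (genericPoint_specializes _).map g.left.continuous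
  haveI : IrreducibleSpace Y.left := by
    haveI : PreirreducibleSpace Y.left := ⟨fun u v hu hv ⟨a, _, ha⟩ ⟨b, _, hb⟩ =>
      ⟨g.left (genericPoint X.left), trivial, (hgY a).mem_open hu ha, (hgY b).mem_open hv hb⟩⟩
    exact ⟨⟨g.left (genericPoint X.left)⟩⟩
  haveI : IsIntegral Y.left := SmoothMinimal.isIntegral_of_regular hregY
  have hgen' : g.left (genericPoint X.left) = genericPoint Y.left :=
    ((hgY _).antisymm (genericPoint_specializes _)).eq
  have hYn : ∀ y : Y.left, IsIntegrallyClosed (Y.left.presheaf.stalk y) := fun y => by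
    haveI := hregY y
    exact RegLoc6.isIntegrallyClosed_of_isRegularLocalRing _
  have hbir : Function.Bijective (g.left.stalkMap (genericPoint X.left)) := by
    obtain ⟨v, hv⟩ : genericPoint X.left ∈ Set.range qX := hrX.ge hXg
    have h1 : Function.Bijective ((qX ≫ g.left).stalkMap v) := by
      rw [hsq, Scheme.Hom.stalkMap_comp]
      exact (ConcreteCategory.bijective_of_isIso (gK.stalkMap v)).comp (SmoothMinimal.bijective_stalkMap_fst Y _)
    rw [Scheme.Hom.stalkMap_comp] at h1
    have h2 : Function.Bijective ((qX.stalkMap v) ∘ (g.left.stalkMap (qX v))) := h1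
    rw [← hv]
    exact ((SmoothMinimal.bijective_stalkMap_fst X v).of_comp_iff' _).1 h2
  by_cases hR : IsField R
  · haveI : IsIso (Neron.genPt R) := by
      haveI : IsIso (CommRingCat.ofHom (algebraMap R (FractionRing R))) :=
        (ConcreteCategory.isIso_iff_bijective _).2
          (IsField.localization_map_bijective (M := nonZeroDivisors R) zero_notMem_nonZeroDivisors hR)
      infer_instance
    haveI : IsIso g.left := IsIso.of_isIso_fac_left (h := gK ≫ qY) hsq
    haveI : IsIso ((Over.forget _).map g) := ‹IsIso g.left›
    exact isIso_of_reflects_iso g (Over.forget _)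
  haveI : CompactSpace X.left := QuasiCompact.compactSpace_of_compactSpace X.hom
  haveI : CompactSpace Y.left := QuasiCompact.compactSpace_of_compactSpace Y.hom
  haveI : IsNoetherian X.left := {}
  haveI : IsNoetherian Y.left := {}
  haveI : IsDominant g.left := by
    refine ⟨Dense.mono ?_ (dense_iff_closure_eq.2 (genericPoint_spec Y.left).def)⟩
    rw [Set.singleton_subset_iff]
    exact ⟨_, hgen'⟩
  have hsur : Function.Surjective g.left := by
    rw [← Set.range_eq_univ, ← g.left.isClosedMap.isClosed_range.closure_eq, ← DenseRange.closure_range g.left.denseRange]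
  have hdY : topologicalKrullDim Y.left ≤ 2 :=
    (topologicalKrullDim_le_of_surjective g.left hsur g.left.isClosedMap.specializingMap).trans hdim.le
  have hseq : Models.IsContractionSeq g.left := by
    simpa using SurfSeq.seq_of_birational (hX := hreg) (hdX := fun z => (SchTop.ringKrullDim_stalk_le z).trans hdim.le)
      g.left ((ConcreteCategory.isIso_iff_bijective _).2 hbir) hregY
      (fun y => (SchTop.ringKrullDim_stalk_le y).trans hdY) Y.left (𝟙 _) (Models.IsContractionSeq.iso (Iso.refl Y.left))
  rcases Adjunction.seq_cases hseq with h | ⟨E, ι, hι, Z, b, r', hE, hb, hbr⟩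
  · haveI : IsIso ((Over.forget _).map g) := h
    exact isIso_of_reflects_iso g (Over.forget _)
  exfalso
  haveI := hι
  obtain ⟨-, k, hk, e, -⟩ := id hE
  obtain ⟨a₁, a₂, -, -⟩ := MinModel.exists_two_points k e
  obtain ⟨-, -, y, hy, hrange, -⟩ := hb
  have hconst : ∀ a, X.hom (ι a) = Y.hom (r' y) := fun a => by
    have hby : b (ι a) = y := hrange.le ⟨a, rfl⟩
    rw [← Over.w g, ← hbr, Scheme.Hom.comp_apply, Scheme.Hom.comp_apply, hby]
  refine hno (closed_ne_generic hR ?_) ι hE hconst
  have h := (ι ≫ X.hom).isClosedMap _ isClosed_univ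
  rwa [Set.image_univ, show Set.range (ι ≫ X.hom) = {Y.hom (r' y)} from
    Set.eq_singleton_iff_unique_mem.2 ⟨⟨a₁, hconst a₁⟩, by rintro _ ⟨a, rfl⟩; exact hconst a⟩] at h

end Groth.Agent.H26.DedMin
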