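import Groth.Agent.H26.DedMin.BCNef
import Groth.Agent.H26.DedMin.CanAuto
import Groth.Agent.H26.DedMin.Min
import Groth.Agent.H26.Adjunction.RelMin
import Groth.Agent.FlatDvr.FibreStalk
import Groth.Agent.FlatLoc6.Rk
import Groth.Agent.MorLib.WeightFlat
import Groth.Agent.S13307
import Groth.Agent.S13321
import Groth.Agent.SchTop.Closed

/-!
# Base change of arithmetic surfaces along unramified extensions
-/

noncomputable section

set_option autoImplicit false
set_option linter.style.haveILetI false
set_option linter.unusedSectionVars false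
set_option backward.isDefEq.respectTransparency false
set_option backward.isDefEq.respectTransparency.types false
set_option maxHeartbeats 1000000

universe u

open CategoryTheory CategoryTheory.Limits AlgebraicGeometry TopologicalSpace IsLocalRing

namespace Groth.Agent.H26.DedMin

open Groth.Agent Groth.Agent.H23 Groth.Agent.H28

/-- Regularity and dimension along a flat unramified map. -/
theorem regular_dim_of_map_eq {X' X : Scheme.{u}} (f : X' ⟶ X) [Flat f] [IsLocallyNoetherian X']
    [IsLocallyNoetherian X] (x' : X') [IsRegularLocalRing (X.presheaf.stalk (f x'))]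
    (hm : (maximalIdeal (X.presheaf.stalk (f x'))).map (f.stalkMap x').hom = maximalIdeal (X'.presheaf.stalk x')) :
    IsRegularLocalRing (X'.presheaf.stalk x') ∧
      ringKrullDim (X'.presheaf.stalk x') = ringKrullDim (X.presheaf.stalk (f x')) := by
  let A := X.presheaf.stalk (f x')
  let B := X'.presheaf.stalk x'
  letI : Algebra A B := (f.stalkMap x').hom.toAlgebra
  haveI : Module.Flat A B := Flat.stalkMap f x'
  haveI : IsLocalHom (algebraMap A B) := inferInstanceAs (IsLocalHom (f.stalkMap x').hom)
  have hm' : (maximalIdeal A).map (algebraMap A B) = maximalIdeal B := hm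
  refine ⟨FlatLoc6.isRegularLocalRing_of_flat_fibre (A := A) (B := B) ?_, ?_⟩
  · rw [hm']
    exact inferInstanceAs (IsRegularLocalRing (IsLocalRing.ResidueField B))
  · haveI : (maximalIdeal B).LiesOver (maximalIdeal A) := ⟨(maximalIdeal_comap (algebraMap A B)).symm⟩
    have key := Ideal.height_eq_height_add_of_liesOver_of_hasGoingDown (maximalIdeal A) (maximalIdeal B)
    rw [hm', Ideal.map_quotient_self, Ideal.height_bot, add_zero] at key
    rw [← maximalIdeal_height_eq_ringKrullDim, ← maximalIdeal_height_eq_ringKrullDim, key]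

theorem regular_dim_of_etale {X' X : Scheme.{u}} (f : X' ⟶ X) [Etale f] [IsLocallyNoetherian X]
    (x' : X') [IsRegularLocalRing (X.presheaf.stalk (f x'))] :
    IsRegularLocalRing (X'.presheaf.stalk x') ∧
      ringKrullDim (X'.presheaf.stalk x') = ringKrullDim (X.presheaf.stalk (f x')) := by
  haveI : IsLocallyNoetherian X' := LocallyOfFiniteType.isLocallyNoetherian f
  exact regular_dim_of_map_eq f x' (MorLib.WT.map_maximalIdeal_stalkMap f x')

theorem dim_eq_of_stalk {X' X : Scheme.{u}} (f : X' ⟶ X) (hsur : Function.Surjective f)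
    (h : ∀ x', ringKrullDim (X'.presheaf.stalk x') = ringKrullDim (X.presheaf.stalk (f x'))) :
    topologicalKrullDim X' = topologicalKrullDim X := by
  have key : ∀ Z : Scheme.{u}, topologicalKrullDim Z = ⨆ z : Z, ringKrullDim (Z.presheaf.stalk z) := fun Z => by
    rcases isEmpty_or_nonempty Z with hZ | hZ
    · rw [topologicalKrullDim, Order.krullDim_eq_of_orderIso irreducibleSetEquivPoints, Order.krullDim_eq_bot,
        iSup_of_empty]
    · rw [topologicalKrullDim, Order.krullDim_eq_of_orderIso irreducibleSetEquivPoints,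
        Order.krullDim_eq_iSup_coheight_of_nonempty, WithBot.coe_iSup (OrderTop.bddAbove _)]
      exact iSup_congr fun z => (ringKrullDim_stalk_eq_coheight z).symm
  rw [key, key, ← hsur.iSup_comp (fun z => ringKrullDim (X.presheaf.stalk z))]
  exact iSup_congr h

theorem isArithSurface_of_iso {R : Type u} [CommRing R] {X X' : Over (Spec (CommRingCat.of R))}
    (hX : ArSurf.IsArithSurface R X) (e : X'.left ≅ X.left) (he : e.hom ≫ X.hom = X'.hom) :
    ArSurf.IsArithSurface R X' := by
  obtain ⟨hreg, hint, hdim, hflat, n, i, hi, hc⟩ := hX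
  haveI := hint; haveI := hflat; haveI := hi
  refine ⟨fun z => ?_, ?_, ?_, he ▸ inferInstance, n, e.hom ≫ i, inferInstance, by rw [Category.assoc, hc, he]⟩
  · haveI := hreg (e.hom z)
    exact IsRegularLocalRing.of_ringEquiv (asIso (e.hom.stalkMap z)).commRingCatIsoToRingEquiv
  · haveI : Nonempty X'.left := ⟨e.inv (genericPoint X.left)⟩
    exact isIntegral_of_isOpenImmersion e.hom
  · rw [← hdim]
    exact IsHomeomorph.topologicalKrullDim_eq _ e.hom.homeomorph.isHomeomorph

/-- An arithmetic surface over a discrete valuation ring has a canonical sheaf. -/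
theorem exists_canonical_surface {A : Type u} [CommRing A] [IsDomain A] [IsDiscreteValuationRing A]
    {X : Over (Spec (CommRingCat.of A))} (hX : ArSurf.IsArithSurface A X) :
    ∃ ω : X.left.Modules, PicF.IsInvertible ω ∧ Canon.IsCanonical X.hom ω := by
  obtain ⟨hreg, hint, hdim, hflat, n, i, hi, hc⟩ := hX
  haveI := hint; haveI := hi
  haveI := MultiP1.isProper_toBase (X := Spec (CommRingCat.of A)) n
  haveI : IsProper X.hom := hc ▸ inferInstance
  haveI : IsLocallyNoetherian (CohB1.ProjSpaceOver n (Spec (CommRingCat.of A))) :=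
    LocallyOfFiniteType.isLocallyNoetherian (CohB1.ProjSpaceOver.toBase n _)
  refine Adjunction.exists_isCanonical X.hom i (CohB1.ProjSpaceOver.toBase n _) n ?_ hc
  refine Adjunction.regClosed_of_lci i (CohB1.ProjSpaceOver.toBase n (Spec (CommRingCat.of A))) (Adjunction.regular_projSpaceOver A n) ?_
  rw [hc]
  exact Adjunction.isLCI'_of_regular X.hom hreg (Adjunction.regular_spec A)

variable {A A' : Type u} [CommRing A] [IsDomain A] [IsDiscreteValuationRing A]
  [CommRing A'] [IsDomain A'] [IsDiscreteValuationRing A'] (φ : A →+* A') [IsLocalHom φ]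
  {X : Over (Spec (CommRingCat.of A))} {X' : Over (Spec (CommRingCat.of A'))}
  (π : X'.left ⟶ X.left) (sq : IsPullback π X'.hom X.hom (Spec.map (CommRingCat.ofHom φ)))

include sq in
/-- Canonical sheaves commute with flat base change of arithmetic surfaces. -/
theorem canonical_bc (hX : ArSurf.IsArithSurface A X) (hX' : ArSurf.IsArithSurface A' X')
    (hflat : Flat (Spec.map (CommRingCat.ofHom φ)))
    (ω : X.left.Modules) (hω : Canon.IsCanonical X.hom ω)
    (ω' : X'.left.Modules) (hω' : Canon.IsCanonical X'.hom ω') :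
    Nonempty ((Scheme.Modules.pullback π).obj ω ≅ ω') := by
  let j := Spec.map (CommRingCat.ofHom φ)
  obtain ⟨-, -, -, -, n, i, hi, hc⟩ := id hX
  obtain ⟨-, -, -, -, n', i', hi', hc'⟩ := id hX'
  haveI := hi; haveI := hi'
  let X'' : Over (Spec (CommRingCat.of A')) := Over.mk (pullback.snd X.hom j)
  let e : X'.left ≅ X''.left := sq.isoPullback
  have hX'' : ArSurf.IsArithSurface A' X'' :=
    isArithSurface_of_iso hX' e.symm (sq.isoPullback_inv_snd)
  obtain ⟨ω'', -, hω''⟩ := exists_canonical_surface hX''
  obtain ⟨-, -, -, -, n'', i'', hi'', hc''⟩ := id hX''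
  haveI := hi''
  haveI := MultiP1.isProper_toBase (X := Spec (CommRingCat.of A')) n''
  haveI : IsProper X''.hom := hc'' ▸ inferInstance
  haveI : IsLocallyNoetherian X''.left := LocallyOfFiniteType.isLocallyNoetherian X''.hom
  obtain ⟨e₁⟩ := S13307.result X.left (Spec (CommRingCat.of A)) (Spec (CommRingCat.of A')) X.hom j
    ⟨n, i, inferInstance, hc⟩ (Or.inr hflat) ω hω ω'' hω''
  obtain ⟨e₂⟩ := S13306.result X'.left X''.left _ e.hom X''.hom (Adjunction.exists_immersion_P1 e.hom)
    ⟨n'', i'', inferInstance, hc''⟩ _ ω'' ω' (isCanonical_of_isIso e.hom) hω''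
    (by rw [show e.hom ≫ X''.hom = X'.hom from sq.isoPullback_hom_snd]; exact hω')
  letI := PicMul.clMonoid X'.left
  have h := PicMul.cl_eq_iff.2 (Nonempty.intro e₂)
  rw [PicMul.cl_tensor, ← PicMul.one_def, one_mul] at h
  refine ⟨?_ ≪≫ (PicMul.cl_eq_iff.1 h.symm).some⟩
  exact (Scheme.Modules.pullbackCongr sq.isoPullback_hom_fst.symm).app ω ≪≫
    ((Scheme.Modules.pullbackComp e.hom (pullback.fst X.hom j)).app ω).symm ≪≫
    (Scheme.Modules.pullback e.hom).mapIso e₁.symm

omit [IsLocalHom φ] in
/-- Euler characteristics of generic fibres are invariant. -/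
theorem euler_bc {R S : Type u} [CommRing R] [IsDomain R] [CommRing S] [IsDomain S] (θ : R →+* S)
    (hθ : Function.Injective θ) {Z : Over (Spec (CommRingCat.of R))} {Z' : Over (Spec (CommRingCat.of S))}
    [IsProper Z.hom] (q : Z'.left ⟶ Z.left) (sqZ : IsPullback q Z'.hom Z.hom (Spec.map (CommRingCat.ofHom θ))) :
    FGA.eulerCharLE (FractionRing S) ((Neron.genericFibre S).obj Z').left (Coh.structureModule _) 1 =
      FGA.eulerCharLE (FractionRing R) ((Neron.genericFibre R).obj Z).left (Coh.structureModule _) 1 := by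
  letI : Algebra R S := θ.toAlgebra
  let K := FractionRing R
  let L := FractionRing S
  haveI : FaithfulSMul R L := (faithfulSMul_iff_algebraMap_injective R L).2 (by
    rw [IsScalarTower.algebraMap_eq R S L, RingHom.coe_comp]
    exact (IsFractionRing.injective S L).comp hθ)
  letI : Algebra K L := FractionRing.liftAlgebra R L
  haveI : IsScalarTower R K L := FractionRing.isScalarTower_liftAlgebra R L
  let j : Spec (CommRingCat.of L) ⟶ Spec (CommRingCat.of K) := Spec.map (CommRingCat.ofHom (algebraMap K L))
  have hj : j ≫ Neron.genPt R = Neron.genPt S ≫ Spec.map (CommRingCat.ofHom θ) := by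
    rw [← Spec.map_comp, ← Spec.map_comp, ← CommRingCat.ofHom_comp, ← CommRingCat.ofHom_comp,
      ← IsScalarTower.algebraMap_eq R K L, IsScalarTower.algebraMap_eq R S L]
    rfl
  have big : IsPullback (pullback.fst Z'.hom (Neron.genPt S) ≫ q)
      (pullback.snd Z'.hom (Neron.genPt S)) Z.hom (j ≫ Neron.genPt R) := by
    rw [hj]
    exact (IsPullback.of_hasPullback Z'.hom (Neron.genPt S)).paste_horiz sqZ
  let t := pullback.lift (pullback.fst Z'.hom (Neron.genPt S) ≫ q)
    (pullback.snd Z'.hom (Neron.genPt S) ≫ j) (by rw [Category.assoc _ j]; exact big.w)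
  have sqt : IsPullback t (pullback.snd Z'.hom (Neron.genPt S)) (pullback.snd Z.hom (Neron.genPt R)) j :=
    IsPullback.of_right (by rw [pullback.lift_fst]; exact big) (pullback.lift_snd _ _ _)
      (IsPullback.of_hasPullback Z.hom (Neron.genPt R))
  refine (eulerCharLE_eq L _ ((Neron.genericFibre S).obj Z').hom).trans ?_
  refine Eq.trans ?_ (eulerCharLE_eq K _ ((Neron.genericFibre R).obj Z).hom).symm
  erw [hRank_baseChange K L (pullback.snd Z.hom (Neron.genPt R)) (pullback.snd Z'.hom (Neron.genPt S)) t sqt 0,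
    hRank_baseChange K L (pullback.snd Z.hom (Neron.genPt R)) (pullback.snd Z'.hom (Neron.genPt S)) t sqt 1]
  rfl

include sq in
/-- Relative minimality is inherited by unramified base change. -/
theorem nef_bc (hX : ArSurf.IsArithSurface A X) (hX' : ArSurf.IsArithSurface A' X')
    (hflat : Flat (Spec.map (CommRingCat.ofHom φ))) (hfin : (IsLocalRing.ResidueField.map φ).Finite)
    (hmin : Neron.IsRelMinimalRegularModel A X)
    (hg : FGA.eulerCharLE (FractionRing A) ((Neron.genericFibre A).obj X).left (Coh.structureModule _) 1 ≤ 0)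
    (Γ' : ArSurf.VertComp A' X') : ¬ Models.IsExcCurve Γ'.ι := by
  intro hE
  obtain ⟨ω, hωi, hω⟩ := exists_canonical_surface hX
  obtain ⟨ω', -, hω'⟩ := exists_canonical_surface hX'
  obtain ⟨-, -, -, -, n, i, hi, hc⟩ := id hX
  obtain ⟨-, -, -, -, n', i', hi', hc'⟩ := id hX'
  haveI := hi; haveI := hi'
  haveI := MultiP1.isProper_toBase (X := Spec (CommRingCat.of A)) n
  haveI := MultiP1.isProper_toBase (X := Spec (CommRingCat.of A')) n'
  haveI : IsProper X.hom := hc ▸ inferInstance
  haveI : IsProper X'.hom := hc' ▸ inferInstance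
  have h0 := nef_pullback φ π sq hfin ω hωi ((S13321.result A X hX hg ω hω).1 hmin) Γ'
  obtain ⟨e⟩ := canonical_bc φ π sq hX hX' hflat ω hω ω' hω'
  have h1 := Adjunction.canonical_neg_of_isExcCurve hX' hω' Γ' hE
  have h2 : ArSurf.inter A' X' ((Scheme.Modules.pullback π).obj ω) Γ' = ArSurf.inter A' X' ω' Γ' :=
    Pic13Lib.NumTriv.curveDeg_congr _ _ ((Scheme.Modules.pullback Γ'.ι).mapIso e)
  omega

end Groth.Agent.H26.DedMin
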