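import Groth.Agent.H26.DedMin.Min
import Groth.Agent.H26.CompList
import Groth.Agent.H26.ExcCrit
import Groth.Agent.Triage.GeomCount
import Groth.Agent.S1338
import Groth.Agent.S1339
import Groth.Agent.S1654
import Groth.Agent.S9799
import Groth.Agent.S2626
import Groth.Agent.EtStalk.Basic

/-!
# Exceptional curves occur over finitely many closed points
-/

noncomputable section

set_option autoImplicit false
set_option linter.style.haveILetI false
set_option linter.unusedSectionVars false
set_option backward.isDefEq.respectTransparency false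
set_option backward.isDefEq.respectTransparency.types false
set_option maxHeartbeats 1000000

universe u

open CategoryTheory CategoryTheory.Limits AlgebraicGeometry TopologicalSpace IsLocalRing

namespace Groth.Agent.H26.DedMin

open Groth.Agent

section Top

variable {P : Type u} [TopologicalSpace P]

theorem count_eq_of_open (h : ∀ Z ∈ irreducibleComponents P, IsOpen Z) :
    (irreducibleComponents P).encard = ENat.card (_root_.ConnectedComponents P) := by
  have hcc : ∀ Z ∈ irreducibleComponents P, ∀ x ∈ Z, connectedComponent x = Z := fun Z hZ x hx =>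
    ((IsClopen.connectedComponent_subset ⟨isClosed_of_mem_irreducibleComponents Z hZ, h Z hZ⟩ hx)).antisymm
      (hZ.1.isConnected.isPreconnected.subset_connectedComponent hx)
  rw [← ENat.card_coe_set_eq]
  refine ENat.card_congr (Equiv.ofBijective
    (fun Z : irreducibleComponents P => ((Z.2.1.nonempty.choose : P) : _root_.ConnectedComponents P)) ⟨?_, ?_⟩)
  · intro Z Z' hZ
    refine Subtype.ext ?_
    rw [← hcc _ Z.2 _ Z.2.1.nonempty.choose_spec, ← hcc _ Z'.2 _ Z'.2.1.nonempty.choose_spec]
    exact ConnectedComponents.coe_eq_coe.1 hZ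
  · rintro ⟨x⟩
    obtain ⟨Z, hZ, hx⟩ := Set.mem_sUnion.1 ((sUnion_irreducibleComponents (X := P)).ge (Set.mem_univ x))
    refine ⟨⟨Z, hZ⟩, ConnectedComponents.coe_eq_coe.2 ?_⟩
    rw [hcc _ hZ _ (Exists.choose_spec _), hcc _ hZ _ hx]

theorem eq_of_count (hfin : (irreducibleComponents P).Finite)
    (h : (irreducibleComponents P).encard = ENat.card (_root_.ConnectedComponents P))
    {Z Z' : Set P} (hZ : Z ∈ irreducibleComponents P) (hZ' : Z' ∈ irreducibleComponents P)
    {x : P} (hx : x ∈ Z) (hx' : x ∈ Z') : Z = Z' := by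
  haveI := hfin.to_subtype
  have hcc : ∀ Z ∈ irreducibleComponents P, ∀ a ∈ Z, ∀ b ∈ Z, (a : _root_.ConnectedComponents P) = b :=
    fun Z hZ a ha b hb => ConnectedComponents.coe_eq_coe'.2
      (hZ.1.isConnected.isPreconnected.subset_connectedComponent hb ha)
  let g : irreducibleComponents P → _root_.ConnectedComponents P := fun Z => (Z.2.1.nonempty.choose : P)
  have hsur : Function.Surjective g := by
    rintro ⟨a⟩
    obtain ⟨W, hW, ha⟩ := Set.mem_sUnion.1 ((sUnion_irreducibleComponents (X := P)).ge (Set.mem_univ a))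
    exact ⟨⟨W, hW⟩, hcc _ hW _ (Exists.choose_spec _) _ ha⟩
  haveI : Finite (_root_.ConnectedComponents P) := Finite.of_surjective g hsur
  have hbij : Function.Bijective g := (Nat.bijective_iff_surjective_and_card g).2 ⟨hsur, by
    rw [← ENat.card_coe_set_eq, ENat.card_eq_coe_natCard, ENat.card_eq_coe_natCard] at h
    exact_mod_cast h⟩
  exact congrArg Subtype.val (hbij.1 (a₁ := ⟨Z, hZ⟩) (a₂ := ⟨Z', hZ'⟩)
    ((hcc _ hZ _ (Exists.choose_spec _) _ hx).trans (hcc _ hZ' _ hx' _ (Exists.choose_spec _))))

theorem exists_open_generic [IrreducibleSpace P] (η : P) (hη : ∀ U : Set P, IsOpen U → U.Nonempty → η ∈ U)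
    {S : Set P} (hS : Topology.IsConstructible S) :
    ∃ U : Set P, IsOpen U ∧ η ∈ U ∧ (U ⊆ S ∨ U ⊆ Sᶜ) := by
  induction hS using Topology.IsConstructible.empty_union_induction with
  | open_retrocompact U hU _ =>
    by_cases h : η ∈ U
    · exact ⟨U, hU, h, Or.inl subset_rfl⟩
    · exact ⟨Set.univ, isOpen_univ, trivial, Or.inr fun a _ ha => h (hη U hU ⟨a, ha⟩)⟩
  | union s hs t ht hs' ht' =>
    obtain ⟨U, hU, hUη, hU'⟩ := hs'
    obtain ⟨V, hV, hVη, hV'⟩ := ht'
    refine ⟨U ∩ V, hU.inter hV, ⟨hUη, hVη⟩, ?_⟩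
    rcases hU' with hU' | hU'
    · exact Or.inl fun a ha => Or.inl (hU' ha.1)
    rcases hV' with hV' | hV'
    · exact Or.inl fun a ha => Or.inr (hV' ha.2)
    · exact Or.inr fun a ha h => h.elim (hU' ha.1) (hV' ha.2)
  | compl s hs hs' =>
    obtain ⟨U, hU, hUη, hU'⟩ := hs'
    exact ⟨U, hU, hUη, hU'.symm.imp id fun h => by rwa [compl_compl]⟩

end Top

/-- Over a finite separable extension the components of a regular scheme are disjoint; hence so are those of the
separable geometric fibre. -/
theorem count_generic {K : Type u} [Field K] {Y : Scheme.{u}} [Y.Over (Spec (CommRingCat.of K))]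
    [LocallyOfFiniteType (Y ↘ Spec (CommRingCat.of K))] [CompactSpace Y]
    (hreg : ∀ x : Y, IsRegularLocalRing (Y.presheaf.stalk x)) (pt : Spec (CommRingCat.of K)) :
    MoreMor.nGeomIrredComp (Y ↘ Spec (CommRingCat.of K)) pt =
        MoreMor.nGeomConnComp (Y ↘ Spec (CommRingCat.of K)) pt ∧
      MoreMor.nGeomIrredComp (Y ↘ Spec (CommRingCat.of K)) pt < ⊤ := by
  haveI : IsLocallyNoetherian Y := LocallyOfFiniteType.isLocallyNoetherian (Y ↘ Spec (CommRingCat.of K))
  haveI : IsNoetherian Y := ⟨⟩
  obtain ⟨L, _, _, hfd, hsep, hgeo⟩ := S1654.result K Y TopologicalSpace.NoetherianSpace.finite_irreducibleComponents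
  haveI := hfd
  haveI := hsep
  haveI : Algebra.FormallyEtale K L := Algebra.FormallyEtale.of_isSeparable K L
  haveI : Algebra.Etale K L :=
    { finitePresentation := Algebra.FinitePresentation.of_finiteType.1 inferInstance }
  haveI : Etale (Spec.map (CommRingCat.ofHom (algebraMap K L))) := by
    rw [HasRingHomProperty.Spec_iff (P := @Etale)]
    exact RingHom.etale_algebraMap.2 inferInstance
  let YL := Curv2.bc K Y L
  let g : YL ⟶ Spec (CommRingCat.of L) := Curv2.bcSnd K Y L
  have hsq : IsPullback (Curv2.bcFst K Y L) g (Y ↘ Spec (CommRingCat.of K))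
      (Spec.map (CommRingCat.ofHom (algebraMap K L))) := IsPullback.of_hasPullback _ _
  haveI : Etale (Curv2.bcFst K Y L) := MorphismProperty.of_isPullback (P := @Etale) hsq.flip inferInstance
  haveI : LocallyOfFiniteType g := MorphismProperty.of_isPullback (P := @LocallyOfFiniteType) hsq inferInstance
  haveI : QuasiCompact g := MorphismProperty.of_isPullback (P := @QuasiCompact) hsq
    (by exact (quasiCompact_iff_compactSpace _).2 inferInstance)
  haveI : IsLocallyNoetherian YL := LocallyOfFiniteType.isLocallyNoetherian g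
  haveI : CompactSpace YL := QuasiCompact.compactSpace_of_compactSpace g
  haveI : IsNoetherian YL := ⟨⟩
  have hregL : ∀ z : YL, IsRegularLocalRing (YL.presheaf.stalk z) := fun z =>
    (EtStalk.regular_stalk_iff (Curv2.bcFst K Y L) z).2 (hreg _)
  have hfinL : (irreducibleComponents (YL : Type u)).Finite :=
    TopologicalSpace.NoetherianSpace.finite_irreducibleComponents
  obtain ⟨-, hdisL⟩ := S9799.result YL (fun U _ =>
      haveI : NoetherianSpace ↥U := Topology.IsEmbedding.subtypeVal.isInducing.noetherianSpace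
      TopologicalSpace.NoetherianSpace.finite_irreducibleComponents)
    (fun z =>
      haveI := hregL z
      ⟨RegLoc6.isDomain_of_isRegularLocalRing _, RegLoc6.isIntegrallyClosed_of_isRegularLocalRing _⟩)
  let ptL : Spec (CommRingCat.of L) := IsLocalRing.closedPoint L
  rw [Subsingleton.elim pt (Spec.map (CommRingCat.ofHom (algebraMap K L)) ptL),
    ← (Triage.GeomCount.nGeom_baseChange _ g _ _ hsq ptL).1,
    ← (Triage.GeomCount.nGeom_baseChange _ g _ _ hsq ptL).2]
  let κ := (Spec (CommRingCat.of L)).residueField ptL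
  let b : Spec (CommRingCat.of (SeparableClosure κ)) ⟶ Spec (CommRingCat.of L) :=
    Spec.map (CommRingCat.ofHom (algebraMap κ (SeparableClosure κ))) ≫
      (Spec (CommRingCat.of L)).fromSpecResidueField ptL
  let P := MoreMor.geomFiber g ptL
  let q : P ⟶ YL := pullback.fst _ _ ≫ g.fiberι ptL
  have hP : IsPullback q (pullback.snd _ _) g b :=
    (IsPullback.of_hasPullback (g.fiberToSpecResidueField ptL) _).paste_horiz
      (IsPullback.of_hasPullback g ((Spec (CommRingCat.of L)).fromSpecResidueField ptL))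
  let C := irreducibleComponents (YL : Type u)
  have hirr : ∀ T ∈ C, IsIrreducible (q ⁻¹' T) := by
    intro T hT
    let J := Scheme.IdealSheafData.vanishingIdeal (⟨T, isClosed_of_mem_irreducibleComponents T hT⟩ : Closeds YL)
    haveI := hgeo T hT
    haveI : IrreducibleSpace ↥(pullback J.subschemeι q) :=
      GeometricallyIrreducible.geometrically_irreducibleSpace (f := J.subschemeι ≫ g) b
        (pullback.fst J.subschemeι q) (pullback.snd J.subschemeι q ≫ pullback.snd _ _)
        ((IsPullback.of_hasPullback J.subschemeι q).flip.paste_horiz hP.flip).flip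
    have h : q ⁻¹' T = Set.range (pullback.snd J.subschemeι q) := by
      rw [Scheme.Pullback.range_snd, Scheme.IdealSheafData.range_subschemeι,
        Scheme.IdealSheafData.coe_support_vanishingIdeal]
      rfl
    rw [h, ← Set.image_univ]
    exact (IrreducibleSpace.isIrreducible_univ _).image _ (pullback.snd J.subschemeι q).continuous.continuousOn
  have hcl : ∀ T ∈ C, IsClosed (q ⁻¹' T) := fun T hT =>
    (isClosed_of_mem_irreducibleComponents T hT).preimage q.continuous
  have hcompP : ∀ Z ∈ irreducibleComponents (P : Type u), ∃ T ∈ C, Z = q ⁻¹' T := by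
    intro Z hZ
    obtain ⟨η, hη⟩ : ∃ η, IsGenericPoint η Z :=
      QuasiSober.sober hZ.1 (isClosed_of_mem_irreducibleComponents Z hZ)
    obtain ⟨T, hT, hηT⟩ := Set.mem_sUnion.1 ((sUnion_irreducibleComponents (X := YL)).ge (Set.mem_univ (q η)))
    refine ⟨T, hT, subset_antisymm ?_ (hZ.2 (hirr T hT) ?_)⟩ <;>
    · rw [← hη.def]
      exact (hcl T hT).closure_subset_iff.2 (Set.singleton_subset_iff.2 hηT)
  have hfinP : (irreducibleComponents (P : Type u)).Finite :=
    (hfinL.image fun T => q ⁻¹' T).subset fun Z hZ => by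
      obtain ⟨T, hT, rfl⟩ := hcompP Z hZ
      exact ⟨T, hT, rfl⟩
  refine ⟨count_eq_of_open fun Z hZ => ?_, hfinP.encard_lt_top⟩
  obtain ⟨T, hT, rfl⟩ := hcompP Z hZ
  rw [← isClosed_compl_iff, ← Set.preimage_compl]
  refine IsClosed.preimage q.continuous ?_
  have h : Tᶜ = ⋃ T' ∈ C \ {T}, T' := by
    ext a
    simp only [Set.mem_compl_iff, Set.mem_iUnion, Set.mem_diff, Set.mem_singleton_iff, exists_prop]
    refine ⟨fun ha => ?_, fun ⟨T', ⟨hT', hne⟩, ha'⟩ ha => Set.disjoint_left.1 (hdisL T' hT' T hT hne) ha' ha⟩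
    obtain ⟨T', hT', ha'⟩ := Set.mem_sUnion.1 ((sUnion_irreducibleComponents (X := YL)).ge (Set.mem_univ a))
    exact ⟨T', ⟨hT', fun e => ha (e ▸ ha')⟩, ha'⟩
  rw [h]
  exact (hfinL.subset Set.diff_subset).isClosed_biUnion fun T' hT' => isClosed_of_mem_irreducibleComponents T' hT'.1

/-- Where the geometric counts agree, two points of a fibre with a common specialisation have a common
generalisation in the fibre. -/
theorem exists_common_generalization {X S : Scheme.{u}} (f : X ⟶ S) (s : S)
    (hfin : MoreMor.nGeomIrredComp f s < ⊤) (h : MoreMor.nGeomIrredComp f s = MoreMor.nGeomConnComp f s)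
    {z e x : X} (hz : f z = s) (he : f e = s) (hx : f x = s) (hzx : z ⤳ x) (hex : e ⤳ x) :
    ∃ w, f w = s ∧ w ⤳ z ∧ w ⤳ e := by
  let P := MoreMor.geomFiber f s
  let p : P ⟶ f.fiber s := pullback.fst _ _
  haveI : Flat (Spec.map (CommRingCat.ofHom
      (algebraMap (S.residueField s) (SeparableClosure (S.residueField s))))) := by
    rw [HasRingHomProperty.Spec_iff (P := @Flat)]
    exact RingHom.flat_algebraMap_iff.2 inferInstance
  haveI : Surjective (Spec.map (CommRingCat.ofHom
      (algebraMap (S.residueField s) (SeparableClosure (S.residueField s))))) :=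
    ⟨fun a => ⟨IsLocalRing.closedPoint (SeparableClosure (S.residueField s)), Subsingleton.elim _ _⟩⟩
  haveI : Surjective p := inferInstance
  haveI : Flat p := inferInstance
  have hr := Scheme.Hom.range_fiberι f s
  obtain ⟨z₁, rfl⟩ := hr.ge hz
  obtain ⟨e₁, rfl⟩ := hr.ge he
  obtain ⟨x₁, rfl⟩ := hr.ge hx
  obtain ⟨x', rfl⟩ := p.surjective x₁
  have hind := (f.fiberι s).isEmbedding.isInducing
  obtain ⟨z', hz', rfl⟩ := Flat.generalizingMap (f := p) (hind.specializes_iff.1 hzx)
  obtain ⟨e', he', rfl⟩ := Flat.generalizingMap (f := p) (hind.specializes_iff.1 hex)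
  have hex' : ∀ a : P, ∃ Z ∈ irreducibleComponents (P : Type u), a ∈ Z := fun a =>
    Set.mem_sUnion.1 ((sUnion_irreducibleComponents (X := P)).ge (Set.mem_univ a))
  obtain ⟨Z, hZ, hzZ⟩ := hex' z'
  obtain ⟨Z', hZ', heZ⟩ := hex' e'
  have hxZ : x' ∈ Z := hz'.mem_closed (isClosed_of_mem_irreducibleComponents Z hZ) hzZ
  have hxZ' : x' ∈ Z' := he'.mem_closed (isClosed_of_mem_irreducibleComponents Z' hZ') heZ
  obtain rfl := eq_of_count (P := P) (Set.encard_lt_top_iff.1 hfin) h hZ hZ' hxZ hxZ'
  obtain ⟨η, hη⟩ : ∃ η, IsGenericPoint η Z :=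
    QuasiSober.sober hZ.1 (isClosed_of_mem_irreducibleComponents Z hZ)
  have hfp : ∀ a : P, f (f.fiberι s (p a)) = s := fun a => hr.le ⟨p a, rfl⟩
  exact ⟨_, hfp η, ((hη.specializes hzZ).map p.continuous).map (f.fiberι s).continuous,
    ((hη.specializes heZ).map p.continuous).map (f.fiberι s).continuous⟩

end Groth.Agent.H26.DedMin
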