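import Groth.Agent.H26.DedMin.ContractCan
import Groth.Agent.H26.DedMin.AmpleComp
import Groth.Agent.Lib.DegBirat
import Groth.Agent.S13321

/-!
# The canonical sheaf of the canonical model is ample
-/

noncomputable section

set_option autoImplicit false
set_option linter.style.haveILetI false
set_option linter.unusedSectionVars false
set_option backward.isDefEq.respectTransparency false
set_option backward.isDefEq.respectTransparency.types false
set_option maxHeartbeats 1600000

universe u

open CategoryTheory CategoryTheory.Limits AlgebraicGeometry TopologicalSpace IsLocalRing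
open scoped Groth.Agent.H23.PicMul

namespace Groth.Agent.H26.DedMin

open Groth.Agent Groth.Agent.H23

variable {R : Type u} [CommRing R] [IsDomain R] [IsDiscreteValuationRing R]

theorem apply_vert {X : Over (Spec (CommRingCat.of R))} (C : ArSurf.VertComp R X) (c : C.curve.left) :
    C.ι c ∈ Models.specialFibreSet R X := by
  show X.hom (C.ι c) = _
  rw [← Scheme.Hom.comp_apply, C.w, Scheme.Hom.comp_apply]
  exact PrimeSpectrum.ext ((congrArg (Ideal.comap (IsLocalRing.residue R))
    ((Ideal.eq_bot_or_top _).resolve_right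
      (C.curve.hom c : PrimeSpectrum (IsLocalRing.ResidueField R)).isPrime.ne_top)).trans IsLocalRing.ker_residue)

theorem exists_lift {X : Over (Spec (CommRingCat.of R))} {Y : Over (Spec (CommRingCat.of R))}
    (f : X ⟶ Y) (C : ArSurf.VertComp R X) (Δ : ArSurf.VertComp R Y) [QuasiCompact (C.ι ≫ f.left)]
    (h : Set.range (C.ι ≫ f.left) ⊆ Set.range Δ.ι.base) :
    ∃ g : C.curve.left ⟶ Δ.curve.left, g ≫ Δ.ι = C.ι ≫ f.left ∧ g ≫ Δ.curve.hom = C.curve.hom := by
  haveI := Δ.isClosedImmersion
  haveI := C.isIntegral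
  let Z : Closeds Y.left := ⟨Set.range Δ.ι.base, Δ.ι.isClosedEmbedding.isClosed_range⟩
  have hk : Δ.ι.ker ≤ (C.ι ≫ f.left).ker := by
    refine le_trans ?_ (vanishingIdeal_le_ker (C.ι ≫ f.left) Z h)
    refine Scheme.IdealSheafData.le_support_iff_le_vanishingIdeal.1 fun y hy => ?_
    show y ∈ (Δ.ι.ker.support : Set Y.left)
    rw [Scheme.Hom.support_ker]
    exact subset_closure hy
  refine ⟨IsClosedImmersion.lift Δ.ι (C.ι ≫ f.left) hk, IsClosedImmersion.lift_fac _ _ _, ?_⟩
  haveI : IsClosedImmersion (Spec.map (CommRingCat.ofHom (IsLocalRing.residue R))) :=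
    IsClosedImmersion.spec_of_surjective _ IsLocalRing.residue_surjective
  rw [← cancel_mono (Spec.map (CommRingCat.ofHom (IsLocalRing.residue R))), Category.assoc, ← Δ.w, ← Category.assoc,
    IsClosedImmersion.lift_fac, Category.assoc, Over.w f, C.w]

/-- The degree of a pullback on a curve mapped birationally. -/
theorem inter_pullback_birat {X Y : Over (Spec (CommRingCat.of R))} [IsProper X.hom] [IsProper Y.hom] (f : X ⟶ Y)
    (C : ArSurf.VertComp R X) (Δ : ArSurf.VertComp R Y) (V : Y.left.Opens) [IsIso (f.left ∣_ V)]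
    (hC : Models.genPtOf R X C ∈ f.left ⁻¹ᵁ V) (h : f.left (Models.genPtOf R X C) = Models.genPtOf R Y Δ)
    {M : Y.left.Modules} (hM : PicF.IsInvertible M) :
    ArSurf.inter R X ((Scheme.Modules.pullback f.left).obj M) C = ArSurf.inter R Y M Δ := by
  haveI := C.isIntegral
  haveI := Δ.isIntegral
  haveI := C.isClosedImmersion
  haveI := Δ.isClosedImmersion
  haveI := ArInter.isProper_curve C
  haveI := ArInter.isProper_curve Δ
  haveI : IsProper (f.left ≫ Y.hom) := by rw [Over.w f]; infer_instance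
  haveI : IsProper f.left := IsProper.of_comp f.left Y.hom
  have hsub : Set.range (C.ι ≫ f.left) ⊆ Set.range Δ.ι.base := by
    rintro _ ⟨c, rfl⟩
    have h1 : (C.ι ≫ f.left) (genericPoint C.curve.left) ⤳ (C.ι ≫ f.left) c :=
      (genericPoint_specializes c).map (C.ι ≫ f.left).continuous
    exact h1.mem_closed Δ.ι.isClosedEmbedding.isClosed_range ⟨genericPoint Δ.curve.left, h.symm⟩
  obtain ⟨g, hg, hgk⟩ := exists_lift f C Δ hsub
  let U' : Δ.curve.left.Opens := Δ.ι ⁻¹ᵁ V
  haveI : IsProper (g ≫ Δ.curve.hom) := by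
    rw [hgk]; exact inferInstanceAs (IsProper (C.curve.left ↘ Spec (CommRingCat.of (IsLocalRing.ResidueField R))))
  haveI : IsProper Δ.curve.hom :=
    inferInstanceAs (IsProper (Δ.curve.left ↘ Spec (CommRingCat.of (IsLocalRing.ResidueField R))))
  haveI : IsProper g := IsProper.of_comp g Δ.curve.hom
  have hgg : g (genericPoint C.curve.left) = genericPoint Δ.curve.left := by
    refine Δ.ι.isClosedEmbedding.injective ?_
    rw [← Scheme.Hom.comp_apply, hg]
    exact h
  have hgenU : genericPoint C.curve.left ∈ g ⁻¹ᵁ U' := by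
    show Δ.ι (g (genericPoint C.curve.left)) ∈ V
    rw [← Scheme.Hom.comp_apply, hg]
    exact hC
  haveI : IsClosedImmersion (g ∣_ U') := by
    haveI : IsClosedImmersion ((g ≫ Δ.ι) ∣_ V) := by
      rw [hg, morphismRestrict_comp]
      infer_instance
    rw [morphismRestrict_comp] at this
    exact IsClosedImmersion.of_comp (g ∣_ U') (Δ.ι ∣_ V)
  haveI : Surjective (g ∣_ U') := ⟨fun p => by
    obtain ⟨c, -, hc⟩ := g.isClosedMap.specializingMap
      (hgg ▸ genericPoint_specializes (U'.ι p) : g (genericPoint C.curve.left) ⤳ U'.ι p)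
    refine ⟨⟨c, show g c ∈ U' by rw [hc]; exact p.2⟩, U'.ι.isOpenEmbedding.injective ?_⟩
    rw [← Scheme.Hom.comp_apply, morphismRestrict_ι, Scheme.Hom.comp_apply]
    exact hc⟩
  haveI : IsIntegral (U' : Scheme.{u}) := by
    haveI : Nonempty (U' : Scheme.{u}) := ⟨⟨g (genericPoint C.curve.left), hgenU⟩⟩
    exact isIntegral_of_isOpenImmersion U'.ι
  haveI : IsIso (g ∣_ U') := isIso_of_isClosedImmersion_of_surjective _
  have hd := DegBirat.deg_pullback (IsLocalRing.ResidueField R) (X := Δ.curve.left) (Y := C.curve.left) Δ.dim_eq.le g hgk U'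
    (U'.2.dense ⟨g (genericPoint C.curve.left), hgenU⟩) ((g ⁻¹ᵁ U').2.dense ⟨_, hgenU⟩)
    (InvEnd.isFinLocFreeOfRank_one (PicClLib.isInvertible_pullback Δ.ι hM))
  have hMX := PicClLib.isInvertible_pullback f.left hM
  rw [ArSurf.inter, ArSurf.inter, ArInter.curveDeg_eq C (PicClLib.isInvertible_pullback C.ι hMX),
    ArInter.curveDeg_eq Δ (PicClLib.isInvertible_pullback Δ.ι hM), ← hd]
  exact CurveRR.deg_congr _ (show (Scheme.Modules.pullback C.ι).obj ((Scheme.Modules.pullback f.left).obj M) ≅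
      (Scheme.Modules.pullback g).obj ((Scheme.Modules.pullback Δ.ι).obj M) from
    (Scheme.Modules.pullbackComp C.ι f.left).app M ≪≫
      (Scheme.Modules.pullbackCongr hg.symm).app M ≪≫ ((Scheme.Modules.pullbackComp g Δ.ι).app M).symm) 1

theorem canonical_ample {X : Over (Spec (CommRingCat.of R))} (hX : ArSurf.IsArithSurface R X)
    (hmin : Neron.IsRelMinimalRegularModel R X)
    (hg : FGA.eulerCharLE (FractionRing R) ((Neron.genericFibre R).obj X).left (Coh.structureModule ((Neron.genericFibre R).obj X).left) 1 ≤ 0)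
    (ωX : X.left.Modules) (hωX : Canon.IsCanonical X.hom ωX)
    {r : ℕ} (Γ : Fin r → ArSurf.VertComp R X)
    (hΓ : Function.Injective fun i => Set.range ((Γ i).ι.base : (Γ i).curve.left → X.left))
    (L : Fin r → X.left.Modules) (hL : ∀ j, ClSub.IsInverseOf (L j) (ClSub.idealMod (Γ j).ι.ker))
    (hK : ∀ i, ArSurf.inter R X ωX (Γ i) = 0)
    (hall : ∀ C : ArSurf.VertComp R X, ArSurf.inter R X ωX C = 0 →
      ∃ i, Set.range (C.ι.base : C.curve.left → X.left) = Set.range ((Γ i).ι.base : (Γ i).curve.left → X.left))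
    (hneg : ∀ c : Fin r → ℤ, c ≠ 0 →
      (Finset.univ : Finset (Fin r × Fin r)).sum (fun p => c p.1 * c p.2 * ArSurf.inter R X (L p.2) (Γ p.1)) < 0)
    (Y : Over (Spec (CommRingCat.of R))) (f : X ⟶ Y)
    [IsIntegral Y.left] (hYnor : ∀ q : Y.left, IsIntegrallyClosed (Y.left.presheaf.stalk q))
    (hYdim : topologicalKrullDim Y.left = 2) [Flat Y.hom] (hYpr : Neron.IsProjectiveOver R Y)
    (hfpt : ∀ i, ∃ y : Y.left, Set.range (((Γ i).ι ≫ f.left).base : (Γ i).curve.left → Y.left) = {y})
    (hfpre : f.left.base ⁻¹' (f.left.base '' ⋃ i, Set.range (Γ i).ι.base) = ⋃ i, Set.range (Γ i).ι.base)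
    (hfiso : ∀ V : Y.left.Opens, (V : Set Y.left) ∩ f.left.base '' (⋃ i, Set.range (Γ i).ι.base) = ∅ →
      IsIso (f.left ∣_ V))
    (ωY : Y.left.Modules) (hωY : Canon.IsCanonical Y.hom ωY) :
    CohB1.IsAmple ωY := by
  classical
  obtain ⟨hreg, hint, hdim, hflat, -⟩ := id hX
  haveI := hint; haveI := hflat
  haveI : IsProper X.hom := H26.isProper_of_isArithSurface hX
  obtain ⟨m, iY, hiY, hcY⟩ := id hYpr
  haveI := hiY
  haveI := H23.MultiP1.isProper_toBase (X := Spec (CommRingCat.of R)) m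
  haveI : IsProper Y.hom := hcY ▸ inferInstance
  haveI : IsLocallyNoetherian Y.left := LocallyOfFiniteType.isLocallyNoetherian Y.hom
  haveI : IsProper (f.left ≫ Y.hom) := by rw [Over.w f]; infer_instance
  haveI : IsProper f.left := IsProper.of_comp f.left Y.hom
  obtain ⟨hcl, -⟩ := canonical_pullback_eq hX Γ hΓ L hL hneg ωX hωX hK f hYnor hYpr hfpt hfpre hfiso ωY hωY
  have hωYi : PicF.IsInvertible ωY := Adjunction.isInvertible_of_isCanonical hωY
  refine isAmple_of_inter_pos Y hYdim hωYi fun Δ hΔ => ?_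
  haveI := Δ.isIntegral
  haveI := Δ.isClosedImmersion
  choose q hq using hfpt
  have himg : f.left.base '' (⋃ i, Set.range (Γ i).ι.base) = ⋃ i, ({q i} : Set Y.left) := by
    rw [Set.image_iUnion]
    refine Set.iUnion_congr fun i => ?_
    rw [← hq i, ← Set.range_comp]
    rfl
  let ξ := Models.genPtOf R Y Δ
  have hξB : ξ ∉ f.left.base '' (⋃ i, Set.range (Γ i).ι.base) := by
    rw [himg, Set.mem_iUnion]
    rintro ⟨i, hi⟩
    have hcl : IsClosed ({q i} : Set Y.left) := by
      rw [← hq i]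
      exact ((Γ i).ι ≫ f.left).isClosedMap.isClosed_range
    obtain ⟨a, a', hne⟩ : ∃ a a' : Δ.curve.left, a ≠ a' := by
      by_contra h
      push Not at h
      haveI : Subsingleton Δ.curve.left := ⟨h⟩
      have h0 : topologicalKrullDim Δ.curve.left ≤ 0 := topologicalKrullDim_zero_of_discreteTopology Δ.curve.left
      rw [Δ.dim_eq] at h0
      exact absurd h0 (by decide)
    have hall' : ∀ c, Δ.ι c = q i := fun c =>
      ((genericPoint_specializes c).map Δ.ι.continuous).mem_closed hcl (show ξ ∈ ({q i} : Set Y.left) from hi)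
    exact hne (Δ.ι.isClosedEmbedding.injective ((hall' a).trans (hall' a').symm))
  let V : Y.left.Opens := ⟨(f.left.base '' (⋃ i, Set.range (Γ i).ι.base))ᶜ, (f.left.isClosedMap _
    (isClosed_iUnion_of_finite fun k => (Γ k).ι.isClosedEmbedding.isClosed_range)).isOpen_compl⟩
  haveI := hfiso V (Set.compl_inter_self _)
  haveI : Surjective (f.left ∣_ V) := inferInstance
  obtain ⟨x', hx'⟩ := (f.left ∣_ V).surjective ⟨ξ, hξB⟩
  let x : X.left := (f.left ⁻¹ᵁ V).ι x'
  have hfx : f.left x = ξ := by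
    show f.left ((f.left ⁻¹ᵁ V).ι x') = ξ
    rw [← Scheme.Hom.comp_apply, ← morphismRestrict_ι, Scheme.Hom.comp_apply, hx']
    rfl
  have hxs : x ∈ Models.specialFibreSet R X := by
    show X.hom x = _
    rw [← Over.w f, Scheme.Hom.comp_apply, hfx]
    exact apply_vert Δ (genericPoint _)
  obtain ⟨S, hS, hxS⟩ := exists_component_mem hxs
  obtain ⟨n, Γc, hΓc⟩ := CompList.exists_componentList hdim
  obtain ⟨j, hj⟩ := hΓc.2.symm ▸ hS
  let C := Γc j
  haveI := C.isIntegral
  haveI := C.isClosedImmersion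
  obtain ⟨c, hc⟩ : x ∈ Set.range C.ι.base := by rw [show Set.range C.ι.base = S from hj]; exact hxS
  let η := Models.genPtOf R X C
  have hηx : η ⤳ x := hc ▸ (genericPoint_specializes c).map C.ι.continuous
  have hxV : x ∈ f.left ⁻¹ᵁ V := x'.2
  have hηV : η ∈ f.left ⁻¹ᵁ V := hηx.mem_open (f.left ⁻¹ᵁ V).2 hxV
  have hηξ : f.left η = ξ := by
    have h1 : f.left η ⤳ ξ := hfx ▸ hηx.map f.left.continuous
    have h2 : closure {f.left η} ⊆ Set.range Δ.ι.base := by
      refine hΔ.2 ⟨isIrreducible_singleton.closure,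
        closure_minimal (Set.singleton_subset_iff.2 ?_) (Models.isClosed_specialFibreSet R Y)⟩ ?_
      · show Y.hom (f.left η) = _
        rw [← Scheme.Hom.comp_apply, Over.w f]
        exact apply_vert C (genericPoint _)
      · rw [InterSymm.range_eq_closure Δ]
        exact h1.closure_subset
    rw [InterSymm.range_eq_closure Δ] at h2
    exact (h1.antisymm (specializes_iff_mem_closure.2 (h2 (subset_closure rfl)))).eq
  rw [← inter_pullback_birat f C Δ V hηV hηξ hωYi,
    ArInter.inter_congr C (PicClLib.isInvertible_pullback f.left hωYi)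
      (show PicF.cl ((Scheme.Modules.pullback f.left).obj ωY) = PicF.cl ωX from hcl)]
  refine lt_of_le_of_ne ((S13321.result R X hX hg ωX hωX).1 hmin C) fun h0 => ?_
  obtain ⟨i, hi⟩ := hall C h0.symm
  exact hηV ⟨η, Set.mem_iUnion.2 ⟨i, hi ▸ ⟨genericPoint _, rfl⟩⟩, rfl⟩

end Groth.Agent.H26.DedMin
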