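import Groth.Agent.H26.DedMin.BCSurf
import Groth.Agent.H26.DedMin.Closure
import Groth.Agent.H26.DedMin.Proj
import Groth.Agent.PointBlow.RegStep
import Groth.Agent.SeesawX.PnFibre
import Groth.Agent.S7929
import Groth.Agent.S7922
import Groth.Agent.S7885
import Groth.Agent.S7935
import Groth.Agent.H26.Adjunction.PicTriv
import Groth.Agent.H26.ArtinTriv.Henselian

/-!
# The canonical sheaf of a point blow-up
-/

noncomputable section

set_option autoImplicit false
set_option linter.style.haveILetI false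
set_option linter.unusedSectionVars false
set_option backward.isDefEq.respectTransparency false
set_option backward.isDefEq.respectTransparency.types false
set_option maxHeartbeats 1600000

universe u

open CategoryTheory CategoryTheory.Limits AlgebraicGeometry TopologicalSpace IsLocalRing

namespace Groth.Agent.H26.DedMin

open Groth.Agent Groth.Agent.H23 Groth.Agent.H28

variable {R : Type u} [CommRing R] [IsDomain R] [IsDiscreteValuationRing R]
  {Y : Over (Spec (CommRingCat.of R))} (hY : ArSurf.IsArithSurface R Y)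
  (y : Y.left) (hy : IsClosed ({y} : Set Y.left)) (hys : Y.hom.base y = IsLocalRing.closedPoint R)
  {X : Scheme.{u}} (f : X ⟶ Y.left)
  (hf : BlowUp.IsBlowUp f (Scheme.IdealSheafData.vanishingIdeal ⟨{y}, hy⟩))
  (E : ArSurf.VertComp R (Over.mk (f ≫ Y.hom)))
  (hE : Set.range (E.ι.base : E.curve.left → X) = f.base ⁻¹' {y})

include hY hys hf hE in
theorem arith_blowUp (hd2 : ringKrullDim (Y.left.presheaf.stalk y) = 2) :
    ArSurf.IsArithSurface R (Over.mk (f ≫ Y.hom)) := by
  obtain ⟨hreg, hint, hdim, hflat, hproj⟩ := id hY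
  haveI := hint; haveI := hflat
  haveI : IsProper Y.hom := H26.isProper_of_isArithSurface hY
  haveI : IsLocallyNoetherian Y.left := LocallyOfFiniteType.isLocallyNoetherian Y.hom
  haveI : IsProper f := PointBlow.isProper_point hy hf
  haveI := hreg y
  obtain ⟨hXi, hgen, -⟩ := (Lib.BlowUpInt.isEmpty_or_birational hf).resolve_left fun h =>
    h.false (E.ι (Classical.choice (by haveI := E.isIntegral; infer_instance : Nonempty E.curve.left)))
  haveI := hXi
  let p := f ≫ Y.hom
  haveI : IsLocallyNoetherian X := LocallyOfFiniteType.isLocallyNoetherian p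
  have hregX : ∀ z : X, IsRegularLocalRing (X.presheaf.stalk z) := fun z =>
    PointBlow.regular_of_regular hy hf hd2 z (hreg (f z))
  have hpgen : p (genericPoint X) = genericPoint (Spec (CommRingCat.of R)) := by
    rw [Scheme.Hom.comp_apply, show f (genericPoint X) = genericPoint Y.left from hgen]
    exact apply_generic_base Y
  haveI : Flat p := flat_of_dominant p hpgen
  let XO : Over (Spec (CommRingCat.of R)) := Over.mk p
  haveI : IsIntegral XO.left := hXi
  haveI : IsProper XO.hom := inferInstanceAs (IsProper p)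
  haveI : Flat XO.hom := ‹Flat p›
  haveI : IsLocallyNoetherian XO.left := inferInstanceAs (IsLocallyNoetherian X)
  let V : Y.left.Opens := ⟨{y}ᶜ, hy.isOpen_compl⟩
  let fO : XO ⟶ Y := Over.homMk f rfl
  haveI : IsIso (fO.left ∣_ V) := PointBlow.isIso_off hy hf
  haveI := isIso_genericFibre_map fO V fun z hz (h : z = y) => by
    rw [h, hys] at hz
    rw [genericPoint_eq_bot_of_affine (CommRingCat.of R)] at hz
    exact IsDiscreteValuationRing.not_a_field R (congrArg PrimeSpectrum.asIdeal hz)
  haveI := genericFibre_integral XO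
  obtain ⟨-, hCd⟩ := ArtinTriv.isIntegral_and_dim (X := Y) hdim
  have hdC : topologicalKrullDim (pullback p (Neron.genPt R) : Scheme.{u}) = 1 := by
    rw [← hCd]
    exact IsHomeomorph.topologicalKrullDim_eq _
      (((Over.forget _).mapIso (asIso ((Neron.genericFibre R).map fO))).hom.homeomorph.isHomeomorph)
  haveI : IsProper (pullback.snd p (Neron.genPt R)) := inferInstance
  haveI : IsPreimmersion (Neron.genPt R) := IsPreimmersion.of_isLocalization (nonZeroDivisors R)
  haveI : IsIntegral (pullback p (Neron.genPt R) : Scheme.{u}) := genericFibre_integral XO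
  have hd : topologicalKrullDim X ≤ 2 := by
    refine dim_le_two (Neron.genPt R) genPt_apply (pullback.snd p (Neron.genPt R)) p (pullback.fst p (Neron.genPt R))
      (IsPullback.of_hasPullback _ _) ?_ FibDimOne.topologicalKrullDim_spec.le hdC
    obtain ⟨c, hc⟩ : genericPoint X ∈ Set.range (pullback.fst p (Neron.genPt R)) := by
      rw [Scheme.Pullback.range_fst, Set.mem_preimage, hpgen]
      exact (SmoothMinimal.range_genPt (R := R)).ge rfl
    have h := (genericPoint_specializes c).map (pullback.fst p (Neron.genPt R)).continuous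
    rw [hc] at h
    exact (h.antisymm (genericPoint_specializes _)).eq
  exact isArithSurface_of_proper XO hregX (MinDesing.dim_eq_two p
    (fun z => (SchTop.ringKrullDim_stalk_le z).trans hd) E)

include hY hys hf hE in
theorem canonical_blowUp (L : X.Modules) (hL : ClSub.IsInverseOf L (ClSub.idealMod E.ι.ker))
    (ωY : Y.left.Modules) (hωY : Canon.IsCanonical Y.hom ωY)
    (ωX : X.Modules) (hωX : Canon.IsCanonical (f ≫ Y.hom) ωX) :
    Nonempty (ωX ≅ CohB1.tensorMod ((Scheme.Modules.pullback f).obj ωY) L) := by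
  obtain ⟨hreg, hint, hdim, hflat, n, iY, hiY, hcY⟩ := id hY
  haveI := hint; haveI := hflat; haveI := hiY
  haveI : IsProper Y.hom := H26.isProper_of_isArithSurface hY
  haveI : IsLocallyNoetherian Y.left := LocallyOfFiniteType.isLocallyNoetherian Y.hom
  haveI : CompactSpace Y.left := QuasiCompact.compactSpace_of_compactSpace Y.hom
  haveI : IsNoetherian Y.left := {}
  haveI : IsProper f := PointBlow.isProper_point hy hf
  haveI := E.isIntegral
  -- the point has dimension two
  have hd2 : ringKrullDim (Y.left.presheaf.stalk y) = 2 := by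
    refine SurfSeq.eq_two ((SchTop.ringKrullDim_stalk_le y).trans hdim.le) fun h1 => ?_
    obtain ⟨a, a', hne⟩ : ∃ a a' : E.curve.left, a ≠ a' := by
      by_contra h
      push Not at h
      haveI : Subsingleton E.curve.left := ⟨h⟩
      have h0 : topologicalKrullDim E.curve.left ≤ 0 := topologicalKrullDim_zero_of_discreteTopology E.curve.left
      rw [E.dim_eq] at h0
      exact absurd h0 (by decide)
    obtain ⟨hi, -, hb⟩ := (Lib.BlowUpInt.isEmpty_or_birational hf).resolve_left fun h => h.false (E.ι a)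
    haveI := hi
    have hfa : ∀ w, f (E.ι w) = y := fun w => (show E.ι w ∈ f.base ⁻¹' {y} from hE ▸ ⟨w, rfl⟩)
    refine hne (E.ι.isClosedEmbedding.injective
      (SurfSeq.eq_of_isIso f hb ((hfa a).trans (hfa a').symm) ?_).symm)
    refine RatUp.isIso_of_dim_le_one_normal f hb _ (FrobTwist.isNormalScheme_of_regular hreg _).2 ?_
    rw [hfa a]
    exact h1
  have hX : ArSurf.IsArithSurface R (Over.mk (f ≫ Y.hom)) := arith_blowUp hY y hy hys f hf E hE hd2
  obtain ⟨hregX, hXi, hdimX, hflatX, N, iX, hiX, hcX⟩ := id hX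
  haveI : IsIntegral X := hXi
  haveI : IsProper (Over.mk (f ≫ Y.hom)).hom := inferInstanceAs (IsProper (f ≫ Y.hom))
  haveI : IsLocallyNoetherian X := LocallyOfFiniteType.isLocallyNoetherian (f ≫ Y.hom)
  -- the canonical sheaf of the blow-up map
  let j := Y.hom
  have hP := SeesawX.PnFibre.isPullback_ψ (n := N) j
  let jj : X ⟶ CohB1.ProjSpaceOver N Y.left := hP.lift iX f hcX
  have hjf : jj ≫ CohB1.ProjSpaceOver.toBase N Y.left = f := hP.lift_snd _ _ _
  haveI : Smooth (CohB1.ProjSpaceOver.toBase N Y.left) := SmoothOfRelativeDimension.smooth N _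
  haveI : IsLocallyNoetherian (CohB1.ProjSpaceOver N Y.left) :=
    LocallyOfFiniteType.isLocallyNoetherian (CohB1.ProjSpaceOver.toBase N Y.left)
  haveI : IsClosedImmersion jj := by
    haveI : IsClosedImmersion iX := hiX
    haveI : IsClosedImmersion (jj ≫ H28.PnBC.ψ (n := N) j) := by rw [hP.lift_fst]; infer_instance
    haveI : IsSeparated (H28.PnBC.ψ (n := N) j) :=
      MorphismProperty.of_isPullback (P := @IsSeparated) hP.flip (inferInstanceAs (IsSeparated Y.hom))
    exact IsClosedImmersion.of_comp jj (H28.PnBC.ψ (n := N) j)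
  have hregP : ∀ z, IsRegularLocalRing ↑((CohB1.ProjSpaceOver N Y.left).presheaf.stalk z) := fun z => by
    exact (S4991.result (CohB1.ProjSpaceOver.toBase N Y.left) z ⟨⊤, trivial, inferInstance⟩).2 (hreg _)
  obtain ⟨ω₁, hω₁i, hω₁⟩ := Adjunction.exists_isCanonical f jj (CohB1.ProjSpaceOver.toBase N Y.left) N
    (Adjunction.regClosed_of_lci jj _ hregP (by rw [hjf]; exact Adjunction.isLCI'_of_regular f hregX hreg)) hjf
  obtain ⟨e₁⟩ := S13306.result X Y.left _ f Y.hom ⟨N, jj, inferInstance, hjf⟩ ⟨n, iY, inferInstance, hcY⟩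
    ω₁ ωY ωX hω₁ hωY hωX
  -- it is trivial off the exceptional curve
  let V : Y.left.Opens := ⟨{y}ᶜ, hy.isOpen_compl⟩
  let U := f ⁻¹ᵁ V
  haveI hiso : IsIso (f ∣_ V) := PointBlow.isIso_off hy hf
  haveI : IsIso (pullback.snd f V.ι) := by
    rw [← (isPullback_morphismRestrict f V).flip.isoPullback_inv_snd]
    infer_instance
  obtain ⟨eU⟩ := S13307.result X Y.left (V : Scheme.{u}) f V.ι ⟨N, jj, inferInstance, hjf⟩ (Or.inr inferInstance)
    ω₁ hω₁ _ (isCanonical_of_isIso (pullback.snd f V.ι))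
  letI := PicMul.clMonoid X
  letI := PicMul.clMonoid Y.left
  letI := PicMul.clMonoid (U : Scheme.{u})
  letI := PicMul.clMonoid (V : Scheme.{u})
  letI := PicMul.clMonoid (pullback f V.ι : Scheme.{u})
  have hUω : PicMul.pullHom U.ι (PicF.cl ω₁) = 1 := by
    let l := (isPullback_morphismRestrict f V).flip.isoPullback.hom
    have hl : l ≫ pullback.fst f V.ι = U.ι := (isPullback_morphismRestrict f V).flip.isoPullback_hom_fst
    have h2 : PicMul.pullHom (pullback.fst f V.ι) (PicF.cl ω₁) = 1 := by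
      rw [PicMul.one_def]
      exact (PicMul.cl_eq_iff.2 ⟨eU⟩).symm
    have h3 : PicMul.pullHom U.ι (PicF.cl ω₁) = PicMul.pullHom l (PicMul.pullHom (pullback.fst f V.ι) (PicF.cl ω₁)) :=
      PicMul.cl_eq_iff.2 ⟨(Scheme.Modules.pullbackCongr hl.symm).app ω₁ ≪≫
        ((Scheme.Modules.pullbackComp l (pullback.fst f V.ι)).app ω₁).symm⟩
    rw [h3, h2, map_one]
  -- invariants of the exceptional curve
  have hEk := Adjunction.heff_vert hX E
  obtain ⟨hexc, -, -, hLE⟩ := S7922.result R Y hY y hy hys f hf E hE L hL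
  have hh1 := (ExcCrit.invariants_of_exc E hEk hL hexc).1
  have hadj := Adjunction.inter_add_inter hX E L hL ωX hωX
  rw [EulerFibre.wdeg_sub_h1, hh1, hLE, Nat.cast_zero, sub_zero] at hadj
  have hIi : PicF.IsInvertible (ClSub.idealMod E.ι.ker) := IdealCl.isInvertible_idealMod hEk
  have hLi : PicF.IsInvertible L := ArInter.isInvertible_of_inverse hIi hL
  have hωYi : PicF.IsInvertible ωY := Adjunction.isInvertible_of_isCanonical hωY
  have hYint0 : ArSurf.inter R (Over.mk (f ≫ Y.hom)) ((Scheme.Modules.pullback f).obj ωY) E = 0 := by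
    refine S7935.result R (Over.mk (f ≫ Y.hom)) Y hX hY (Over.homMk f rfl) ?_ E y ?_ ωY hωYi
    · have hB := (Lib.BlowUpInt.isEmpty_or_birational hf).resolve_left fun h => h.false (genericPoint X)
      obtain ⟨_, hg, _⟩ := hB
      exact Dense.mono (Set.singleton_subset_iff.2 ⟨genericPoint X, hg⟩)
        (dense_iff_closure_eq.2 (genericPoint_spec Y.left).def)
    · refine Set.eq_singleton_iff_nonempty_unique_mem.2 ⟨Set.range_nonempty _, ?_⟩
      rintro _ ⟨a, rfl⟩
      exact hE.le ⟨a, rfl⟩
  let F := CohB1.tensorMod ω₁ (ClSub.idealMod E.ι.ker)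
  have hFi : PicF.IsInvertible F := PicMul.isInvertible_tensor hω₁i hIi
  have hF0 : ArSurf.inter R (Over.mk (f ≫ Y.hom)) F E = 0 := by
    have a1 : ArSurf.inter R (Over.mk (f ≫ Y.hom)) ωX E =
        ArSurf.inter R (Over.mk (f ≫ Y.hom)) ω₁ E +
          ArSurf.inter R (Over.mk (f ≫ Y.hom)) ((Scheme.Modules.pullback f).obj ωY) E := by
      rw [← ArInter.inter_tensor E hω₁i (PicClLib.isInvertible_pullback f hωYi)]
      exact Pic13Lib.NumTriv.curveDeg_congr _ _ ((Scheme.Modules.pullback E.ι).mapIso e₁)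
    have a2 : ArSurf.inter R (Over.mk (f ≫ Y.hom)) L E +
        ArSurf.inter R (Over.mk (f ≫ Y.hom)) (ClSub.idealMod E.ι.ker) E = 0 := by
      rw [← ArInter.inter_tensor E hLi hIi, ← ArInter.inter_structure (X := Over.mk (f ≫ Y.hom)) E]
      exact Pic13Lib.NumTriv.curveDeg_congr _ _ ((Scheme.Modules.pullback E.ι).mapIso hL.some)
    rw [ArInter.inter_tensor E hω₁i hIi]
    rw [hYint0, add_zero] at a1
    rw [hLE] at a2
    linarith
  have hχ : FGA.eulerCharLE (IsLocalRing.ResidueField R) E.curve.left (Coh.structureModule E.curve.left) 1 > 0 := by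
    rw [EulerFibre.wdeg_sub_h1, hh1, Nat.cast_zero, sub_zero]
    exact_mod_cast WDeg.wdeg_pos E
  obtain ⟨eE⟩ := Adjunction.trivial_of_deg_zero E (PicClLib.isInvertible_pullback E.ι hFi) hχ hF0
  obtain ⟨M, hMi, ⟨eM⟩⟩ := (S7929.result R Y hY y hy hys f hf E hE).2 F hFi ⟨eE⟩
  -- the descended module is trivial
  have hUI : PicMul.pullHom U.ι (PicF.cl (ClSub.idealMod E.ι.ker)) = 1 :=
    ArtinTriv.pullHom_idealMod_eq_one U.ι hEk fun c hc => by
      have hc' : U.ι c ∈ Set.range E.ι.base := by
        rw [Scheme.Hom.support_ker] at hc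
        exact closure_minimal subset_rfl E.ι.isClosedEmbedding.isClosed_range hc
      exact c.2 (hE.le hc')
  have hMV : PicMul.pullHom V.ι (PicF.cl M) = 1 := by
    have h1 : PicMul.pullHom U.ι (PicMul.pullHom f (PicF.cl M)) = 1 := by
      rw [show PicMul.pullHom f (PicF.cl M) = PicF.cl F from PicMul.cl_eq_iff.2 ⟨eM⟩, PicMul.cl_tensor, map_mul,
        hUω, hUI, one_mul]
    have h2 : PicMul.pullHom (f ∣_ V) (PicMul.pullHom V.ι (PicF.cl M)) = 1 := by
      refine Eq.trans ?_ h1
      exact PicMul.cl_eq_iff.2 ⟨(Scheme.Modules.pullbackComp (f ∣_ V) V.ι).app M ≪≫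
        (Scheme.Modules.pullbackCongr (morphismRestrict_ι f V)).app M ≪≫
        ((Scheme.Modules.pullbackComp U.ι f).app M).symm⟩
    have h3 := congrArg (PicMul.pullHom (inv (f ∣_ V))) h2
    rw [map_one] at h3
    refine Eq.trans ?_ h3
    exact PicMul.cl_eq_iff.2 ⟨((Scheme.Modules.pullbackId _).app _).symm ≪≫
      (Scheme.Modules.pullbackCongr (IsIso.inv_hom_id (f ∣_ V)).symm).app _ ≪≫
      ((Scheme.Modules.pullbackComp (inv (f ∣_ V)) (f ∣_ V)).app _).symm⟩
  obtain ⟨eMO⟩ := (S7885.result Y.left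
    (fun z => ⟨RegLoc6.isDomain_of_isRegularLocalRing _, RegLoc6.isIntegrallyClosed_of_isRegularLocalRing _⟩) V
    (fun z hz => by rw [not_not.1 (show ¬ z ≠ y from hz), hd2]) M hMi).2 (by
      rw [PicMul.one_def] at hMV
      exact ⟨(Scheme.Modules.restrictFunctorIsoPullback V.ι).app M ≪≫ (PicMul.cl_eq_iff.1 hMV).some⟩)
  have hF1 : PicF.cl F = 1 := by
    obtain ⟨o⟩ := PicClLib.nonempty_pullback_structureModule f
    rw [PicMul.one_def]
    exact PicMul.cl_eq_iff.2 ⟨eM.symm ≪≫ (Scheme.Modules.pullback f).mapIso eMO ≪≫ o⟩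
  refine PicMul.cl_eq_iff.1 ?_
  rw [PicMul.cl_tensor] at hF1
  have hLI := PicMul.cl_eq_iff.2 hL
  rw [PicMul.cl_tensor, ← PicMul.one_def] at hLI
  have h4 : PicF.cl ω₁ = PicF.cl L := by
    rw [← mul_one (PicF.cl ω₁), ← hLI, mul_comm (PicF.cl L), ← mul_assoc, hF1, one_mul]
  rw [PicMul.cl_eq_iff.2 ⟨e₁⟩, PicMul.cl_tensor, PicMul.cl_tensor, h4, mul_comm]

end Groth.Agent.H26.DedMin
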