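import Groth.Agent.H26.DedMin.CompCount
import Groth.Agent.H26.VertApply
import Groth.Agent.H26.ArSurfProper
import Groth.Agent.H26.SectionFibre
import Groth.Agent.GeomField.GlobalFunctions
import Groth.Agent.Lib.CurveDeg
import Groth.Agent.S16754
import Groth.Agent.S13321
import Groth.Agent.S13316

/-!
# Triviality of the canonical sheaf in genus one
-/

noncomputable section

set_option autoImplicit false
set_option linter.style.haveILetI false
set_option linter.unusedSectionVars false
set_option backward.isDefEq.respectTransparency false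
set_option backward.isDefEq.respectTransparency.types false
set_option maxHeartbeats 1600000

universe u

open CategoryTheory CategoryTheory.Limits AlgebraicGeometry TopologicalSpace IsLocalRing
open scoped Groth.Agent.H23.PicMul

namespace Groth.Agent.H26.DedMin

open Groth.Agent Groth.Agent.H23 Groth.Agent.H28

variable {R : Type u} [CommRing R] [IsDomain R] [IsDiscreteValuationRing R]

/-- A component through a section has multiplicity one. -/
theorem exists_mult_one (X : Over (Spec (CommRingCat.of R))) {n : ℕ} (Γ : Fin n → ArSurf.VertComp R X)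
    (hΓ : Models.IsComponentList R X Γ) (hreg : ∀ x : X.left, IsRegularLocalRing (X.left.presheaf.stalk x))
    (σ : Spec (CommRingCat.of R) ⟶ X.left) (hσ : σ ≫ X.hom = 𝟙 _) :
    ∃ i, Models.mult R X (Γ i) = 1 := by
  set x : X.left := σ (IsLocalRing.closedPoint R) with hx
  have hreg' := SectionFibre.isRegularLocalRing_quot X σ hσ (hreg _)
  haveI := hreg'
  haveI := RegLoc6.isDomain_of_isRegularLocalRing (X.left.presheaf.stalk x ⧸
    Ideal.map (Models.stalkHom R X x) (IsLocalRing.maximalIdeal R))
  obtain ⟨z, hzx, hzC, huniq, hmz⟩ := SectionFibre.exists_generic (x := x)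
    X ((Ideal.Quotient.isDomain_iff_prime _).1 inferInstance)
  rw [← hΓ.2] at hzC
  obtain ⟨i, hi⟩ := hzC
  replace hi : Set.range (Γ i).ι.base = closure {z} := hi
  have hgen : Models.genPtOf R X (Γ i) = z :=
    (show IsGenericPoint (Models.genPtOf R X (Γ i)) (closure {z}) by
      rw [← hi, InterSymm.range_eq_closure (Γ i)]
      rfl).eq rfl
  refine ⟨i, ?_⟩
  unfold Models.mult
  rw [hgen, hmz]
  haveI : IsSimpleModule (X.left.presheaf.stalk z)
      (X.left.presheaf.stalk z ⧸ IsLocalRing.maximalIdeal (X.left.presheaf.stalk z)) :=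
    (isSimpleModule_iff_isCoatom).2 (IsLocalRing.maximalIdeal.isMaximal _).out
  rw [Module.length_eq_one]
  rfl

theorem canonical_trivial (X : Over (Spec (CommRingCat.of R))) (hX : ArSurf.IsArithSurface R X)
    (hmin : Neron.IsRelMinimalRegularModel R X)
    [Smooth ((Neron.genericFibre R).obj X).hom] [GeometricallyIrreducible ((Neron.genericFibre R).obj X).hom]
    (hg : FGA.eulerCharLE (FractionRing R) ((Neron.genericFibre R).obj X).left (Coh.structureModule ((Neron.genericFibre R).obj X).left) 1 = 0)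
    (σ : Spec (CommRingCat.of R) ⟶ X.left) (hσ : σ ≫ X.hom = 𝟙 _)
    (ω : X.left.Modules) (hω : Canon.IsCanonical X.hom ω) :
    Nonempty (ω ≅ Coh.structureModule X.left) := by
  classical
  obtain ⟨hreg, hint, hdim, hflat, hproj⟩ := id hX
  haveI := hint; haveI := hflat
  haveI : IsProper X.hom := H26.isProper_of_isArithSurface hX
  haveI : IsLocallyNoetherian X.left := LocallyOfFiniteType.isLocallyNoetherian X.hom
  let K := FractionRing R
  let C := pullback X.hom (Neron.genPt R)
  let f := pullback.snd X.hom (Neron.genPt R)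
  obtain ⟨hCi, hCd⟩ := ArtinTriv.isIntegral_and_dim (X := X) hdim
  haveI := hCi
  letI : C.Over (Spec (CommRingCat.of K)) := ⟨f⟩
  haveI : IsProper (C ↘ Spec (CommRingCat.of K)) := inferInstanceAs (IsProper f)
  haveI : Smooth (C ↘ Spec (CommRingCat.of K)) := ‹Smooth ((Neron.genericFibre R).obj X).hom›
  haveI : GeometricallyIrreducible (C ↘ Spec (CommRingCat.of K)) :=
    ‹GeometricallyIrreducible ((Neron.genericFibre R).obj X).hom›
  haveI := CurveCohLib.isNoetherian_of_proper (k := K) (X := C)
  haveI : GeometricallyConnected (C ↘ Spec (CommRingCat.of K)) := ⟨fun L _ y Z a b hp =>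
    haveI : IrreducibleSpace Z := ‹GeometricallyIrreducible (C ↘ Spec (CommRingCat.of K))›.geometrically_irreducibleSpace y a b hp
    inferInstance⟩
  have h0 : Module.finrank K (Coh.HH C (Coh.structureModule C) 0) = 1 :=
    (S16754.result K C hCd).1.2 inferInstance
  have hH0 : IsIso f.appTop := by
    letI := GeomField.globalAlgebra K C
    haveI : Nonempty (⊤ : C.Opens) := ⟨⟨genericPoint C, trivial⟩⟩
    have h1 : Module.finrank K Γ(C, ⊤) = 1 := (GeomField.finrank_HH_zero K C).symm.trans h0
    haveI : Module.Finite K Γ(C, ⊤) := Module.finite_of_finrank_eq_succ h1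
    have hb : Function.Bijective (Algebra.linearMap K Γ(C, ⊤)) :=
      ⟨(algebraMap K Γ(C, ⊤)).injective, (LinearMap.injective_iff_surjective_of_finrank_eq_finrank
        ((Module.finrank_self K).trans h1.symm)).1 (algebraMap K Γ(C, ⊤)).injective⟩
    rw [ConcreteCategory.isIso_iff_bijective]
    have hcomp : (f.appTop : Γ(Spec (CommRingCat.of K), ⊤) → Γ(C, ⊤)) =
        (algebraMap K Γ(C, ⊤)) ∘ (Scheme.ΓSpecIso (CommRingCat.of K)).hom := funext fun a => by
      show f.appTop a = f.appTop ((Scheme.ΓSpecIso (CommRingCat.of K)).inv ((Scheme.ΓSpecIso (CommRingCat.of K)).hom a))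
      rw [Iso.hom_inv_id_apply]
    rw [hcomp]
    exact hb.comp (ConcreteCategory.bijective_of_isIso _)
  have sq : IsPullback (pullback.fst X.hom (Neron.genPt R)) f X.hom
      (Spec.map (CommRingCat.ofHom (algebraMap R (FractionRing R)))) := IsPullback.of_hasPullback _ _
  have hM : Models.IsRegularProperModel R X.left X.hom C f :=
    ⟨⟨hflat, inferInstance, inferInstance, _, sq⟩, inferInstance, hreg⟩
  have hCC : Curve.IsSmoothProperCurve (FractionRing R) C f :=
    ⟨inferInstance, ‹Smooth ((Neron.genericFibre R).obj X).hom›, hCi, hCd⟩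
  -- the restriction to the generic fibre
  obtain ⟨ω₀, t, hω₀i, hd₀, ⟨e⟩⟩ := exists_dual_generic X hdim hproj ω hω
  obtain ⟨hχω, hχ⟩ := euler_generic X hdim hproj ω hω
  have hO0 : Curv2.euler K C (Coh.structureModule C) = 0 := hχ.symm.trans hg
  have hω0 : Curv2.euler K C ω₀ = 0 := by
    rw [CurveCohLib.euler_congr (k := K) e]
    exact hχω.trans (by rw [← hχ, hg, neg_zero])
  haveI : Nontrivial (Coh.HH C (Coh.structureModule C) 1) := by
    refine Module.nontrivial_of_finrank_pos (R := K) ?_
    have h := CurveRR.euler_eq_h0_sub_h1 K hCd.le (M := Coh.structureModule C) QCoh.isQCoh_structureModule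
    rw [hO0, h0] at h
    change (0 : ℤ) = 1 - (Module.finrank K (Coh.HH C (Coh.structureModule C) 1) : ℤ) at h
    omega
  obtain ⟨x, hx⟩ := exists_ne (0 : Coh.HH C (Coh.structureModule C) 1)
  haveI : Module.Free K (Coh.HH C (Coh.structureModule C) 1) := Module.Free.of_divisionRing K _
  obtain ⟨ψ, hψ⟩ : ∃ ψ : Coh.HH C (Coh.structureModule C) 1 →ₗ[K] K, ψ ≠ 0 := by
    obtain ⟨ψ, hψ⟩ := Module.Projective.exists_dual_ne_zero K hx
    exact ⟨ψ, fun h => hψ (by rw [h]; rfl)⟩
  obtain ⟨φ, hφ⟩ := (hd₀.2 _ QCoh.isQCoh_structureModule).2 ψ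
  have hφ0 : φ ≠ 0 := fun h => hψ (by
    rw [← hφ, h]
    refine LinearMap.ext fun y => ?_
    show t (Sheaf.H.map ((SheafOfModules.toSheaf C.ringCatSheaf).map (0 : Coh.structureModule C ⟶ ω₀)) 1 y) = 0
    rw [Functor.map_zero]
    show t _ = 0
    rw [show Sheaf.H.map (0 : (SheafOfModules.toSheaf C.ringCatSheaf).obj (Coh.structureModule C) ⟶
      (SheafOfModules.toSheaf C.ringCatSheaf).obj ω₀) 1 y = 0 from by simp [Sheaf.H.map], map_zero])
  haveI := (CurveDeg.euler_le_and_isIso K hCd.le InvX.isInvertible_structureModule hω₀i φ hφ0).2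
    (hO0.trans hω0.symm)
  have htriv : Nonempty ((Scheme.Modules.pullback (pullback.fst X.hom (Neron.genPt R))).obj ω ≅ Coh.structureModule C) :=
    ⟨e.symm ≪≫ (asIso φ).symm⟩
  -- the vertical part
  obtain ⟨n, Γc, hΓc⟩ := CompList.exists_componentList hdim
  obtain ⟨L, hL⟩ := VertModel.exists_inverses (p := X.hom) hM (Γ := Γc) hΓc
  let D : VertClass.Data X Γc := ⟨L, hΓc, hflat, inferInstance, hreg, hL⟩
  have hconn : _root_.IsConnected (Models.specialFibreSet R X) := VertModel.isConnected hCC hH0 hM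
  have hωi : PicF.IsInvertible ω := Adjunction.isInvertible_of_isCanonical hω
  have hnef : ∀ i, 0 ≤ ArSurf.inter R X ω (Γc i) := fun i =>
    (S13321.result R X hX hg.le ω hω).1 hmin (Γc i)
  have hsum := S13316.result R X hX Γc hΓc ω hω
  rw [hg, mul_zero] at hsum
  have hdeg : ∀ i, ArSurf.inter R X ω (Γc i) = 0 := fun i => by
    have h := (Finset.sum_eq_zero_iff_of_nonneg fun j _ => mul_nonneg (Int.natCast_nonneg _) (hnef j)).1 hsum i
      (Finset.mem_univ i)
    exact (mul_eq_zero.1 h).resolve_left (Int.natCast_ne_zero.2 (InterForm.mult_pos hΓc hreg i).ne')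
  obtain ⟨T, -, hpow⟩ := VertClass.pow_gcd_eq_one D hconn sq hωi htriv hdeg
  obtain ⟨i, hi⟩ := exists_mult_one X Γc hΓc hreg σ hσ
  have hd : Models.multGcd R X Γc = 1 :=
    Nat.dvd_one.1 (hi ▸ (Finset.gcd_dvd (Finset.mem_univ i) : Models.multGcd R X Γc ∣ _))
  rw [hd, pow_one, PicMul.one_def] at hpow
  exact PicMul.cl_eq_iff.1 hpow

end Groth.Agent.H26.DedMin
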