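import Groth.Agent.H26.DedMin.Closure
import Groth.Agent.MinModel.Basic
import Groth.Agent.H23.P1Graph
import Groth.Agent.S11555
import Groth.Agent.SchTop.Closed
import Groth.Prelude.Def_ModelsG
import Groth.Prelude.Def_Curve

/-!
# Morphisms of models from centred valuations
-/

noncomputable section

set_option autoImplicit false
set_option linter.style.haveILetI false
set_option linter.unusedSectionVars false
set_option backward.isDefEq.respectTransparency false
set_option backward.isDefEq.respectTransparency.types false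
set_option maxHeartbeats 1000000

universe u

open CategoryTheory CategoryTheory.Limits AlgebraicGeometry TopologicalSpace IsLocalRing

namespace Groth.Agent.H26.DedMin

open Groth.Agent

/-- Local rings of an integral scheme embed in the stalk at the generic point. -/
theorem specializes_injective {Z : Scheme.{u}} [IsIntegral Z] {w z : Z} (hw : w = genericPoint Z) (h : w ⤳ z) :
    Function.Injective (Z.presheaf.stalkSpecializes h).hom := by
  subst hw
  exact IsFractionRing.injective (Z.presheaf.stalk z) Z.functionField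

/-- A finite morphism does not identify a point with a different specialisation. -/
theorem eq_of_specializes_finite {F W : Scheme.{u}} (m : F ⟶ W) [IsFinite m] {a b : F} (h : a ⤳ b)
    (he : m a = m b) : a = b := by
  have hd : _root_.IsDiscrete (m ⁻¹' {m b}) := m.isDiscrete_preimage_singleton (m b)
  haveI := hd.1
  have h' : (⟨a, he⟩ : (m ⁻¹' {m b} : Set F)) ⤳ ⟨b, rfl⟩ := (subtype_specializes_iff _ _).2 h
  exact congrArg Subtype.val (Specializes.eq h')

/-- A noetherian scheme all of whose points are closed is discrete. -/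
theorem exists_specializes_ne {F : Scheme.{u}} [NoetherianSpace F] (t : F) (ht : ¬ IsOpen ({t} : Set F)) :
    ∃ a b : F, a ⤳ b ∧ a ≠ b := by
  by_contra hcon
  simp only [not_exists, not_and, not_not] at hcon
  refine ht (SchTop.isOpen_singleton_of_dim_le_zero ?_ t)
  rw [topologicalKrullDim, Order.krullDim_eq_of_orderIso irreducibleSetEquivPoints]
  refine Order.krullDim_nonpos_iff_forall_isMin.2 fun a b hb => ?_
  exact (hcon a b (show a ⤳ b from hb)).le

variable {R : Type u} [CommRing R] [IsDomain R] [IsDiscreteValuationRing R]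

/-- The local ring at a component of the special fibre has dimension at most one. -/
theorem component_stalk_dim_le_one (X : Over (Spec (CommRingCat.of R))) [IsLocallyNoetherian X.left] {ξ : X.left}
    (h : closure ({ξ} : Set X.left) ∈ Models.fibreComponents R X) {ϖ : R} (hϖ : Irreducible ϖ) :
    ringKrullDim (X.left.presheaf.stalk ξ) ≤ 1 := by
  let O := X.left.presheaf.stalk ξ
  let γ : CommRingCat.of R ⟶ O := Spec.preimage (X.left.fromSpecStalk ξ ≫ X.hom)
  have hγ : Spec.map γ = X.left.fromSpecStalk ξ ≫ X.hom := Spec.map_preimage _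
  have hmax : γ.hom ϖ ∈ maximalIdeal O := by
    have h1 : (Spec.map γ) (closedPoint O) = closedPoint R := by
      rw [hγ, Scheme.Hom.comp_apply, Scheme.fromSpecStalk_closedPoint]
      exact h.1.2 (subset_closure rfl)
    exact (congrArg PrimeSpectrum.asIdeal h1).ge ((mem_maximalIdeal ϖ).2 hϖ.not_isUnit)
  have hmin : maximalIdeal O ∈ (Ideal.span {γ.hom ϖ}).minimalPrimes := by
    refine ⟨⟨inferInstance, (Ideal.span_singleton_le_iff_mem _).2 hmax⟩, fun q ⟨hq, hqle⟩ _ => ?_⟩
    let w := X.left.fromSpecStalk ξ (⟨q, hq⟩ : PrimeSpectrum O)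
    have hw : w ⤳ ξ := by
      have := (IsLocalRing.specializes_closedPoint (⟨q, hq⟩ : PrimeSpectrum O)).map (X.left.fromSpecStalk ξ).continuous
      rwa [Scheme.fromSpecStalk_closedPoint] at this
    have hws : X.hom w = closedPoint R := by
      rw [← Scheme.Hom.comp_apply, ← hγ]
      refine PrimeSpectrum.ext (((maximalIdeal.isMaximal R).eq_of_le
        (Spec.map γ (⟨q, hq⟩ : PrimeSpectrum O)).isPrime.ne_top ?_).symm)
      rw [hϖ.maximalIdeal_eq, Ideal.span_singleton_le_iff_mem]
      exact hqle (Ideal.mem_span_singleton_self _)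
    have hle := h.2 ⟨isIrreducible_singleton.closure, closure_minimal (Set.singleton_subset_iff.2 hws)
      (Models.isClosed_specialFibreSet R X)⟩ hw.closure_subset
    have heq : ξ = w := ((specializes_iff_mem_closure.2 (hle (subset_closure rfl))).antisymm hw).eq
    have : (⟨q, hq⟩ : PrimeSpectrum O) = closedPoint O :=
      (X.left.fromSpecStalk ξ).isEmbedding.injective (heq.symm.trans Scheme.fromSpecStalk_closedPoint.symm)
    exact (congrArg PrimeSpectrum.asIdeal this).ge
  rw [← maximalIdeal_height_eq_ringKrullDim]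
  exact WithBot.coe_le_coe.2 (Ideal.height_le_one_of_isPrincipal_of_mem_minimalPrimes (Ideal.span {γ.hom ϖ}) _ hmin)

theorem isIso_of_restrict_top {X Y : Scheme.{u}} (f : X ⟶ Y) {V : Y.Opens} [IsIso (f ∣_ V)] (hV : V = ⊤) :
    IsIso f := by
  subst hV
  haveI : IsIso (f ⁻¹ᵁ ⊤).ι := inferInstanceAs (IsIso (X.topIso.hom))
  haveI : IsIso (⊤ : Y.Opens).ι := inferInstanceAs (IsIso (Y.topIso.hom))
  rw [show f = inv (f ⁻¹ᵁ ⊤).ι ≫ (f ∣_ ⊤) ≫ (⊤ : Y.Opens).ι from by rw [morphismRestrict_ι, IsIso.inv_hom_id_assoc]]
  infer_instance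

theorem exists_morphism_of_centred {C : Scheme.{u}} [IsIntegral C] (fC : C ⟶ Spec (CommRingCat.of (FractionRing R)))
    [IsProper fC] (hdimC : topologicalKrullDim C = 1)
    (XR WR : Over (Spec (CommRingCat.of R))) [IsIntegral XR.left] [IsIntegral WR.left]
    (hXn : Pi1.IsNormalScheme XR.left) [IsProper XR.hom] [IsProper WR.hom]
    (iX : C ⟶ XR.left) (hiX : IsPullback iX fC XR.hom (MinModel.jη R))
    (iW : C ⟶ WR.left) (hiW : IsPullback iW fC WR.hom (MinModel.jη R))
    (H : ∀ (ξ : WR.left) (hξ : iW.base (genericPoint C) ⤳ ξ),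
      closure ({ξ} : Set WR.left) ∈ Models.fibreComponents R WR →
        ∃ (ξ' : XR.left) (hξ' : iX.base (genericPoint C) ⤳ ξ'),
          closure ({ξ'} : Set XR.left) ∈ Models.fibreComponents R XR ∧
          Set.range ((iX.stalkMap (genericPoint C)).hom.comp (XR.left.presheaf.stalkSpecializes hξ').hom) =
            Set.range ((iW.stalkMap (genericPoint C)).hom.comp (WR.left.presheaf.stalkSpecializes hξ).hom)) :
    ∃ φ : XR ⟶ WR, iX ≫ φ.left = iW := by
  classical
  haveI := MinModel.isOpenImmersion_jη R
  haveI : IsOpenImmersion iX := MorphismProperty.of_isPullback hiX.flip ‹IsOpenImmersion (MinModel.jη R)›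
  haveI : IsOpenImmersion iW := MorphismProperty.of_isPullback hiW.flip ‹IsOpenImmersion (MinModel.jη R)›
  let g := genericPoint C
  have hgX : iX g = genericPoint XR.left := genericPoint_eq_of_isOpenImmersion iX
  have hgW : iW g = genericPoint WR.left := genericPoint_eq_of_isOpenImmersion iW
  haveI : IsLocallyNoetherian XR.left := LocallyOfFiniteType.isLocallyNoetherian XR.hom
  haveI : CompactSpace C := QuasiCompact.compactSpace_of_compactSpace fC
  let P := pullback XR.hom WR.hom
  let δ : C ⟶ P := pullback.lift iX iW (hiX.w.trans hiW.w.symm)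
  haveI : IsLocallyNoetherian P := LocallyOfFiniteType.isLocallyNoetherian (pullback.fst XR.hom WR.hom ≫ XR.hom)
  haveI : QuasiSeparatedSpace P := inferInstance
  haveI : QuasiCompact δ := inferInstance
  obtain ⟨hZint, hZgen⟩ := H23.P1Graph.image_integral δ
  let Z := δ.image
  haveI : IsIntegral Z := hZint
  let ρ : Z ⟶ XR.left := δ.imageι ≫ pullback.fst XR.hom WR.hom
  let σ : Z ⟶ WR.left := δ.imageι ≫ pullback.snd XR.hom WR.hom
  let t := δ.toImage
  have htρ : t ≫ ρ = iX := by rw [Scheme.Hom.toImage_imageι_assoc, pullback.lift_fst]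
  have htσ : t ≫ σ = iW := by rw [Scheme.Hom.toImage_imageι_assoc, pullback.lift_snd]
  have hρσ : ρ ≫ XR.hom = σ ≫ WR.hom := by
    simp only [ρ, σ, Category.assoc, pullback.condition]
  haveI : IsProper ρ := inferInstance
  have htg : t g = genericPoint Z := by
    refine δ.imageι.isClosedEmbedding.injective ?_
    rw [← Scheme.Hom.comp_apply, Scheme.Hom.toImage_imageι]
    exact hZgen.symm
  have hfld : IsField (Z.presheaf.stalk (t g)) := by
    rw [htg]
    exact CurveBundle.isField_stalk_generic
  have hinjt : Function.Injective (t.stalkMap g).hom := by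
    letI := hfld.toField
    exact (t.stalkMap g).hom.injective
  have hρgen : ρ (genericPoint Z) = genericPoint XR.left := by
    rw [← htg, ← Scheme.Hom.comp_apply, htρ, hgX]
  have hbir : Function.Bijective (ρ.stalkMap (genericPoint Z)) := by
    rw [← htg]
    have h1 : Function.Bijective ((t ≫ ρ).stalkMap g) := by
      haveI : IsOpenImmersion (t ≫ ρ) := htρ ▸ inferInstance
      exact ConcreteCategory.bijective_of_isIso _
    rw [Scheme.Hom.stalkMap_comp] at h1
    have h2 : Function.Bijective ((t.stalkMap g) ∘ (ρ.stalkMap (t g))) := h1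
    exact ⟨h2.1.of_comp, fun b => by
      obtain ⟨a, ha⟩ := h2.2 (t.stalkMap g b)
      exact ⟨a, hinjt ha⟩⟩
  obtain ⟨V, hViso, hVfib, hVdim⟩ := S11555.result ρ hXn hρgen hbir
  -- dimensions
  let S := Spec (CommRingCat.of R)
  have hS : topologicalKrullDim S ≤ 1 := by
    haveI : Ring.KrullDimLE 1 R := inferInstance
    exact le_of_eq_of_le (PrimeSpectrum.topologicalKrullDim_eq_ringKrullDim R)
      (Ring.krullDimLE_iff.1 inferInstance)
  have hjgen : ∀ a, MinModel.jη R a = genericPoint S := fun a => (MinModel.range_jη R).le ⟨a, rfl⟩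
  have hdX : topologicalKrullDim XR.left ≤ 2 :=
    dim_le_two (MinModel.jη R) hjgen fC XR.hom iX hiX hgX hS hdimC
  have hdW : topologicalKrullDim WR.left ≤ 2 :=
    dim_le_two (MinModel.jη R) hjgen fC WR.hom iW hiW hgW hS hdimC
  have hchain : ∀ {Y : Scheme.{u}}, topologicalKrullDim Y ≤ 2 → ∀ {a b c d : Y}, a < b → b < c → c < d → False := by
    intro Y hY a b c d h1 h2 h3
    let q : LTSeries Y := (((RelSeries.singleton _ d : LTSeries Y).cons c h3).cons b h2).cons a h1
    have h : (3 : WithBot ℕ∞) ≤ topologicalKrullDim Y := by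
      rw [topologicalKrullDim, Order.krullDim_eq_of_orderIso (irreducibleSetEquivPoints (α := Y))]
      exact le_of_eq_of_le (by simp [q]) (Order.LTSeries.length_le_krullDim q)
    exact absurd (h.trans hY) (by decide)
  have hgenS : WR.hom (genericPoint WR.left) ≠ closedPoint R := by
    rw [← hgW, ← Scheme.Hom.comp_apply, hiW.w, Scheme.Hom.comp_apply, hjgen]
    intro h
    rw [genericPoint_eq_bot_of_affine (CommRingCat.of R)] at h
    exact IsDiscreteValuationRing.not_a_field R (congrArg PrimeSpectrum.asIdeal h).symm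
  -- the projection is an isomorphism
  have hV : V = ⊤ := by
    refine top_unique fun x _ => ?_
    by_contra hx
    have h2 := hVdim x hx
    rw [ringKrullDim_stalk_eq_coheight] at h2
    have hxcl : IsClosed ({x} : Set XR.left) := by
      refine closure_subset_iff_isClosed.mp fun y hy => ?_
      by_contra hne
      have hyx : y < x := lt_of_le_of_ne (show y ≤ x from specializes_iff_mem_closure.2 hy) hne
      have h3 : (3 : WithBot ℕ∞) ≤ topologicalKrullDim XR.left := by
        rw [topologicalKrullDim, Order.krullDim_eq_of_orderIso (irreducibleSetEquivPoints (α := XR.left))]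
        refine le_trans ?_ (Order.coheight_le_krullDim y)
        exact WithBot.coe_le_coe.2 (le_trans (show (3 : ℕ∞) ≤ Order.coheight x + 1 from
          le_trans (by norm_num) (add_le_add_left (WithBot.coe_le_coe.1 h2) 1)) (Order.coheight_add_one_le hyx))
      exact absurd (h3.trans hdX) (by decide)
    have hxs : XR.hom x = closedPoint R := by
      have h := XR.hom.isClosedMap _ hxcl
      rw [Set.image_singleton] at h
      exact (Set.mem_singleton_iff.1 ((IsLocalRing.specializes_closedPoint _).mem_closed h rfl)).symm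
    haveI : IsDominant ρ := ⟨by
      refine Dense.mono ?_ (dense_iff_closure_eq.2 (genericPoint_spec XR.left).def)
      rw [Set.singleton_subset_iff]
      exact ⟨_, hρgen⟩⟩
    obtain ⟨z₀, hz₀⟩ : x ∈ Set.range ρ := by
      rw [← (ρ.isClosedMap.isClosed_range).closure_eq, ρ.denseRange.closure_range]
      trivial
    let F := ρ.fiber x
    obtain ⟨f₀, -⟩ : z₀ ∈ Set.range (ρ.fiberι x) := by
      rw [Scheme.Hom.range_fiberι]
      exact hz₀
    haveI : IsNoetherian F := by
      haveI : IsLocallyNoetherian F := LocallyOfFiniteType.isLocallyNoetherian (ρ.fiberToSpecResidueField x)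
      haveI : CompactSpace F := QuasiCompact.compactSpace_of_compactSpace (ρ.fiberToSpecResidueField x)
      exact {}
    obtain ⟨t₁, t₂, h12, hne⟩ := exists_specializes_ne f₀ (hVfib x hx f₀)
    -- finiteness over the second model
    let r := XR.left.fromSpecResidueField x
    haveI : IsClosedImmersion r := IsClosedImmersion.of_isPreimmersion r (by
      rw [Scheme.range_fromSpecResidueField]
      exact hxcl)
    haveI : IsFinite (r ≫ XR.hom) := IsFinite.iff_isProper_and_isAffineHom.2 ⟨inferInstance, inferInstance⟩
    let c : F ⟶ pullback (r ≫ XR.hom) WR.hom := pullback.lift (ρ.fiberToSpecResidueField x) (ρ.fiberι x ≫ σ) (by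
      rw [Category.assoc, ← hρσ, ← Category.assoc, ← Category.assoc]
      exact congrArg (· ≫ XR.hom) pullback.condition.symm)
    haveI : IsClosedImmersion c := by
      let d : pullback (r ≫ XR.hom) WR.hom ⟶ P := pullback.lift (pullback.fst _ _ ≫ r) (pullback.snd _ _)
        (by rw [Category.assoc, pullback.condition])
      have hcd : c ≫ d = ρ.fiberι x ≫ δ.imageι := by
        refine pullback.hom_ext ?_ ?_
        · simp only [c, d, Category.assoc, pullback.lift_fst, pullback.lift_fst_assoc]
          exact (pullback.condition (f := ρ) (g := r)).symm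
        · simp only [c, d, Category.assoc, pullback.lift_snd]
          rfl
      haveI : IsClosedImmersion (ρ.fiberι x) := MorphismProperty.pullback_fst _ _ ‹IsClosedImmersion r›
      haveI : IsSeparated d := by
        haveI : IsSeparated (d ≫ pullback.snd XR.hom WR.hom) := by
          rw [pullback.lift_snd]
          infer_instance
        exact IsSeparated.of_comp d (pullback.snd XR.hom WR.hom)
      haveI : IsClosedImmersion (c ≫ d) := hcd.symm ▸ inferInstance
      exact IsClosedImmersion.of_comp c d
    let m : F ⟶ WR.left := ρ.fiberι x ≫ σ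
    haveI : IsFinite m := by
      rw [show m = c ≫ pullback.snd (r ≫ XR.hom) WR.hom from (pullback.lift_snd _ _ _).symm]
      infer_instance
    have hm : m t₁ ≠ m t₂ := fun he => hne (eq_of_specializes_finite m h12 he)
    let z₁ := ρ.fiberι x t₁
    have hz₁ : ρ z₁ = x := by
      rw [← Scheme.Hom.comp_apply,
        show ρ.fiberι x ≫ ρ = ρ.fiberToSpecResidueField x ≫ r from pullback.condition, Scheme.Hom.comp_apply,
        Scheme.fromSpecResidueField_apply]
    have hms : ∀ a : F, WR.hom (m a) = closedPoint R := fun a => by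
      rw [← Scheme.Hom.comp_apply, show m ≫ WR.hom = ρ.fiberι x ≫ ρ ≫ XR.hom from by
        simp only [m, Category.assoc, hρσ], reassoc_of% (show ρ.fiberι x ≫ ρ = ρ.fiberToSpecResidueField x ≫ r from
        pullback.condition), Scheme.Hom.comp_apply, Scheme.Hom.comp_apply, Scheme.fromSpecResidueField_apply, hxs]
    let w₁ := σ z₁
    have hw₁ : m t₁ = w₁ := Scheme.Hom.comp_apply _ _ _
    have hξ : iW g ⤳ w₁ := hgW ▸ genericPoint_specializes w₁
    have hcomp : closure ({w₁} : Set WR.left) ∈ Models.fibreComponents R WR := by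
      refine ⟨⟨isIrreducible_singleton.closure, ?_⟩, fun T hT hle => ?_⟩
      · refine closure_minimal ?_ (Models.isClosed_specialFibreSet R WR)
        rw [Set.singleton_subset_iff, ← hw₁]
        exact hms t₁
      · obtain ⟨w₀, hw₀⟩ := QuasiSober.sober hT.1.closure isClosed_closure
        have h01 : w₀ ⤳ w₁ := hw₀.specializes (subset_closure (hle (subset_closure rfl)))
        have hw₀s : WR.hom w₀ = closedPoint R :=
          closure_minimal hT.2 (Models.isClosed_specialFibreSet R WR) hw₀.mem
        have heq : w₀ = w₁ := by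
          by_contra hne'
          refine hchain hdW (a := m t₂) (b := w₁) (c := w₀) (d := genericPoint WR.left) ?_ ?_ ?_
          · rw [← hw₁]
            exact lt_of_le_of_ne (show m t₁ ⤳ m t₂ from h12.map m.continuous) (Ne.symm hm)
          · exact lt_of_le_of_ne (show w₁ ≤ w₀ from h01) (Ne.symm hne')
          · exact lt_of_le_of_ne (show w₀ ≤ genericPoint WR.left from genericPoint_specializes w₀)
              fun h => hgenS (h ▸ hw₀s)
        rw [← heq, hw₀.def]
        exact subset_closure
    obtain ⟨ξ', hξ', hcomp', hrange⟩ := H w₁ hξ hcomp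
    -- local rings
    let a := (iX.stalkMap g).hom.comp (XR.left.presheaf.stalkSpecializes hξ').hom
    let b := (iW.stalkMap g).hom.comp (WR.left.presheaf.stalkSpecializes hξ).hom
    have hainj : Function.Injective a :=
      (ConcreteCategory.bijective_of_isIso (iX.stalkMap g)).1.comp (specializes_injective hgX hξ')
    have hbinj : Function.Injective b :=
      (ConcreteCategory.bijective_of_isIso (iW.stalkMap g)).1.comp (specializes_injective hgW hξ)
    have hmem : ∀ y, ∃ w, b w = a y := fun y => hrange.le ⟨y, rfl⟩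
    choose e he using hmem
    let ε : XR.left.presheaf.stalk ξ' →+* WR.left.presheaf.stalk w₁ :=
      { toFun := e
        map_one' := hbinj (by rw [he, map_one, map_one])
        map_mul' := fun p q => hbinj (by rw [he, map_mul, map_mul, he, he])
        map_zero' := hbinj (by rw [he, map_zero, map_zero])
        map_add' := fun p q => hbinj (by rw [he, map_add, map_add, he, he]) }
    have hεbij : Function.Bijective ε := ⟨fun p q h => hainj (by rw [← he, ← he]; exact congrArg b h), fun w => by
      obtain ⟨y, hy⟩ := hrange.ge ⟨w, rfl⟩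
      exact ⟨y, hbinj ((he y).trans hy)⟩⟩
    let ψ := CommRingCat.ofHom ε
    haveI : IsIso ψ := (ConcreteCategory.isIso_iff_bijective _).2 hεbij
    haveI : IsLocalHom ψ.hom := isLocalHom_of_isIso ψ
    have htz : t g ⤳ z₁ := htg ▸ genericPoint_specializes z₁
    let θ := Z.presheaf.stalkSpecializes htz ≫ t.stalkMap g
    have hθinj : Function.Injective θ.hom := hinjt.comp (specializes_injective htg htz)
    haveI : IsDominant (Spec.map θ) := by
      haveI : IsIntegral (Spec (Z.presheaf.stalk z₁)) := inferInstance
      refine ⟨?_⟩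
      exact PrimeSpectrum.denseRange_comap_iff_ker_le_nilRadical θ.hom |>.2
        (by rw [(RingHom.injective_iff_ker_eq_bot θ.hom).1 hθinj]; exact bot_le)
    have hθ : Spec.map θ ≫ Z.fromSpecStalk z₁ = C.fromSpecStalk g ≫ t := by
      rw [show Spec.map θ = Spec.map (t.stalkMap g) ≫ Spec.map (Z.presheaf.stalkSpecializes htz) from
        Spec.map_comp _ _, Category.assoc, Scheme.SpecMap_stalkSpecializes_fromSpecStalk]
      exact Scheme.SpecMap_stalkMap_fromSpecStalk t
    have hσb : Spec.map θ ≫ Spec.map (σ.stalkMap z₁) = Spec.map (CommRingCat.ofHom b) := by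
      have e1 : Spec.map (CommRingCat.ofHom b) ≫ WR.left.fromSpecStalk w₁ = C.fromSpecStalk g ≫ iW := by
        rw [show CommRingCat.ofHom b = WR.left.presheaf.stalkSpecializes hξ ≫ iW.stalkMap g from rfl, Spec.map_comp,
          Category.assoc, Scheme.SpecMap_stalkSpecializes_fromSpecStalk, Scheme.SpecMap_stalkMap_fromSpecStalk]
      rw [← cancel_mono (WR.left.fromSpecStalk w₁), e1, Category.assoc]
      rw [show Spec.map (σ.stalkMap z₁) ≫ WR.left.fromSpecStalk w₁ = Z.fromSpecStalk z₁ ≫ σ from
        Scheme.SpecMap_stalkMap_fromSpecStalk σ, reassoc_of% hθ, htσ]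
    let p₁ : Spec (Z.presheaf.stalk z₁) ⟶ XR.left := Z.fromSpecStalk z₁ ≫ ρ
    let p₂ : Spec (Z.presheaf.stalk z₁) ⟶ XR.left :=
      Spec.map (σ.stalkMap z₁) ≫ Spec.map ψ ≫ XR.left.fromSpecStalk ξ'
    have hp : Spec.map θ ≫ p₁ = Spec.map θ ≫ p₂ := by
      simp only [p₁, p₂, reassoc_of% hθ, reassoc_of% hσb, htρ, ← Category.assoc]
      rw [← Spec.map_comp, show ψ ≫ CommRingCat.ofHom b = XR.left.presheaf.stalkSpecializes hξ' ≫ iX.stalkMap g from
        CommRingCat.hom_ext (RingHom.ext he), Spec.map_comp, Category.assoc,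
        Scheme.SpecMap_stalkSpecializes_fromSpecStalk, Scheme.SpecMap_stalkMap_fromSpecStalk]
    haveI : XR.left.IsSeparated := by
      refine ⟨?_⟩
      rw [← terminal.comp_from XR.hom]
      infer_instance
    have hpp : p₁ = p₂ := ext_of_isDominant (Spec.map θ) hp
    have hcp : ∀ {A B : CommRingCat.{u}} [IsLocalRing A] [IsLocalRing B] (f : A ⟶ B) [IsLocalHom f.hom],
        Spec.map f (closedPoint B) = closedPoint A := fun f => IsLocalRing.comap_closedPoint f.hom
    have hxξ : x = ξ' := by
      have h1 : p₁ (closedPoint (Z.presheaf.stalk z₁)) = x := by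
        rw [Scheme.Hom.comp_apply, Scheme.fromSpecStalk_closedPoint, hz₁]
      have h2 : p₂ (closedPoint (Z.presheaf.stalk z₁)) = ξ' := by
        simp only [p₂, Scheme.Hom.comp_apply]
        exact (congrArg (XR.left.fromSpecStalk ξ') ((congrArg (Spec.map ψ) (hcp (σ.stalkMap z₁))).trans
          (IsLocalRing.comap_closedPoint ψ.hom))).trans Scheme.fromSpecStalk_closedPoint
      rw [← h1, hpp, h2]
    subst hxξ
    -- a component of the special fibre has codimension one
    obtain ⟨ϖ, hϖ⟩ := IsDiscreteValuationRing.exists_irreducible R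
    rw [← ringKrullDim_stalk_eq_coheight] at h2
    refine absurd (h2.trans (component_stalk_dim_le_one XR hcomp' hϖ)) (by decide)
  haveI : IsIso ρ := by
    haveI := hViso
    exact isIso_of_restrict_top ρ hV
  refine ⟨Over.homMk (inv ρ ≫ σ) (by rw [Category.assoc, ← hρσ, IsIso.inv_hom_id_assoc]), ?_⟩
  show iX ≫ inv ρ ≫ σ = iW
  rw [← htρ, Category.assoc, IsIso.hom_inv_id_assoc, htσ]

end Groth.Agent.H26.DedMin
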