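import Groth.Agent.H26.DedMin.Loc
import Groth.Agent.MinModel.Extend
import Groth.Agent.ExcContr.Ample
import Groth.Agent.H26.GGContract.Main
import Groth.Agent.Contraction7.Main

/-!
# Relatively minimal models over a Dedekind domain
-/

noncomputable section

set_option autoImplicit false
set_option linter.style.haveILetI false
set_option linter.unusedSectionVars false
set_option backward.isDefEq.respectTransparency false
set_option backward.isDefEq.respectTransparency.types false
set_option maxHeartbeats 1000000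

universe u

open CategoryTheory CategoryTheory.Limits AlgebraicGeometry TopologicalSpace IsLocalRing

namespace Groth.Agent.H26.DedMin

attribute [-instance] instAlgebraAtPrimeFractionRing

open Groth.Agent

/-- Base change of a morphism over the base is a base change of the morphism. -/
theorem map_isPullback {S S' : Scheme.{u}} (j : S' ⟶ S) {Z Z' : Over S} (φ : Z ⟶ Z') :
    IsPullback (pullback.fst Z.hom j) ((Over.pullback j).map φ).left φ.left (pullback.fst Z'.hom j) := by
  refine IsPullback.flip (IsPullback.of_right ?_ (pullback.lift_fst _ _ _)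
    (IsPullback.of_hasPullback Z'.hom j).flip)
  rw [show ((Over.pullback j).map φ).left ≫ pullback.snd Z'.hom j = pullback.snd Z.hom j from pullback.lift_snd _ _ _,
    Over.w φ]
  exact (IsPullback.of_hasPullback Z.hom j).flip

/-- A flat preimmersion onto a subset containing the generic point has integral source. -/
theorem isIntegral_preimmersion {W Z : Scheme.{u}} [IsIntegral Z] (q : W ⟶ Z) [Flat q] [IsPreimmersion q]
    (hg : genericPoint Z ∈ Set.range q) : IsIntegral W := by
  obtain ⟨g, hg⟩ := hg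
  haveI : Nonempty W := ⟨g⟩
  have hgen : ∀ w, g ⤳ w := fun w =>
    q.isEmbedding.isInducing.specializes_iff.1 (hg ▸ genericPoint_specializes (q w))
  haveI : IrreducibleSpace W := by
    haveI : PreirreducibleSpace W :=
      ⟨fun u v hu hv ⟨a, _, ha⟩ ⟨b, _, hb⟩ => ⟨g, trivial, (hgen a).mem_open hu ha, (hgen b).mem_open hv hb⟩⟩
    exact ⟨inferInstance⟩
  haveI : AlgebraicGeometry.IsReduced W := by
    haveI : ∀ w : W, _root_.IsReduced (W.presheaf.stalk w) := fun w =>
      haveI := isIso_stalkMap_preimmersion q w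
      let e := (asIso (q.stalkMap w)).commRingCatIsoToRingEquiv
      isReduced_of_injective e.symm.toRingHom e.symm.injective
    exact isReduced_of_isReduced_stalk _
  exact isIntegral_of_irreducibleSpace_of_isReduced _

variable {R : Type u} [CommRing R] [IsDedekindDomain R]

/-- An integral scheme dominating the spectrum of a Dedekind domain is flat over it. -/
theorem flat_of_dominant {Z : Scheme.{u}} [IsIntegral Z] (h : Z ⟶ Spec (CommRingCat.of R))
    (he : h (genericPoint Z) = genericPoint (Spec (CommRingCat.of R))) : Flat h := by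
  rw [IsZariskiLocalAtSource.iff_of_iSup_eq_top (P := @Flat) (ι := {U : Z.affineOpens // Nonempty (U.1 : Scheme.{u})})
    (fun U => U.1.1) (top_unique fun z _ => ?_)]
  · intro ⟨U, hU⟩
    haveI : IsAffine (U.1 : Scheme.{u}) := U.2
    haveI : IsIntegral (U.1 : Scheme.{u}) := isIntegral_of_isOpenImmersion U.1.ι
    obtain ⟨φ, hφ⟩ := Spec.map_surjective ((U.1 : Scheme.{u}).isoSpec.inv ≫ U.1.ι ≫ h)
    rw [← MorphismProperty.cancel_left_of_respectsIso @Flat (U.1 : Scheme.{u}).isoSpec.inv, ← hφ,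
      HasRingHomProperty.Spec_iff (P := @Flat)]
    have hg : (Spec.map φ) ((U.1 : Scheme.{u}).isoSpec.hom (genericPoint (U.1 : Scheme.{u}))) =
        genericPoint (Spec (CommRingCat.of R)) := by
      rw [hφ, ← Scheme.Hom.comp_apply, Iso.hom_inv_id_assoc, Scheme.Hom.comp_apply,
        genericPoint_eq_of_isOpenImmersion U.1.ι, he]
    have hinj : Function.Injective φ.hom := by
      rw [RingHom.injective_iff_ker_eq_bot, eq_bot_iff]
      intro v hv
      have hv' : v ∈ (PrimeSpectrum.comap φ.hom ((U.1 : Scheme.{u}).isoSpec.hom (genericPoint (U.1 : Scheme.{u})))).asIdeal := by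
        show φ.hom v ∈ ((U.1 : Scheme.{u}).isoSpec.hom (genericPoint (U.1 : Scheme.{u})) : PrimeSpectrum Γ((U.1 : Scheme.{u}), ⊤)).asIdeal
        rw [RingHom.mem_ker.1 hv]
        exact Submodule.zero_mem _
      rw [show PrimeSpectrum.comap φ.hom ((U.1 : Scheme.{u}).isoSpec.hom (genericPoint (U.1 : Scheme.{u}))) = _ from hg,
        genericPoint_eq_bot_of_affine (CommRingCat.of R)] at hv'
      exact hv'
    letI := φ.hom.toAlgebra
    haveI : IsDomain Γ((U.1 : Scheme.{u}), ⊤) := inferInstance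
    refine (IsDedekindDomain.flat_iff_torsion_eq_bot.2 ?_ : Module.Flat R Γ((U.1 : Scheme.{u}), ⊤))
    rw [eq_bot_iff]
    rintro a ⟨⟨v, hv⟩, hva⟩
    have hva' : φ.hom v * a = 0 := hva
    refine (mul_eq_zero.1 hva').resolve_left fun h0 => nonZeroDivisors.ne_zero hv (hinj ?_)
    rw [h0, map_zero]
  · obtain ⟨U, hU, hzU, -⟩ := exists_isAffineOpen_mem_and_subset (x := z) (U := ⊤) trivial
    exact TopologicalSpace.Opens.mem_iSup.2 ⟨⟨⟨U, hU⟩, ⟨⟨z, hzU⟩⟩⟩, hzU⟩

theorem genPt_apply (w : Spec (CommRingCat.of (FractionRing R))) :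
    Neron.genPt R w = genericPoint (Spec (CommRingCat.of R)) :=
  (SmoothMinimal.range_genPt (R := R)).le ⟨w, rfl⟩

instance : IsPreimmersion (Neron.genPt R) := IsPreimmersion.of_isLocalization (nonZeroDivisors R)

instance : Flat (Neron.genPt R) := by
  rw [HasRingHomProperty.Spec_iff (P := @Flat)]
  exact RingHom.flat_algebraMap_iff.2 (IsLocalization.flat (FractionRing R) (nonZeroDivisors R))

theorem genericFibre_integral (Z : Over (Spec (CommRingCat.of R))) [IsIntegral Z.left] [Flat Z.hom] :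
    IsIntegral (pullback Z.hom (Neron.genPt R)) := by
  refine isIntegral_preimmersion (pullback.fst Z.hom (Neron.genPt R)) ?_
  rw [Scheme.Pullback.range_fst, Set.mem_preimage, SmoothMinimal.range_genPt, Set.mem_singleton_iff]
  exact apply_generic_base Z

/-- A modification which is an isomorphism off a set lying over closed points is an isomorphism generically. -/
theorem isIso_genericFibre_map {Z Z' : Over (Spec (CommRingCat.of R))} (φ : Z ⟶ Z') (V : Z'.left.Opens)
    (hV : ∀ z, Z'.hom z = genericPoint (Spec (CommRingCat.of R)) → z ∈ V) [hi : IsIso (φ.left ∣_ V)] :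
    IsIso ((Neron.genericFibre R).map φ) := by
  let qY := pullback.fst Z'.hom (Neron.genPt R)
  have hp : IsPullback (pullback.fst Z.hom (Neron.genPt R)) ((Neron.genericFibre R).map φ).left φ.left qY :=
    map_isPullback _ φ
  have hq : Set.range qY ⊆ Set.range V.ι := by
    rintro _ ⟨w, rfl⟩
    rw [Scheme.Opens.range_ι]
    refine hV _ ?_
    rw [← Scheme.Hom.comp_apply, pullback.condition, Scheme.Hom.comp_apply]
    exact genPt_apply _
  obtain ⟨l, hl⟩ : ∃ l, l ≫ V.ι = qY := ⟨IsOpenImmersion.lift V.ι qY hq, IsOpenImmersion.lift_fac _ _ _⟩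
  have t := (isPullback_morphismRestrict φ.left V).flip
  let a' := t.lift (pullback.fst Z.hom (Neron.genPt R)) (((Neron.genericFibre R).map φ).left ≫ l)
    (by rw [Category.assoc, hl]; exact hp.w)
  have h2 : IsPullback a' ((Neron.genericFibre R).map φ).left (φ.left ∣_ V) l := by
    refine IsPullback.of_right ?_ (t.lift_snd _ _ _) t
    rw [t.lift_fst, hl]
    exact hp
  haveI : IsIso ((Over.forget _).map ((Neron.genericFibre R).map φ)) :=
    MorphismProperty.of_isPullback (P := MorphismProperty.isomorphisms Scheme.{u}) h2 hi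
  exact isIso_of_reflects_iso _ (Over.forget _)

theorem closed_ne_generic (hR : ¬ IsField R) {s : Spec (CommRingCat.of R)}
    (hs : IsClosed ({s} : Set (Spec (CommRingCat.of R)))) : s ≠ genericPoint (Spec (CommRingCat.of R)) := fun h => by
  rw [h, genericPoint_eq_bot_of_affine (CommRingCat.of R)] at hs
  exact Ring.ne_bot_of_isMaximal_of_not_isField ((PrimeSpectrum.isClosed_singleton_iff_isMaximal _).1 hs) hR rfl

/-- A sequence of contractions is an isomorphism on generic fibres. -/
theorem seq_genericFibre (hR : ¬ IsField R) {Z X : Scheme.{u}} {r : Z ⟶ X} (hr : Models.IsContractionSeq r) :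
    ∀ (p : X ⟶ Spec (CommRingCat.of R)) [IsProper p] [IsIntegral X] [IsNoetherian X],
      (∀ x : X, IsRegularLocalRing (X.presheaf.stalk x)) →
      IsIso ((Neron.genericFibre R).map (Over.homMk r rfl : Over.mk (r ≫ p) ⟶ Over.mk p)) := by
  induction hr with
  | @iso Z X e =>
    intro p _ _ _ hreg
    haveI : IsIso ((Over.forget _).map (Over.homMk e.hom rfl : Over.mk (e.hom ≫ p) ⟶ Over.mk p)) :=
      inferInstanceAs (IsIso e.hom)
    haveI := isIso_of_reflects_iso (Over.homMk e.hom rfl : Over.mk (e.hom ≫ p) ⟶ Over.mk p) (Over.forget _)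
    infer_instance
  | @step Z Z' X F ι c r' hι hF hc hr' ih =>
    intro p _ _ _ hreg
    obtain ⟨hint, -, hreg', -, hP', -⟩ := Sol.of_seq hr' hreg
    haveI := hint
    haveI := hP'
    obtain ⟨hNZ, hcP, y, hy, -, hyreg, hyd, hbl⟩ := id hc
    haveI := hNZ
    haveI := hcP
    haveI := hyreg
    haveI := ih p hreg
    have hys : (r' ≫ p) y ≠ genericPoint (Spec (CommRingCat.of R)) := by
      refine closed_ne_generic hR ?_
      have h := (r' ≫ p).isClosedMap _ hy
      rwa [Set.image_singleton] at h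
    let cM : Over.mk ((c ≫ r') ≫ p) ⟶ Over.mk (r' ≫ p) := Over.homMk c (Category.assoc _ _ _).symm
    haveI : IsIso (cM.left ∣_ (⟨{y}ᶜ, hy.isOpen_compl⟩ : Z'.Opens)) := PointBlow.isIso_off hy hbl
    haveI := isIso_genericFibre_map cM (⟨{y}ᶜ, hy.isOpen_compl⟩ : Z'.Opens) fun z hz h => hys (by
      rw [← show z = y from h]; exact hz)
    rw [show (Over.homMk (c ≫ r') rfl : Over.mk ((c ≫ r') ≫ p) ⟶ Over.mk p) =
      cM ≫ (Over.homMk r' rfl : Over.mk (r' ≫ p) ⟶ Over.mk p) from Over.OverMorphism.ext rfl, Functor.map_comp]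
    infer_instance

/-- An exceptional curve is contracted by a morphism to a surface without exceptional curves over the point. -/
theorem contracted_over {M X₂ : Over (Spec (CommRingCat.of R))} [IsProper M.hom] [Flat M.hom] [IsIntegral M.left]
    [IsProper X₂.hom] [Flat X₂.hom] [IsIntegral X₂.left]
    (hregM : ∀ z : M.left, IsRegularLocalRing (M.left.presheaf.stalk z))
    (hdM : ∀ z : M.left, ringKrullDim (M.left.presheaf.stalk z) ≤ 2)
    (hreg₂ : ∀ z : X₂.left, IsRegularLocalRing (X₂.left.presheaf.stalk z))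
    (b : M ⟶ X₂) [IsIso ((Neron.genericFibre R).map b)]
    (hχ : (Models.hRank (FractionRing R) ((Neron.genericFibre R).obj X₂).left ((Neron.genericFibre R).obj X₂).hom
          (Coh.structureModule ((Neron.genericFibre R).obj X₂).left) 0 : ℤ) -
        (Models.hRank (FractionRing R) ((Neron.genericFibre R).obj X₂).left ((Neron.genericFibre R).obj X₂).hom
          (Coh.structureModule ((Neron.genericFibre R).obj X₂).left) 1 : ℤ) ≤ 0)
    {s : Spec (CommRingCat.of R)} (hs : s ≠ genericPoint (Spec (CommRingCat.of R)))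
    (hno : ∀ {E : Scheme.{u}} (ι : E ⟶ X₂.left) [IsClosedImmersion ι], Models.IsExcCurve ι →
      ¬ ∀ a, X₂.hom (ι a) = s)
    {E : Scheme.{u}} (ι : E ⟶ M.left) [IsClosedImmersion ι] (hE : Models.IsExcCurve ι)
    (hover : ∀ a, M.hom (ι a) = s) : ∃ x, Set.range (ι ≫ b.left) = {x} := by
  haveI := isDVR s hs
  obtain ⟨Γ, hΓe, hΓr⟩ := exists_exc_loc s hs M ι hE hover
  haveI : IsProper (loc s M).hom := inferInstance
  haveI : Flat (loc s M).hom := inferInstance
  haveI : IsIntegral (loc s M).left := loc_isIntegral s M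
  haveI : IsIntegral (loc s X₂).left := loc_isIntegral s X₂
  haveI : IsLocallyNoetherian (loc s M).left := LocallyOfFiniteType.isLocallyNoetherian (loc s M).hom
  have hdim : topologicalKrullDim (loc s M).left = 2 :=
    MinDesing.dim_eq_two (loc s M).hom (loc_dim s M hdM) Γ
  let A := LR s
  let K := FractionRing R
  let L := FractionRing A
  obtain ⟨hCint, hCdim⟩ := ArtinTriv.isIntegral_and_dim (X := loc s M) hdim
  haveI := hCint
  let C := pullback (loc s M).hom (Neron.genPt A)
  let f : C ⟶ Spec (CommRingCat.of L) := pullback.snd (loc s M).hom (Neron.genPt A)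
  -- the field extension
  have hRAL := IsScalarTower.algebraMap_eq R (LR s) (FractionRing (LR s))
  letI : Algebra K L := FractionRing.liftAlgebra R L
  haveI : IsScalarTower R K L := FractionRing.isScalarTower_liftAlgebra R L
  let j : Spec (CommRingCat.of L) ⟶ Spec (CommRingCat.of K) := Spec.map (CommRingCat.ofHom (algebraMap K L))
  have hj : j ≫ Neron.genPt R = Neron.genPt A ≫ lmap s := by
    rw [← Spec.map_comp, ← Spec.map_comp, ← CommRingCat.ofHom_comp, ← CommRingCat.ofHom_comp,
      ← IsScalarTower.algebraMap_eq R K L, hRAL]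
  have sq : ∀ Z : Over (Spec (CommRingCat.of R)), ∃ t : pullback (loc s Z).hom (Neron.genPt A) ⟶ pullback Z.hom (Neron.genPt R),
      t ≫ pullback.fst _ _ = pullback.fst _ _ ≫ locπ s Z ∧
        IsPullback t (pullback.snd (loc s Z).hom (Neron.genPt A)) (pullback.snd Z.hom (Neron.genPt R)) j := by
    intro Z
    have big : IsPullback (pullback.fst (loc s Z).hom (Neron.genPt A) ≫ locπ s Z)
        (pullback.snd (loc s Z).hom (Neron.genPt A)) Z.hom (j ≫ Neron.genPt R) := by
      rw [hj]
      exact (IsPullback.of_hasPullback (loc s Z).hom (Neron.genPt A)).paste_horiz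
        (IsPullback.of_hasPullback Z.hom (lmap s))
    let t := pullback.lift (pullback.fst (loc s Z).hom (Neron.genPt A) ≫ locπ s Z)
      (pullback.snd (loc s Z).hom (Neron.genPt A) ≫ j) (by rw [Category.assoc _ j]; exact big.w)
    refine ⟨t, pullback.lift_fst _ _ _, ?_⟩
    exact IsPullback.of_right (by rw [pullback.lift_fst]; exact big) (pullback.lift_snd _ _ _)
      (IsPullback.of_hasPullback Z.hom (Neron.genPt R))
  obtain ⟨tM, htM, sqM⟩ := sq M
  obtain ⟨tX, htX, sqX⟩ := sq X₂
  let bs : loc s M ⟶ loc s X₂ := (Over.pullback (lmap s)).map b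
  have hbs : bs.left ≫ locπ s X₂ = locπ s M ≫ b.left := pullback.lift_fst _ _ _
  let γ := ((Neron.genericFibre R).map b).left
  haveI hγ : IsIso γ := inferInstanceAs (IsIso ((Over.forget _).map ((Neron.genericFibre R).map b)))
  let γs := ((Neron.genericFibre A).map bs).left
  have hγs2 : γs ≫ pullback.snd (loc s X₂).hom (Neron.genPt A) = f := pullback.lift_snd _ _ _
  have hγs1 : γs ≫ pullback.fst (loc s X₂).hom (Neron.genPt A) = pullback.fst (loc s M).hom (Neron.genPt A) ≫ bs.left :=
    pullback.lift_fst _ _ _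
  have hγ2 : γ ≫ pullback.snd X₂.hom (Neron.genPt R) = pullback.snd M.hom (Neron.genPt R) := pullback.lift_snd _ _ _
  have hγ1 : γ ≫ pullback.fst X₂.hom (Neron.genPt R) = pullback.fst M.hom (Neron.genPt R) ≫ b.left :=
    pullback.lift_fst _ _ _
  have hsqγ : IsPullback tM γs γ tX := by
    refine IsPullback.of_bot ?_ ?_ sqX
    · rw [hγs2, hγ2]
      exact sqM
    · refine pullback.hom_ext ?_ ?_
      · rw [Category.assoc, Category.assoc, hγ1, htX, ← Category.assoc, htM, reassoc_of% hγs1, hbs, Category.assoc]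
      · rw [Category.assoc, Category.assoc, hγ2, sqX.w, sqM.w, ← Category.assoc, hγs2]
  haveI : IsIso γs :=
    MorphismProperty.of_isPullback (P := MorphismProperty.isomorphisms Scheme.{u}) hsqγ hγ
  have hregs := loc_regular s M hregM
  have hregs₂ := loc_regular s X₂ hreg₂
  let Mm : MinModel.Model (R := A) C f :=
    ⟨(loc s M).left, (loc s M).hom, pullback.fst _ _, IsPullback.of_hasPullback _ _,
      ⟨⟨inferInstanceAs (Flat (loc s M).hom), inferInstance, inferInstance, _, IsPullback.of_hasPullback _ _⟩,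
        inferInstance, hregs⟩⟩
  have hsq : IsPullback (γs ≫ pullback.fst (loc s X₂).hom (Neron.genPt A)) f (loc s X₂).hom (Neron.genPt A) := by
    rw [← hγs2]
    exact IsPullback.of_iso (IsPullback.of_hasPullback (loc s X₂).hom (Neron.genPt A)) (asIso γs).symm (Iso.refl _)
      (Iso.refl _) (Iso.refl _) (by simp) (by simp) (by simp) (by simp)
  let N : MinModel.Model (R := A) C f :=
    ⟨(loc s X₂).left, (loc s X₂).hom, γs ≫ pullback.fst _ _, hsq,
      ⟨⟨inferInstanceAs (Flat (loc s X₂).hom), inferInstance, inferInstance, _, hsq⟩, inferInstance, hregs₂⟩⟩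
  have hχ' : (Models.hRank L C f (Coh.structureModule C) 0 : ℤ) -
      (Models.hRank L C f (Coh.structureModule C) 1 : ℤ) ≤ 0 := by
    let eγ : pullback M.hom (Neron.genPt R) ≅ pullback X₂.hom (Neron.genPt R) := asIso γ
    rw [hRank_baseChange K L (pullback.snd M.hom (Neron.genPt R)) f tM sqM 0,
      hRank_baseChange K L (pullback.snd M.hom (Neron.genPt R)) f tM sqM 1,
      hRank_iso K (pullback.snd X₂.hom (Neron.genPt R)) (pullback.snd M.hom (Neron.genPt R)) eγ hγ2 0,
      hRank_iso K (pullback.snd X₂.hom (Neron.genPt R)) (pullback.snd M.hom (Neron.genPt R)) eγ hγ2 1]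
    exact hχ
  obtain ⟨x, hx⟩ := contracted hCdim hχ' (X₀ := N) (no_exc_loc s hs X₂ hno) Mm bs.left (Over.w bs) hγs1.symm Γ hΓe
  refine ⟨locπ s X₂ x, ?_⟩
  have h1 : Set.range (ι ≫ b.left) = b.left '' Set.range ι := by rw [← Set.range_comp]; rfl
  have h2 : Set.range ι = locπ s M '' Set.range Γ.ι := by
    rw [hΓr, Set.image_preimage_eq_inter_range, eq_comm, Set.inter_eq_left, range_locπ]
    rintro _ ⟨a, rfl⟩
    rw [Set.mem_preimage, hover a]
    exact ⟨_, lmap_closedPoint s⟩
  have h3 : Set.range (Γ.ι ≫ bs.left) = bs.left '' Set.range Γ.ι := by rw [← Set.range_comp]; rfl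
  rw [h1, h2, ← Set.image_comp, show (b.left : M.left → X₂.left) ∘ (locπ s M) = (locπ s X₂) ∘ bs.left from
    funext fun w => (congrArg (fun g : (loc s M).left ⟶ X₂.left => g w) hbs).symm, Set.image_comp, ← h3]
  exact (congrArg (Set.image (locπ s X₂)) hx).trans Set.image_singleton

/-- A relatively minimal arithmetic surface has no exceptional curve over a closed point. -/
theorem not_exc_of_relMinimal (X : Over (Spec (CommRingCat.of R))) (hX : ArSurf.IsArithSurface R X)
    (hmin : Neron.IsRelMinimalRegularModel R X) {s : Spec (CommRingCat.of R)}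
    (hs : s ≠ genericPoint (Spec (CommRingCat.of R)))
    {E : Scheme.{u}} (ι : E ⟶ X.left) [IsClosedImmersion ι] (hE : Models.IsExcCurve ι) :
    ¬ ∀ a, X.hom (ι a) = s := by
  intro hover
  obtain ⟨hreg, hint, -, hflat, n, i, hi, hcomm⟩ := id hX
  haveI := hint
  haveI := hflat
  haveI := hi
  haveI := H23.MultiP1.isProper_toBase (X := Spec (CommRingCat.of R)) n
  haveI : IsProper X.hom := hcomm ▸ inferInstance
  obtain ⟨O, hO⟩ := GGContract.exists_ample_projSpace R n
  obtain ⟨a, -, -⟩ := SeesawX.PnSpec.exists_iso n R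
  haveI : CompactSpace X.left := QuasiCompact.compactSpace_of_compactSpace X.hom
  haveI : IsClosedImmersion (i ≫ a.hom) := inferInstance
  have hL := AmpleVan.isAmple_pullback_of_isEmbedding (i ≫ a.hom) (i ≫ a.hom).isClosedEmbedding.isEmbedding hO
  obtain ⟨M, -, hM₀⟩ := H23.PicInv.exists_inverse (IdealCl.isInvertible_idealMod hE.1)
  have hM : ClSub.IsInverseOf M (ClSub.idealMod ι.ker) := by
    letI := H23.PicMul.clMonoid X.left
    refine H23.PicMul.cl_eq_iff.1 ?_
    rw [H23.PicMul.cl_tensor, mul_comm, ← H23.PicMul.cl_tensor]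
    exact H23.PicMul.cl_eq_iff.2 hM₀
  obtain ⟨X', b, g, hcon, hbg, hgP, -, L', hL', -⟩ :=
    ExcContr.exists_ample_contraction R X.hom _ hL ι hE M hM
  haveI := hgP
  obtain ⟨hNZ, hbP, y, hy, hrange, hyreg, hyd, hbl⟩ := id hcon
  haveI := hNZ
  haveI := hbP
  haveI := hyreg
  haveI hoff := PointBlow.isIso_off hy hbl
  obtain ⟨-, k, hk, e, -⟩ := id hE
  obtain ⟨a₁, a₂, hne, -⟩ := MinModel.exists_two_points k e
  have hys : g y = s := by
    rw [← show b (ι a₁) = y from hrange.le ⟨a₁, rfl⟩, ← Scheme.Hom.comp_apply, hbg]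
    exact hover a₁
  have hsur : Function.Surjective b := fun w => by
    by_cases hw : w = y
    · exact ⟨ι a₁, (hrange.le ⟨a₁, rfl⟩ : (ι ≫ b) a₁ = y).trans hw.symm⟩
    · obtain ⟨⟨z, hz⟩, hzw⟩ := (b ∣_ (⟨{y}ᶜ, hy.isOpen_compl⟩ : X'.Opens)).surjective ⟨w, hw⟩
      exact ⟨z, (morphismRestrict_base_coe b _ _).symm.trans (congrArg Subtype.val hzw)⟩
  have hreg' : ∀ w : X', IsRegularLocalRing (X'.presheaf.stalk w) := fun w => by
    by_cases hw : w = y
    · subst hw; exact hyreg
    · obtain ⟨z, rfl⟩ := hsur w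
      haveI := PointBlow.isIso_stalkMap_off hy hbl hw
      haveI := hreg z
      exact IsRegularLocalRing.of_ringEquiv (asIso (b.stalkMap z)).commRingCatIsoToRingEquiv.symm
  haveI : Nonempty X' := ⟨y⟩
  have hgp : IsGenericPoint (b (genericPoint X.left)) (Set.univ : Set X') := by
    have h := (genericPoint_spec X.left).image b.continuous
    rwa [Set.image_univ, hsur.range_eq, closure_univ] at h
  haveI : IrreducibleSpace X' := irreducibleSpace_def _ |>.2 hgp.isIrreducible
  haveI : IsIntegral X' := SmoothMinimal.isIntegral_of_regular hreg'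
  have hgen : g (genericPoint X') = genericPoint (Spec (CommRingCat.of R)) := by
    rw [← hgp.eq (genericPoint_spec X'), ← Scheme.Hom.comp_apply, hbg]
    exact apply_generic_base X
  haveI : Flat g := flat_of_dominant g hgen
  obtain ⟨N, j, hj, hj'⟩ := AmpleEmbed.exists_closedImmersion g hL'
  obtain ⟨a', ha', -⟩ := SeesawX.PnSpec.exists_iso N R
  haveI := hj
  have hproj : Neron.IsProjectiveOver R (Over.mk g) := by
    refine ⟨N, j ≫ a'.inv, inferInstance, ?_⟩
    rw [Category.assoc, ← ha', Iso.inv_hom_id_assoc]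
    exact hj'
  let bM : X ⟶ Over.mk g := Over.homMk b hbg
  haveI : IsIso (bM.left ∣_ (⟨{y}ᶜ, hy.isOpen_compl⟩ : X'.Opens)) := hoff
  have hiso := isIso_genericFibre_map bM (⟨{y}ᶜ, hy.isOpen_compl⟩ : X'.Opens) fun z hz h => hs (by
    rw [← hys, ← show z = y from h]; exact hz)
  haveI := hmin.2.2.2 (Over.mk g) hreg' hproj ‹Flat g› bM hiso
  haveI : IsIso b := inferInstanceAs (IsIso ((Over.forget _).map bM))
  refine hne (ι.isClosedEmbedding.injective (b.homeomorph.injective ?_))
  exact (hrange.le ⟨a₁, rfl⟩ : (ι ≫ b) a₁ = y).trans (hrange.le ⟨a₂, rfl⟩ : (ι ≫ b) a₂ = y).symm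

variable {X₂ : Over (Spec (CommRingCat.of R))} [IsProper X₂.hom] [Flat X₂.hom] [IsIntegral X₂.left]
  (hreg₂ : ∀ z : X₂.left, IsRegularLocalRing (X₂.left.presheaf.stalk z))
  (hχ : (Models.hRank (FractionRing R) ((Neron.genericFibre R).obj X₂).left ((Neron.genericFibre R).obj X₂).hom
          (Coh.structureModule ((Neron.genericFibre R).obj X₂).left) 0 : ℤ) -
        (Models.hRank (FractionRing R) ((Neron.genericFibre R).obj X₂).left ((Neron.genericFibre R).obj X₂).hom
          (Coh.structureModule ((Neron.genericFibre R).obj X₂).left) 1 : ℤ) ≤ 0)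
  (hno : ∀ {s : Spec (CommRingCat.of R)}, s ≠ genericPoint (Spec (CommRingCat.of R)) →
    ∀ {E : Scheme.{u}} (ι : E ⟶ X₂.left) [IsClosedImmersion ι], Models.IsExcCurve ι → ¬ ∀ a, X₂.hom (ι a) = s)
  (hR : ¬ IsField R)
include hreg₂ hχ hno hR

/-- Generically bijective morphisms to a surface without exceptional curves descend along contractions. -/
theorem descend {Z X : Scheme.{u}} {r : Z ⟶ X} (hr : Models.IsContractionSeq r) :
    ∀ (p : X ⟶ Spec (CommRingCat.of R)) [IsProper p] [Flat p] [IsIntegral X] [IsNoetherian X],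
      (∀ x : X, IsRegularLocalRing (X.presheaf.stalk x)) → (∀ x : X, ringKrullDim (X.presheaf.stalk x) ≤ 2) →
      ∀ (b : Z ⟶ X₂.left) (hb : b ≫ X₂.hom = r ≫ p),
        IsIso ((Neron.genericFibre R).map (Over.homMk b hb : Over.mk (r ≫ p) ⟶ X₂)) →
        ∃ b' : X ⟶ X₂.left, r ≫ b' = b ∧ b' ≫ X₂.hom = p := by
  induction hr with
  | @iso Z X e =>
    intro p _ _ _ _ hreg hd b hb _
    exact ⟨e.inv ≫ b, by rw [Iso.hom_inv_id_assoc], by rw [Category.assoc, hb, Iso.inv_hom_id_assoc]⟩
  | @step Z Z' X F ι c r' hι hF hc hr' ih =>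
    intro p _ _ _ _ hreg hd b hb hbi
    obtain ⟨hint', -, hreg', hbir', hP', -⟩ := Sol.of_seq hr' hreg
    haveI := hint'
    haveI := hP'
    have hseq := Models.IsContractionSeq.step ι c r' hι hF hc hr'
    obtain ⟨hint, -, hregZ, hbir, hP, -⟩ := Sol.of_seq hseq hreg
    haveI := hint
    haveI := hP
    obtain ⟨hNZ, hcP, y, hy, -, hyreg, hyd, hbl⟩ := id hc
    haveI := hNZ
    haveI := hcP
    haveI := hyreg
    have hdZ := MinDesing.dim_le_of_seq hseq hreg hd
    let M : Over (Spec (CommRingCat.of R)) := Over.mk ((c ≫ r') ≫ p)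
    haveI : IsProper M.hom := inferInstanceAs (IsProper ((c ≫ r') ≫ p))
    haveI : IsIntegral M.left := hint
    haveI : IsIntegral (Over.mk p).left := ‹IsIntegral X›
    haveI : Flat (Over.mk p).hom := ‹Flat p›
    haveI : Flat M.hom := by
      refine flat_of_dominant ((c ≫ r') ≫ p) ?_
      rw [Scheme.Hom.comp_apply, SurfSeq.map_generic _ hbir]
      exact apply_generic_base (Over.mk p)
    haveI := hbi
    set s := (r' ≫ p) y with hsdef
    have hs : s ≠ genericPoint (Spec (CommRingCat.of R)) := by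
      refine closed_ne_generic hR ?_
      have h := (r' ≫ p).isClosedMap _ hy
      rwa [Set.image_singleton] at h
    obtain ⟨F', ι', hι', hF'i, hF', hrange, -, -⟩ := PointBlow.exists_exc hy hbl hyd
    haveI := hι'; haveI := hF'i
    obtain ⟨x, hx⟩ := contracted_over (M := M) (X₂ := X₂) hregZ hdZ hreg₂ (Over.homMk b hb) hχ hs
      (fun ι _ h => hno hs ι h) ι' hF' (fun a => by
        show ((c ≫ r') ≫ p) (ι' a) = s
        rw [Category.assoc, Scheme.Hom.comp_apply, show c (ι' a) = y from hrange.le ⟨a, rfl⟩])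
    have hrc : Set.range (ι' ≫ c) = {y} := by
      refine subset_antisymm ?_ ?_
      · rintro _ ⟨a, rfl⟩
        exact hrange.le ⟨a, rfl⟩
      · rintro _ rfl
        exact ⟨genericPoint F', hrange.le ⟨_, rfl⟩⟩
    have hcon : Models.IsContractionOf ι' c := ⟨hNZ, hcP, y, hy, hrc, hyreg, hyd, hbl⟩
    obtain ⟨b'', hb'', -⟩ := Contraction7.factor c hF' hcon b x hx
    have hbp : b'' ≫ X₂.hom = r' ≫ p := by
      have hxp : Set.range (ι' ≫ (c ≫ r') ≫ p) = {X₂.hom x} := by
        rw [← hb, show Set.range (ι' ≫ b ≫ X₂.hom) = X₂.hom '' Set.range (ι' ≫ b) by rw [← Set.range_comp]; rfl,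
          show Set.range (ι' ≫ b) = {x} from hx, Set.image_singleton]
      obtain ⟨ψ, -, hu⟩ := Contraction7.factor c hF' hcon ((c ≫ r') ≫ p) (X₂.hom x) hxp
      rw [hu (b'' ≫ X₂.hom) (show c ≫ b'' ≫ X₂.hom = (c ≫ r') ≫ p by rw [reassoc_of% hb'', hb]),
        hu (r' ≫ p) (Category.assoc _ _ _).symm]
    let cM : M ⟶ Over.mk (r' ≫ p) := Over.homMk c (Category.assoc _ _ _).symm
    haveI : IsIso (cM.left ∣_ (⟨{y}ᶜ, hy.isOpen_compl⟩ : Z'.Opens)) := PointBlow.isIso_off hy hbl
    haveI := isIso_genericFibre_map cM (⟨{y}ᶜ, hy.isOpen_compl⟩ : Z'.Opens) fun z hz h => hs (by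
      rw [hsdef, ← show z = y from h]; exact hz)
    have hbi' : IsIso ((Neron.genericFibre R).map cM ≫
        (Neron.genericFibre R).map (Over.homMk b'' hbp : Over.mk (r' ≫ p) ⟶ X₂)) := by
      rw [← Functor.map_comp, show cM ≫ (Over.homMk b'' hbp : Over.mk (r' ≫ p) ⟶ X₂) = Over.homMk b hb from
        Over.OverMorphism.ext hb'']
      exact hbi
    haveI := hbi'
    obtain ⟨b', hb', hbp'⟩ := ih p hreg hd b'' hbp
      (IsIso.of_isIso_comp_left ((Neron.genericFibre R).map cM) _)
    exact ⟨b', by rw [Category.assoc, hb', hb''], hbp'⟩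

/-- Isomorphisms of generic fibres extend to morphisms into a surface without exceptional curves. -/
theorem existsUnique_extension (X₁ : Over (Spec (CommRingCat.of R))) [IsProper X₁.hom] [Flat X₁.hom]
    [IsIntegral X₁.left] (hreg₁ : ∀ z : X₁.left, IsRegularLocalRing (X₁.left.presheaf.stalk z))
    (hd₁ : ∀ z : X₁.left, ringKrullDim (X₁.left.presheaf.stalk z) ≤ 2)
    (φ : (Neron.genericFibre R).obj X₁ ≅ (Neron.genericFibre R).obj X₂) :
    ∃! f : X₁ ⟶ X₂, (Neron.genericFibre R).map f = φ.hom := by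
  haveI : IsLocallyNoetherian X₁.left := LocallyOfFiniteType.isLocallyNoetherian X₁.hom
  haveI : CompactSpace X₁.left := QuasiCompact.compactSpace_of_compactSpace X₁.hom
  haveI : IsNoetherian X₁.left := {}
  let q₁ := pullback.fst X₁.hom (Neron.genPt R)
  let q₂ := pullback.fst X₂.hom (Neron.genPt R)
  let φl : pullback X₁.hom (Neron.genPt R) ⟶ pullback X₂.hom (Neron.genPt R) := φ.hom.left
  haveI := genericFibre_integral X₁
  let g := genericPoint (pullback X₁.hom (Neron.genPt R) : Scheme.{u})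
  have hφw : φl ≫ q₂ ≫ X₂.hom = q₁ ≫ X₁.hom := by
    rw [pullback.condition, ← Category.assoc,
      show φl ≫ pullback.snd X₂.hom (Neron.genPt R) = pullback.snd X₁.hom (Neron.genPt R) from Over.w φ.hom,
      ← pullback.condition]
  haveI : IsDominant q₁ := by
    refine ⟨Dense.mono ?_ (dense_iff_closure_eq.2 (genericPoint_spec X₁.left).def)⟩
    rw [Set.singleton_subset_iff, Scheme.Pullback.range_fst, Set.mem_preimage, SmoothMinimal.range_genPt,
      Set.mem_singleton_iff]
    exact apply_generic_base X₁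
  have huniq : ∀ f f' : X₁ ⟶ X₂, (Neron.genericFibre R).map f = φ.hom → (Neron.genericFibre R).map f' = φ.hom →
      f = f' := fun f f' hf hf' => by
    refine Over.OverMorphism.ext (ext_of_isDominant_of_isSeparated X₂.hom ((Over.w f).trans (Over.w f').symm) q₁ ?_)
    rw [show q₁ ≫ f.left = ((Neron.genericFibre R).map f).left ≫ q₂ from (pullback.lift_fst _ _ _).symm,
      show q₁ ≫ f'.left = ((Neron.genericFibre R).map f').left ≫ q₂ from (pullback.lift_fst _ _ _).symm, hf, hf']
  -- spreading out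
  haveI : IsIso (q₁.stalkMap g) := isIso_stalkMap_preimmersion q₁ g
  let σ := Spec.map (q₁.stalkMap g)
  haveI : IsIso σ := inferInstance
  let ψ : Spec (X₁.left.presheaf.stalk (q₁ g)) ⟶ X₂.left :=
    inv σ ≫ (pullback X₁.hom (Neron.genPt R)).fromSpecStalk g ≫ φl ≫ q₂
  have hσ : σ ≫ X₁.left.fromSpecStalk (q₁ g) = (pullback X₁.hom (Neron.genPt R)).fromSpecStalk g ≫ q₁ :=
    Scheme.SpecMap_stalkMap_fromSpecStalk _
  have hψ : ψ ≫ X₂.hom = X₁.left.fromSpecStalk (q₁ g) ≫ X₁.hom := by
    rw [← cancel_epi σ, reassoc_of% hσ]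
    simp only [ψ, Category.assoc, IsIso.hom_inv_id_assoc, hφw]
  obtain ⟨U, hgU, f₀, hψf, hf₀⟩ := spread_out_of_isGermInjective' X₁.hom X₂.hom ψ hψ
  let U₁ := q₁ ⁻¹ᵁ U
  haveI : Nonempty (U₁ : Scheme.{u}) := ⟨⟨g, hgU⟩⟩
  haveI : IsIntegral (U₁ : Scheme.{u}) := isIntegral_of_isOpenImmersion U₁.ι
  have hf₀q : U₁.ι ≫ φl ≫ q₂ = (q₁ ∣_ U) ≫ f₀ := by
    let ξ := U₁.fromSpecStalkOfMem g hgU
    have hξ : ξ ≫ U₁.ι = (pullback X₁.hom (Neron.genPt R)).fromSpecStalk g := Scheme.Opens.fromSpecStalkOfMem_ι _ _ _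
    haveI : IsDominant ξ := by
      refine ⟨Dense.mono ?_ (dense_iff_closure_eq.2 (genericPoint_spec (U₁ : Scheme.{u})).def)⟩
      rw [Set.singleton_subset_iff]
      refine ⟨closedPoint _, U₁.ι.isOpenEmbedding.injective ?_⟩
      rw [genericPoint_eq_of_isOpenImmersion U₁.ι, ← Scheme.Hom.comp_apply, hξ, Scheme.fromSpecStalk_closedPoint]
    refine ext_of_isDominant_of_isSeparated X₂.hom ?_ ξ ?_
    · rw [Category.assoc, Category.assoc, hφw, Category.assoc, hf₀, morphismRestrict_ι_assoc]
    · have h1 : ξ ≫ (q₁ ∣_ U) = σ ≫ U.fromSpecStalkOfMem (q₁ g) hgU := by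
        rw [← cancel_mono U.ι, Category.assoc, morphismRestrict_ι, reassoc_of% hξ, Category.assoc,
          Scheme.Opens.fromSpecStalkOfMem_ι, hσ]
      rw [reassoc_of% hξ, reassoc_of% h1, ← hψf]
      simp only [ψ, IsIso.hom_inv_id_assoc]
  obtain ⟨Z, r, b₀, hr, hb₀, hag⟩ := MinModel.exists_extension hreg₁ hd₁ X₁.hom X₂.hom U ⟨_, hgU⟩ f₀ hf₀
  haveI hri := seq_genericFibre hR hr X₁.hom hreg₁
  obtain ⟨hintZ, -, hregZ, hbirZ, hPZ, -⟩ := Sol.of_seq hr hreg₁
  haveI := hintZ
  let MZ : Over (Spec (CommRingCat.of R)) := Over.mk (r ≫ X₁.hom)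
  haveI : IsIntegral MZ.left := hintZ
  haveI : Flat MZ.hom := by
    refine flat_of_dominant (r ≫ X₁.hom) ?_
    rw [Scheme.Hom.comp_apply, SurfSeq.map_generic _ hbirZ]
    exact apply_generic_base X₁
  haveI := genericFibre_integral MZ
  haveI : IsIntegral ((Neron.genericFibre R).obj MZ).left := genericFibre_integral MZ
  haveI : IsIntegral ((Neron.genericFibre R).obj X₁).left := genericFibre_integral X₁
  let rM : MZ ⟶ X₁ := Over.homMk r rfl
  let bM : MZ ⟶ X₂ := Over.homMk b₀ hb₀
  haveI hrM : IsIso ((Neron.genericFibre R).map rM) := hri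
  let γ := ((Neron.genericFibre R).map rM).left
  haveI : IsIso γ := inferInstanceAs (IsIso ((Over.forget _).map ((Neron.genericFibre R).map rM)))
  let qZ := pullback.fst MZ.hom (Neron.genPt R)
  have hγ : γ ≫ q₁ = qZ ≫ r := pullback.lift_fst _ _ _
  have hbM : (Neron.genericFibre R).map bM = (Neron.genericFibre R).map rM ≫ φ.hom := by
    refine Over.OverMorphism.ext (pullback.hom_ext ?_ ?_)
    · rw [show ((Neron.genericFibre R).map bM).left ≫ q₂ = qZ ≫ b₀ from pullback.lift_fst _ _ _, Over.comp_left,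
        Category.assoc]
      let W := γ ⁻¹ᵁ U₁
      haveI : IsDominant W.ι := ⟨by
        rw [DenseRange, Scheme.Opens.range_ι]
        refine W.isOpen.dense ⟨(asIso γ).inv g, ?_⟩
        show γ ((asIso γ).inv g) ∈ U₁
        rw [← Scheme.Hom.comp_apply, asIso_inv, IsIso.inv_hom_id]
        exact hgU⟩
      refine ext_of_isDominant_of_isSeparated X₂.hom ?_ W.ι ?_
      · show (qZ ≫ b₀) ≫ X₂.hom = (γ ≫ φl ≫ q₂) ≫ X₂.hom
        rw [Category.assoc, hb₀, Category.assoc, Category.assoc, hφw, reassoc_of% hγ]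
      · show W.ι ≫ qZ ≫ b₀ = W.ι ≫ γ ≫ φl ≫ q₂
        have hr' : Set.range (W.ι ≫ qZ) ⊆ Set.range (r ⁻¹ᵁ U).ι := by
          rintro _ ⟨w, rfl⟩
          rw [Scheme.Opens.range_ι]
          show ((W.ι ≫ qZ) ≫ r) w ∈ U
          rw [Category.assoc, ← hγ]
          exact w.2
        have h1 : IsOpenImmersion.lift (r ⁻¹ᵁ U).ι (W.ι ≫ qZ) hr' ≫ (r ∣_ U) = (γ ∣_ U₁) ≫ (q₁ ∣_ U) := by
          rw [← cancel_mono U.ι]
          simp only [Category.assoc, morphismRestrict_ι, IsOpenImmersion.lift_fac_assoc, morphismRestrict_ι_assoc, hγ, W, U₁]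
        rw [← morphismRestrict_ι_assoc, hf₀q, ← reassoc_of% h1, ← hag, IsOpenImmersion.lift_fac_assoc,
          Category.assoc]
    · exact (Over.w ((Neron.genericFibre R).map bM)).trans
        (Over.w ((Neron.genericFibre R).map rM ≫ φ.hom)).symm
  have hbi : IsIso ((Neron.genericFibre R).map bM) := by rw [hbM]; infer_instance
  obtain ⟨b', hb', hbp'⟩ := descend hreg₂ hχ hno hR hr X₁.hom hreg₁ hd₁ b₀ hb₀ hbi
  let f : X₁ ⟶ X₂ := Over.homMk b' hbp'
  have hf : (Neron.genericFibre R).map f = φ.hom := by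
    rw [← cancel_epi ((Neron.genericFibre R).map rM), ← Functor.map_comp, ← hbM]
    exact congrArg _ (Over.OverMorphism.ext hb')
  exact ⟨f, hf, fun f' hf' => huniq f' f hf' hf⟩

end Groth.Agent.H26.DedMin
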