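import Groth.Agent.H26.DedMin.AmpleComp
import Groth.Agent.H26.ArtinTriv.GenFib
import Groth.Agent.H26.Adjunction.Degree
import Groth.Agent.H26.DedMin.Loc
import Groth.Agent.H26.DedMin.Global
import Groth.Agent.AlgSpDec.LciLocus
import Groth.Agent.KRegLib.BaseChange
import Groth.Agent.ShStabBC.Spread
import Groth.Agent.H23.Seesaw
import Groth.Agent.S13307
import Groth.Agent.S1641
import Groth.Agent.S7642

/-!
# Counting the components of the closed fibre of a canonical model
-/

noncomputable section

set_option autoImplicit false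
set_option linter.style.haveILetI false
set_option linter.unusedSectionVars false
set_option backward.isDefEq.respectTransparency false
set_option backward.isDefEq.respectTransparency.types false
set_option maxHeartbeats 1600000

universe u

open CategoryTheory CategoryTheory.Limits AlgebraicGeometry TopologicalSpace IsLocalRing
open scoped Groth.Agent.H23.PicMul

namespace Groth.Agent.H26.DedMin

open Groth.Agent Groth.Agent.H23 Groth.Agent.H28

/-- The structure morphism of a scheme with a canonical sheaf is a local complete intersection. -/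
theorem isLCI'_of_isCanonical {X S : Scheme.{u}} [IsLocallyNoetherian S] {f : X ⟶ S} {ω : X.Modules}
    (h : Canon.IsCanonical f ω) : KRegLib.IsLCI' f := by
  obtain ⟨Z, i, g, c, n, hf, hi, hg, hqc, hqs, -⟩ := h
  haveI := hg
  haveI : Smooth g := SmoothOfRelativeDimension.smooth n g
  haveI : IsLocallyNoetherian Z := LocallyOfFiniteType.isLocallyNoetherian g
  rw [← hf]
  refine MorphismProperty.comp_mem _ _ _ ?_ (AlgSpDec.LciLocus.isLCI'_of_smooth g)
  haveI : IsImmersion i := hi.1
  refine (KRegLib.forall_isKoszulAt_iff i).1 fun z => S9773.result i _ (Or.inl rfl) ⟨hi.1, fun z => ?_⟩ z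
  obtain ⟨U, hz, hU, rs, -, hrs, hker⟩ := hi.2 z
  exact ⟨U, hz, hU, rs, hrs, hker⟩

variable {R : Type u} [CommRing R] [IsDomain R] [IsDiscreteValuationRing R]
  (Y : Over (Spec (CommRingCat.of R))) [IsIntegral Y.left] [Flat Y.hom]

/-- The canonical sheaf of the generic fibre is dualizing. -/
theorem exists_dual_generic (hdim : topologicalKrullDim Y.left = 2) (hproj : Neron.IsProjectiveOver R Y)
    (ωY : Y.left.Modules) (hωY : Canon.IsCanonical Y.hom ωY) :
    letI : (pullback Y.hom (Neron.genPt R)).Over (Spec (CommRingCat.of (FractionRing R))) := ⟨pullback.snd _ _⟩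
    ∃ (ω₀ : (pullback Y.hom (Neron.genPt R)).Modules)
      (t : Coh.HH (pullback Y.hom (Neron.genPt R)) ω₀ 1 →ₗ[FractionRing R] FractionRing R),
      PicF.IsInvertible ω₀ ∧ Canon.IsRDualOver (FractionRing R) (pullback Y.hom (Neron.genPt R)) 1 ω₀ t ∧
        Nonempty (ω₀ ≅ (Scheme.Modules.pullback (pullback.fst Y.hom (Neron.genPt R))).obj ωY) := by
  obtain ⟨m, iY, hiY, hcY⟩ := id hproj
  haveI := hiY
  haveI := MultiP1.isProper_toBase (X := Spec (CommRingCat.of R)) m
  haveI : IsProper Y.hom := hcY ▸ inferInstance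
  haveI : IsLocallyNoetherian Y.left := LocallyOfFiniteType.isLocallyNoetherian Y.hom
  let K := FractionRing R
  let C := pullback Y.hom (Neron.genPt R)
  obtain ⟨hCi, hCd⟩ := ArtinTriv.isIntegral_and_dim (X := Y) hdim
  haveI := hCi
  letI : C.Over (Spec (CommRingCat.of K)) := ⟨pullback.snd Y.hom (Neron.genPt R)⟩
  haveI : IsProper (C ↘ Spec (CommRingCat.of K)) := inferInstanceAs (IsProper (pullback.snd Y.hom (Neron.genPt R)))
  haveI : Flat (Neron.genPt R) := inferInstance
  -- an embedding of the generic fibre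
  let res := Neron.genPt R
  let ψ := H28.PnBC.ψ (n := m) res
  let jk : C ⟶ CohB1.ProjSpaceOver m (Spec (CommRingCat.of K)) :=
    pullback.lift (pullback.fst Y.hom res ≫ iY ≫ pullback.fst _ _) (pullback.snd Y.hom res) (specULiftZIsTerminal.hom_ext _ _)
  have h1 : jk ≫ CohB1.ProjSpaceOver.toBase m _ = pullback.snd Y.hom res := pullback.lift_snd _ _ _
  haveI : IsClosedImmersion jk := by
    have h2 : jk ≫ ψ = pullback.fst Y.hom res ≫ iY := by
      refine pullback.hom_ext ?_ ?_
      · rw [Category.assoc, Category.assoc]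
        exact (congrArg (jk ≫ ·) (H28.PnBC.ψ_toPn res)).trans (pullback.lift_fst _ _ _)
      · rw [Category.assoc, Category.assoc]
        refine (congrArg (jk ≫ ·) (H28.PnBC.ψ_pr res)).trans ?_
        show jk ≫ CohB1.ProjSpaceOver.toBase m _ ≫ res = pullback.fst Y.hom res ≫ iY ≫ CohB1.ProjSpaceOver.toBase m _
        rw [← Category.assoc, h1, hcY]
        exact pullback.condition.symm
    have hsq : IsPullback (pullback.fst Y.hom res) jk iY ψ := by
      refine IsPullback.of_bot ?_ h2.symm (SeesawX.PnFibre.isPullback_ψ (n := m) res)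
      rw [hcY, h1]
      exact IsPullback.of_hasPullback Y.hom res
    exact MorphismProperty.of_isPullback (P := @IsClosedImmersion) hsq ‹_›
  obtain ⟨a, ha, -⟩ := SeesawX.PnSpec.exists_iso m K
  haveI := NegVanStalk.noetherian K m
  haveI : Smooth (CohB1.ProjSpace.toSpec m K) := CurveEmbed.smooth_toSpec m K
  have hj : (jk ≫ a.hom) ≫ CohB1.ProjSpace.toSpec m K = C ↘ Spec (CommRingCat.of K) := by
    rw [Category.assoc, ha]
    exact h1
  have hlci : KRegLib.IsLCI' ((jk ≫ a.hom) ≫ CohB1.ProjSpace.toSpec m K) := by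
    rw [hj]
    exact KRegLib.isLCI'_of_isPullback (IsPullback.of_hasPullback Y.hom res) (isLCI'_of_isCanonical hωY)
  obtain ⟨ω₀, t, hω₀i, hd₀, hc₀⟩ := Adjunction.exists_canonical_dual (k := K) hCd (jk ≫ a.hom) hj
    (Adjunction.regClosed_of_lci (jk ≫ a.hom) (CohB1.ProjSpace.toSpec m K) (fun p => NegVanStalk.isRegular_stalk p) hlci)
  obtain ⟨e⟩ := S13307.result Y.left (Spec (CommRingCat.of R)) (Spec (CommRingCat.of K)) Y.hom res
    ⟨m, iY, inferInstance, hcY⟩ (Or.inr inferInstance) ωY hωY ω₀ hc₀
  exact ⟨ω₀, t, hω₀i, hd₀, ⟨e⟩⟩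

/-- The degree of the canonical sheaf on the generic fibre. -/
theorem euler_generic (hdim : topologicalKrullDim Y.left = 2) (hproj : Neron.IsProjectiveOver R Y)
    (ωY : Y.left.Modules) (hωY : Canon.IsCanonical Y.hom ωY) :
    Curv2.euler (FractionRing R) ((Neron.genericFibre R).obj Y).left
        ((Scheme.Modules.pullback (pullback.fst Y.hom (Neron.genPt R))).obj ωY) =
      -Curv2.euler (FractionRing R) ((Neron.genericFibre R).obj Y).left
        (Coh.structureModule ((Neron.genericFibre R).obj Y).left) ∧
    FGA.eulerCharLE (FractionRing R) ((Neron.genericFibre R).obj Y).left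
        (Coh.structureModule ((Neron.genericFibre R).obj Y).left) 1 =
      Curv2.euler (FractionRing R) ((Neron.genericFibre R).obj Y).left
        (Coh.structureModule ((Neron.genericFibre R).obj Y).left) := by
  obtain ⟨m, iY, hiY, hcY⟩ := id hproj
  haveI := hiY
  haveI := MultiP1.isProper_toBase (X := Spec (CommRingCat.of R)) m
  haveI : IsProper Y.hom := hcY ▸ inferInstance
  haveI : IsLocallyNoetherian Y.left := LocallyOfFiniteType.isLocallyNoetherian Y.hom
  let K := FractionRing R
  let C := pullback Y.hom (Neron.genPt R)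
  obtain ⟨hCi, hCd⟩ := ArtinTriv.isIntegral_and_dim (X := Y) hdim
  haveI := hCi
  letI : C.Over (Spec (CommRingCat.of K)) := ⟨pullback.snd Y.hom (Neron.genPt R)⟩
  haveI : IsProper (C ↘ Spec (CommRingCat.of K)) := inferInstanceAs (IsProper (pullback.snd Y.hom (Neron.genPt R)))
  haveI : Flat (Neron.genPt R) := inferInstance
  obtain ⟨ω₀, t, hω₀i, hd₀, ⟨e⟩⟩ := exists_dual_generic Y hdim hproj ωY hωY
  haveI := CurveCohLib.isNoetherian_of_proper (k := K) (X := C)
  refine ⟨?_, ?_⟩
  · have h := CurveDual.euler_structure hCd.le (fun x hx => CurveGor.one_le_depth_of_torsionFree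
      (CurveGor.isTorsionFree_of_isInvertible InvX.isInvertible_structureModule)
      (CurveDual.notMem_gen hCd hx)) hd₀ (CurveDeg.isCoh_of_isInvertible hω₀i)
    show Curv2.euler K C ((Scheme.Modules.pullback (pullback.fst Y.hom (Neron.genPt R))).obj ωY) =
      -Curv2.euler K C (Coh.structureModule C)
    rw [← CurveCohLib.euler_congr (k := K) e, h, neg_neg]
  · show FGA.eulerCharLE K C (Coh.structureModule C) 1 = Curv2.euler K C (Coh.structureModule C)
    rw [CurveRR.euler_eq_h0_sub_h1 _ hCd.le QCoh.isQCoh_structureModule, FGA.eulerCharLE, Finset.sum_range_succ,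
      Finset.sum_range_one]
    simp
    ring

/-- Constancy of the Euler characteristic. -/
theorem euler_generic_eq_closed [IsProper Y.hom] {M : Y.left.Modules} (hM : PicF.IsInvertible M) :
    Curv2.euler (FractionRing R) ((Neron.genericFibre R).obj Y).left
        ((Scheme.Modules.pullback (pullback.fst Y.hom (Neron.genPt R))).obj M) =
      @Curv2.euler (IsLocalRing.ResidueField R) _ (pullback Y.hom (Spec.map (CommRingCat.ofHom (IsLocalRing.residue R))))
        ⟨pullback.snd _ _⟩
        ((Scheme.Modules.pullback (pullback.fst Y.hom (Spec.map (CommRingCat.ofHom (IsLocalRing.residue R))))).obj M) := by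
  let s := Spec.map (CommRingCat.ofHom (IsLocalRing.residue R))
  haveI : IsLocallyNoetherian Y.left := LocallyOfFiniteType.isLocallyNoetherian Y.hom
  letI : (pullback Y.hom s).Over (Spec (CommRingCat.of (IsLocalRing.ResidueField R))) := ⟨pullback.snd _ _⟩
  haveI : IsProper (pullback Y.hom s ↘ Spec (CommRingCat.of (IsLocalRing.ResidueField R))) :=
    inferInstanceAs (IsProper (pullback.snd Y.hom s))
  letI : (pullback Y.hom (Neron.genPt R)).Over (Spec (CommRingCat.of (FractionRing R))) := ⟨pullback.snd _ _⟩
  haveI : IsProper (pullback Y.hom (Neron.genPt R) ↘ Spec (CommRingCat.of (FractionRing R))) :=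
    inferInstanceAs (IsProper (pullback.snd Y.hom (Neron.genPt R)))
  haveI : LocallyOfFinitePresentation Y.hom := inferInstance
  haveI : IsProper (((Neron.genericFibre R).obj Y).left ↘ Spec (CommRingCat.of (FractionRing R))) :=
    inferInstanceAs (IsProper (pullback.snd Y.hom (Neron.genPt R)))
  have hq : Coh.IsQCoh M := (AmpleVan.isCoh_invertible hM).1
  refine (ShStabBC.euler_fieldPoint Y.hom (IsPullback.of_hasPullback Y.hom (Neron.genPt R)) M hq).trans ?_
  refine Eq.trans ?_ (ShStabBC.euler_fieldPoint (K := IsLocalRing.ResidueField R) (Z := pullback Y.hom s) Y.hom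
    (IsPullback.of_hasPullback Y.hom s) M hq).symm
  obtain ⟨u⟩ : Nonempty (CohB1.tensorMod M (CohB1.tensorPow (Coh.structureModule Y.left) 0) ≅ M) :=
    ⟨KFlatLib.tensorUnitIso M⟩
  have key : ∀ x : ↥(Spec (CommRingCat.of R)), FlatG.chiFib Y.hom (Coh.structureModule Y.left) M x 0 =
      @Curv2.euler ((Spec (CommRingCat.of R)).residueField x) _ (Y.hom.fiber x) ⟨Y.hom.fiberToSpecResidueField x⟩
        ((Scheme.Modules.pullback (Y.hom.fiberι x)).obj M) := fun x => by
    letI : (Y.hom.fiber x).Over (Spec (CommRingCat.of ((Spec (CommRingCat.of R)).residueField x))) :=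
      ⟨Y.hom.fiberToSpecResidueField x⟩
    exact CurveCohLib.euler_congr ((Scheme.Modules.pullback (Y.hom.fiberι x)).mapIso u)
  rw [← key, ← key]
  exact ShStabBC.euler_twist_eq_on_flat Y.hom InvX.isInvertible_structureModule hq
    (QCoh.isCoh_iff_isFP.1 (AmpleVan.isCoh_invertible hM))
    (U := ⊤) (fun y _ => Seesaw.isFlatOver_of_isInvertible Y.hom hM y) _ _ trivial trivial 0

theorem isIrreducible_preimage {α β : Type*} [TopologicalSpace α] [TopologicalSpace β] {q : α → β}
    (hq : Topology.IsInducing q) {S : Set β} (hS : IsIrreducible S) (hsub : S ⊆ Set.range q) :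
    IsIrreducible (q ⁻¹' S) := by
  refine ⟨?_, ?_⟩
  · obtain ⟨b, hb⟩ := hS.1
    obtain ⟨a, rfl⟩ := hsub hb
    exact ⟨a, hb⟩
  · intro u v hu hv ⟨a, ha, hau⟩ ⟨b, hb, hbv⟩
    obtain ⟨u', hu', rfl⟩ := hq.isOpen_iff.1 hu
    obtain ⟨v', hv', rfl⟩ := hq.isOpen_iff.1 hv
    obtain ⟨c, hc, hcu, hcv⟩ := hS.2 u' v' hu' hv' ⟨q a, ha, hau⟩ ⟨q b, hb, hbv⟩
    obtain ⟨c', rfl⟩ := hsub hc
    exact ⟨c', hc, hcu, hcv⟩

/-- The number of components is bounded by the degree. -/
theorem card_components_le (hdim : topologicalKrullDim Y.left = 2) (hproj : Neron.IsProjectiveOver R Y)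
    (ωY : Y.left.Modules) (hωY : Canon.IsCanonical Y.hom ωY) (hamp : CohB1.IsAmple ωY) :
    (Set.ncard (Models.fibreComponents R Y) : ℤ) ≤
      -2 * FGA.eulerCharLE (FractionRing R) ((Neron.genericFibre R).obj Y).left
        (Coh.structureModule ((Neron.genericFibre R).obj Y).left) 1 := by
  classical
  obtain ⟨m, iY, hiY, hcY⟩ := id hproj
  haveI := hiY
  haveI := MultiP1.isProper_toBase (X := Spec (CommRingCat.of R)) m
  haveI : IsProper Y.hom := hcY ▸ inferInstance
  haveI : IsLocallyNoetherian Y.left := LocallyOfFiniteType.isLocallyNoetherian Y.hom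
  obtain ⟨hω, hle⟩ := euler_generic Y hdim hproj ωY hωY
  let k := IsLocalRing.ResidueField R
  let s := Spec.map (CommRingCat.ofHom (IsLocalRing.residue R))
  haveI : IsClosedImmersion s := IsClosedImmersion.spec_of_surjective _ IsLocalRing.residue_surjective
  let Ys := pullback Y.hom s
  let q := pullback.fst Y.hom s
  haveI : IsClosedImmersion q := inferInstanceAs (IsClosedImmersion (pullback.fst Y.hom s))
  letI : Ys.Over (Spec (CommRingCat.of k)) := ⟨pullback.snd Y.hom s⟩
  haveI : IsProper (Ys ↘ Spec (CommRingCat.of k)) := inferInstanceAs (IsProper (pullback.snd Y.hom s))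
  haveI : IsNoetherian Ys := CurveCohLib.isNoetherian_of_proper (k := k) (X := Ys)
  have hωi : PicF.IsInvertible ωY := Adjunction.isInvertible_of_isCanonical hωY
  have hLs := PicClLib.isInvertible_pullback q hωi
  have hdeg : Curv2.deg k Ys ((Scheme.Modules.pullback q).obj ωY) 1 =
      -2 * FGA.eulerCharLE (FractionRing R) ((Neron.genericFibre R).obj Y).left
        (Coh.structureModule ((Neron.genericFibre R).obj Y).left) 1 := by
    obtain ⟨o⟩ := PicClLib.nonempty_pullback_structureModule q
    obtain ⟨o'⟩ := PicClLib.nonempty_pullback_structureModule (pullback.fst Y.hom (Neron.genPt R))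
    have h0 := euler_generic_eq_closed Y (InvX.isInvertible_structureModule (X := Y.left))
    have h1 := euler_generic_eq_closed Y hωi
    rw [show Curv2.euler (FractionRing R) ((Neron.genericFibre R).obj Y).left
        ((Scheme.Modules.pullback (pullback.fst Y.hom (Neron.genPt R))).obj (Coh.structureModule Y.left)) =
      Curv2.euler (FractionRing R) ((Neron.genericFibre R).obj Y).left
        (Coh.structureModule ((Neron.genericFibre R).obj Y).left) from CurveCohLib.euler_congr o'] at h0
    rw [show @Curv2.euler k _ Ys ⟨pullback.snd _ _⟩ ((Scheme.Modules.pullback q).obj (Coh.structureModule Y.left)) =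
      Curv2.euler k Ys (Coh.structureModule Ys) from CurveCohLib.euler_congr (k := k) o] at h0
    unfold Curv2.deg
    rw [hle]
    push_cast
    rw [← h0, ← h1, hω]
    ring
  -- the closed fibre
  have hrange : Set.range q = Models.specialFibreSet R Y := by
    have hr : Set.range s = {IsLocalRing.closedPoint R} := by
      have ha : ∀ a, s a = IsLocalRing.closedPoint R := fun a => by
        refine PrimeSpectrum.ext ?_
        show Ideal.comap (IsLocalRing.residue R) a.asIdeal = IsLocalRing.maximalIdeal R
        rw [(Ideal.eq_bot_or_top a.asIdeal).resolve_right a.isPrime.ne_top, ← RingHom.ker_eq_comap_bot,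
          IsLocalRing.ker_residue]
      ext x
      exact ⟨fun ⟨a, ha'⟩ => ha'.symm.trans (ha a), fun hx =>
        ⟨(⟨⊥, Ideal.isPrime_bot⟩ : PrimeSpectrum (IsLocalRing.ResidueField R)), (ha _).trans hx.symm⟩⟩
    show Set.range (pullback.fst Y.hom s) = _
    rw [Scheme.Pullback.range_fst, hr]
    rfl
  obtain ⟨n, Δ, hΔ⟩ := CompList.exists_componentList hdim
  have hind := q.isClosedEmbedding.isInducing
  have himage : ∀ Z ∈ irreducibleComponents (Ys : Type u), q '' Z ∈ Models.fibreComponents R Y := by
    intro Z hZ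
    refine ⟨⟨hZ.1.image q q.continuous.continuousOn, by rw [← hrange]; exact Set.image_subset_range _ _⟩,
      fun S hS hle' => ?_⟩
    have hsub : S ⊆ Set.range q := hrange ▸ hS.2
    have h := hZ.2 (isIrreducible_preimage hind hS.1 hsub) (fun z hz => hle' ⟨z, hz, rfl⟩)
    intro y hy
    obtain ⟨z, rfl⟩ := hsub hy
    exact ⟨z, h hy, rfl⟩
  have hdimZ : ∀ Z ∈ irreducibleComponents (Ys : Type u), topologicalKrullDim Z = 1 := by
    intro Z hZ
    obtain ⟨j, hj⟩ := hΔ.2.symm ▸ himage Z hZ
    rw [← (Δ j).dim_eq]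
    haveI := (Δ j).isClosedImmersion
    exact ((q.isClosedEmbedding.isEmbedding.homeomorphImage Z).trans ((Homeomorph.setCongr hj.symm).trans
      (Δ j).ι.isClosedEmbedding.isEmbedding.toHomeomorph.symm)).isHomeomorph.topologicalKrullDim_eq _
  have hdimYs : topologicalKrullDim Ys ≤ 1 := by
    rw [topologicalKrullDim]
    refine iSup_le fun p => ?_
    obtain ⟨Z, hZ', hpZ⟩ := exists_mem_irreducibleComponents_subset_of_isIrreducible
      ((p.last : IrreducibleCloseds Ys) : Set Ys) (p.last).isIrreducible
    have hZc : IsClosed Z := isClosed_of_mem_irreducibleComponents Z hZ'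
    have hcl : ∀ i, ((p i : IrreducibleCloseds Ys) : Set Ys) ⊆ Z := fun i =>
      Set.Subset.trans (p.monotone (Fin.le_last i)) hpZ
    rw [← hdimZ Z hZ']
    let p' : LTSeries (IrreducibleCloseds Z) := {
      length := p.length
      toFun := fun i => ⟨(Subtype.val : Z → Ys) ⁻¹' (p i : Set Ys),
        isIrreducible_preimage Topology.IsInducing.subtypeVal (p i).isIrreducible
          ((hcl i).trans Subtype.range_coe.ge), (p i).isClosed.preimage continuous_subtype_val⟩
      step := fun i => by
        have h : p i.castSucc < p i.succ := p.step i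
        show @LT.lt (IrreducibleCloseds Z) _ _ _
        refine lt_of_le_of_ne ?_ fun he => h.ne (IrreducibleCloseds.ext ?_)
        · intro z hz
          exact (show ((p i.castSucc : IrreducibleCloseds Ys) : Set Ys) ⊆ (p i.succ : IrreducibleCloseds Ys) from h.le) hz
        have he' := congrArg (fun t : IrreducibleCloseds Z => Subtype.val '' (t : Set Z)) he
        simp only [IrreducibleCloseds.coe_mk, Subtype.image_preimage_coe] at he'
        rwa [Set.inter_eq_right.2 (hcl _), Set.inter_eq_right.2 (hcl _)] at he' }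
    exact Order.LTSeries.length_le_krullDim p'
  have hamps : CohB1.IsAmple ((Scheme.Modules.pullback q).obj ωY) := by
    haveI : CompactSpace Ys := inferInstance
    exact AmpleVan.isAmple_pullback_of_isEmbedding q q.isClosedEmbedding.isEmbedding hamp
  have hpos := (S7642.result k Ys hdimYs _ hLs).1 hamps
  rw [← hdeg, S1641.result k Ys hdimYs 1 _ (InvEnd.isFinLocFreeOfRank_one hLs)]
  haveI : Finite (irreducibleComponents (Ys : Type u)) :=
    (TopologicalSpace.NoetherianSpace.finite_irreducibleComponents (α := Ys)).to_subtype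
  haveI := Fintype.ofFinite (irreducibleComponents (Ys : Type u))
  rw [finsum_eq_sum_of_fintype]
  have hcard : Set.ncard (Models.fibreComponents R Y) ≤ Fintype.card (irreducibleComponents (Ys : Type u)) := by
    rw [← Nat.card_eq_fintype_card, Nat.card_coe_set_eq]
    have hsub : Models.fibreComponents R Y ⊆ (fun Z : Set Ys => q '' Z) '' irreducibleComponents (Ys : Type u) := by
      intro C hC
      have hCr : C ⊆ Set.range q := hrange ▸ hC.1.2
      refine ⟨q ⁻¹' C, ⟨isIrreducible_preimage hind hC.1.1 hCr, fun T hT h => ?_⟩, Set.image_preimage_eq_of_subset hCr⟩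
      have h2 := hC.2 (y := q '' T) ⟨hT.image q q.continuous.continuousOn, hrange ▸ Set.image_subset_range _ _⟩
        (by rw [← Set.image_preimage_eq_of_subset hCr]; exact Set.image_mono h)
      exact fun t ht => h2 ⟨t, ht, rfl⟩
    exact (Set.ncard_le_ncard hsub ((Set.toFinite _).image _)).trans
      (Set.ncard_image_le (Set.toFinite _))
  calc (Set.ncard (Models.fibreComponents R Y) : ℤ) ≤ (Fintype.card (irreducibleComponents (Ys : Type u)) : ℤ) := by
        exact_mod_cast hcard
    _ = ∑ Z : irreducibleComponents (Ys : Type u), (1 : ℤ) := by simp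
    _ ≤ _ := Finset.sum_le_sum fun Z _ => by
      rw [if_pos (hdimZ Z.1 Z.2)]
      set ξ := Z.2.1.genericPoint
      haveI : Subsingleton (PrimeSpectrum (Ys.presheaf.stalk ξ)) := ⟨fun a b => by
        refine (Ys.fromSpecStalk ξ).isEmbedding.injective ?_
        have hmem : ∀ c, Ys.fromSpecStalk ξ c = ξ := fun c => by
          have hc : Ys.fromSpecStalk ξ c ⤳ ξ := by
            have : Ys.fromSpecStalk ξ c ∈ Set.range (Ys.fromSpecStalk ξ) := ⟨c, rfl⟩
            rwa [Scheme.range_fromSpecStalk] at this
          have hZ' : Z.1 ⊆ closure {Ys.fromSpecStalk ξ c} := by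
            refine Set.Subset.trans (fun z hz => ?_) hc.closure_subset
            have hg := Z.2.1.isGenericPoint_genericPoint (isClosed_of_mem_irreducibleComponents _ Z.2)
            exact hg.def.ge hz
          have hsub := Z.2.2 (isIrreducible_singleton.closure) hZ'
          have hg := Z.2.1.isGenericPoint_genericPoint (isClosed_of_mem_irreducibleComponents _ Z.2)
          exact (hc.antisymm (hg.specializes (hsub (subset_closure rfl)))).eq
        rw [hmem a, hmem b]⟩
      haveI : Ring.KrullDimLE 0 (Ys.presheaf.stalk ξ) :=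
        Ring.krullDimLE_iff.2 (Order.krullDim_nonpos_of_subsingleton)
      haveI : IsArtinianRing (Ys.presheaf.stalk ξ) := isArtinianRing_iff_isNoetherianRing_krullDimLE_zero.2 ⟨inferInstance, inferInstance⟩
      have hfin : Module.length (Ys.presheaf.stalk ξ) (Ys.presheaf.stalk ξ) ≠ ⊤ := Module.length_ne_top
      have hne : Module.length (Ys.presheaf.stalk ξ) (Ys.presheaf.stalk ξ) ≠ 0 := Module.length_pos.ne'
      have h1 : 1 ≤ (Module.length (Ys.presheaf.stalk ξ) (Ys.presheaf.stalk ξ)).toNat :=
        Nat.one_le_iff_ne_zero.2 fun h => (ENat.toNat_eq_zero.1 h).elim hne hfin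
      have h2 := hpos Z.1 Z.2 (hdimZ Z.1 Z.2)
      exact one_le_mul_of_one_le_of_one_le (by exact_mod_cast h1) h2

end Groth.Agent.H26.DedMin
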