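import Groth.Agent.H26.DedMin.CanAuto
import Groth.Agent.H26.ArSurfProper
import Groth.Agent.H26.DedMin.VertOpen
import Groth.Agent.H26.DedMin.Proj
import Groth.Agent.H26.Adjunction.PicTriv
import Groth.Agent.H26.VertClass
import Groth.Agent.H26.CompList
import Groth.Agent.H26.Contract
import Groth.Agent.FibrePP.Push

/-!
# The canonical sheaf along a contraction
-/

noncomputable section

set_option autoImplicit false
set_option linter.style.haveILetI false
set_option linter.unusedSectionVars false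
set_option backward.isDefEq.respectTransparency false
set_option backward.isDefEq.respectTransparency.types false
set_option maxHeartbeats 1600000

universe u

open CategoryTheory CategoryTheory.Limits AlgebraicGeometry TopologicalSpace IsLocalRing
open scoped Groth.Agent.H23.PicMul

namespace Groth.Agent.H26.DedMin

open Groth.Agent Groth.Agent.H23 Groth.Agent.H28

/-- The structure sheaf is canonical for an open immersion. -/
theorem isCanonical_of_isOpenImmersion {X Y : Scheme.{u}} (τ : X ⟶ Y) [IsOpenImmersion τ] :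
    Canon.IsCanonical τ (Coh.structureModule X) := by
  refine ⟨X, 𝟙 X, τ, 0, 0, Category.id_comp _, isRegularImmersion_id X, inferInstance, inferInstance, inferInstance,
    Coh.structureModule X, Coh.structureModule X, H28.KvbLam.isExtPow_zero _, H28.KvbLam.isExtPow_zero _, ?_⟩
  refine PicMul.cl_eq_iff.1 ?_
  rw [PicMul.cl_tensor, ← PicMul.one_def, one_mul]
  exact (map_one (PicMul.pullHom (𝟙 X))).symm

/-- An immersion is, over its target, an immersion into a projective line. -/
theorem exists_immersion_P1' {X Y : Scheme.{u}} (f : X ⟶ Y) [IsImmersion f] :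
    ∃ (m : ℕ) (j : X ⟶ CohB1.ProjSpaceOver m Y), IsImmersion j ∧ j ≫ CohB1.ProjSpaceOver.toBase m Y = f := by
  have hj : (f ≫ P1.sect Y 0) ≫ CohB1.ProjSpaceOver.toBase 1 Y = f := by
    rw [Category.assoc, P1Sect.sect_toBase, Category.comp_id]
  haveI : IsImmersion ((f ≫ P1.sect Y 0) ≫ CohB1.ProjSpaceOver.toBase 1 Y) := by rw [hj]; infer_instance
  exact ⟨1, f ≫ P1.sect Y 0, IsImmersion.of_comp _ (CohB1.ProjSpaceOver.toBase 1 Y), hj⟩

variable {R : Type u} [CommRing R] [IsDomain R] [IsDiscreteValuationRing R]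
  {X : Over (Spec (CommRingCat.of R))} (hX : ArSurf.IsArithSurface R X)
  {Y : Over (Spec (CommRingCat.of R))} [IsLocallyNoetherian Y.left]

include hX in
/-- The canonical sheaves agree on an open on which the map is an open immersion. -/
theorem canonical_restrict (f : X ⟶ Y) (hYpr : Neron.IsProjectiveOver R Y) (U : X.left.Opens)
    (hU : Nonempty (U : Scheme.{u})) [IsOpenImmersion (U.ι ≫ f.left)]
    (ωX : X.left.Modules) (hωX : Canon.IsCanonical X.hom ωX)
    (ωY : Y.left.Modules) (hωY : Canon.IsCanonical Y.hom ωY) :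
    Nonempty ((Scheme.Modules.pullback U.ι).obj ωX ≅
      (Scheme.Modules.pullback (U.ι ≫ f.left)).obj ωY) := by
  obtain ⟨hreg, hint, hdim, hflat, N, iX, hiX, hc⟩ := id hX
  haveI := hint
  haveI := hiX
  haveI := H23.MultiP1.isProper_toBase (X := Spec (CommRingCat.of R)) N
  haveI : IsProper X.hom := hc ▸ inferInstance
  haveI : IsLocallyNoetherian X.left := LocallyOfFiniteType.isLocallyNoetherian X.hom
  obtain ⟨m, iY, hiY, hcY⟩ := hYpr
  haveI := hiY
  haveI : IsIntegral (U : Scheme.{u}) := isIntegral_of_isOpenImmersion U.ι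
  let P := CohB1.ProjSpaceOver N (Spec (CommRingCat.of R))
  haveI : IsLocallyNoetherian P := LocallyOfFiniteType.isLocallyNoetherian (CohB1.ProjSpaceOver.toBase N _)
  let W : P.Opens := ⟨(iX '' (U : Set X.left)ᶜ)ᶜ,
    (iX.isClosedEmbedding.isClosedMap _ U.2.isClosed_compl).isOpen_compl⟩
  have hW : iX ⁻¹ᵁ W = U := SetLike.coe_injective (Set.ext fun x =>
    ⟨fun h => by_contra fun hx => (show ¬ iX x ∈ iX '' (U : Set X.left)ᶜ from h) ⟨x, hx, rfl⟩,
      fun hx => show ¬ iX x ∈ iX '' (U : Set X.left)ᶜ from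
        fun ⟨x', hx', e⟩ => hx' (iX.isClosedEmbedding.injective e ▸ hx)⟩)
  have hle : Set.range (U.ι ≫ iX) ⊆ Set.range W.ι := by
    rw [Scheme.Opens.range_ι]
    rintro _ ⟨u, rfl⟩
    exact hW.ge u.2
  let i : (U : Scheme.{u}) ⟶ W := IsOpenImmersion.lift W.ι (U.ι ≫ iX) hle
  have hi : i ≫ W.ι = U.ι ≫ iX := IsOpenImmersion.lift_fac _ _ _
  haveI : IsImmersion (i ≫ W.ι) := hi ▸ inferInstance
  haveI : IsImmersion i := IsImmersion.of_comp i W.ι
  haveI : IsClosedImmersion i := IsClosedImmersion.of_isPreimmersion i (by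
    have hr : Set.range i = W.ι ⁻¹' Set.range iX := by
      ext w
      refine ⟨?_, ?_⟩
      · rintro ⟨u, rfl⟩
        exact ⟨U.ι u, by rw [← Scheme.Hom.comp_apply, ← hi]; rfl⟩
      · rintro ⟨x, hx⟩
        have hxU : x ∈ U := hW.le (show iX x ∈ W by rw [hx]; exact w.2)
        refine ⟨⟨x, hxU⟩, W.ι.isOpenEmbedding.injective ?_⟩
        rw [← Scheme.Hom.comp_apply, hi, Scheme.Hom.comp_apply]
        exact hx
    rw [hr]
    exact iX.isClosedEmbedding.isClosed_range.preimage W.ι.continuous)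
  let g : (W : Scheme.{u}) ⟶ Spec (CommRingCat.of R) := W.ι ≫ CohB1.ProjSpaceOver.toBase N _
  haveI : SmoothOfRelativeDimension 0 W.ι := inferInstance
  haveI hgs : SmoothOfRelativeDimension N g := Nat.zero_add N ▸ inferInstance
  have hig : i ≫ g = U.ι ≫ X.hom := by rw [reassoc_of% hi, hc]
  have hregW : ∀ w : (W : Scheme.{u}), IsRegularLocalRing ↑((W : Scheme.{u}).presheaf.stalk w) := fun w => by
    haveI := Adjunction.regular_projSpaceOver R N (W.ι w)
    exact IsRegularLocalRing.of_ringEquiv (asIso (W.ι.stalkMap w)).commRingCatIsoToRingEquiv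
  obtain ⟨ω₃, -, hω₃⟩ := Adjunction.exists_isCanonical (U.ι ≫ X.hom) i g N
    (Adjunction.regClosed_of_lci i g hregW (by
      rw [hig]
      exact Adjunction.isLCI'_of_regular _ (fun u => by
        haveI := hreg (U.ι u)
        exact IsRegularLocalRing.of_ringEquiv (asIso (U.ι.stalkMap u)).commRingCatIsoToRingEquiv)
        (Adjunction.regular_spec R))) hig
  obtain ⟨e₁⟩ := S13306.result _ X.left _ U.ι X.hom (exists_immersion_P1' U.ι)
    ⟨N, iX, inferInstance, hc⟩ _ ωX ω₃ (isCanonical_of_isOpenImmersion U.ι) hωX hω₃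
  have hw : (U.ι ≫ f.left) ≫ Y.hom = U.ι ≫ X.hom := by rw [Category.assoc, Over.w f]
  obtain ⟨e₂⟩ := S13306.result _ Y.left _ (U.ι ≫ f.left) Y.hom (exists_immersion_P1' _)
    ⟨m, iY, inferInstance, hcY⟩ _ ωY ω₃ (isCanonical_of_isOpenImmersion _) hωY (hw.symm ▸ hω₃)
  refine PicMul.cl_eq_iff.1 ?_
  have h1 := PicMul.cl_eq_iff.2 (Nonempty.intro e₁)
  have h2 := PicMul.cl_eq_iff.2 (Nonempty.intro e₂)
  rw [PicMul.cl_tensor, ← PicMul.one_def, one_mul] at h1 h2
  exact h1.symm.trans h2

include hX in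
/-- An invertible module trivial off negative definite curves and of degree zero on them is trivial. -/
theorem cl_eq_one_of_off {r : ℕ} (Γ : Fin r → ArSurf.VertComp R X)
    (hΓ : Function.Injective fun i => Set.range ((Γ i).ι.base : (Γ i).curve.left → X.left))
    (L : Fin r → X.left.Modules) (hL : ∀ j, ClSub.IsInverseOf (L j) (ClSub.idealMod (Γ j).ι.ker))
    (hneg : ∀ c : Fin r → ℤ, c ≠ 0 →
      (Finset.univ : Finset (Fin r × Fin r)).sum (fun p => c p.1 * c p.2 * ArSurf.inter R X (L p.2) (Γ p.1)) < 0)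
    (U : X.left.Opens) (hU : ∀ x, x ∈ U ↔ x ∉ ⋃ i, Set.range (Γ i).ι.base)
    {M : X.left.Modules} (hM : PicF.IsInvertible M)
    (hMU : Nonempty ((Scheme.Modules.pullback U.ι).obj M ≅ Coh.structureModule U.toScheme))
    (hM0 : ∀ i, ArSurf.inter R X M (Γ i) = 0) : PicF.cl M = 1 := by
  classical
  obtain ⟨hreg, hint, hdim, hflat, -⟩ := id hX
  haveI := hint; haveI := hflat
  haveI : IsProper X.hom := H26.isProper_of_isArithSurface hX
  obtain ⟨n, Γc, hΓc⟩ := CompList.exists_componentList hdim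
  obtain ⟨ϖ, hirr⟩ := IsDiscreteValuationRing.exists_irreducible R
  have hϖ := hirr.maximalIdeal_eq
  have heff := (FibreIdeal.result X Γc hΓc hreg).1
  choose L₀ hLi hL₀ using fun j => PicInv.exists_inverse (IdealCl.isInvertible_idealMod (heff j))
  have hLc : ∀ j, ClSub.IsInverseOf (L₀ j) (ClSub.idealMod (Γc j).ι.ker) := fun j => by
    refine PicMul.cl_eq_iff.1 ?_
    rw [PicMul.cl_tensor, mul_comm, ← PicMul.cl_tensor]
    exact PicMul.cl_eq_iff.2 (hL₀ j)
  let D : VertClass.Data X Γc := ⟨L₀, hΓc, hflat, inferInstance, hreg, hLc⟩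
  choose π hπ using fun k => InterForm.exists_same_range hΓc (Γ k)
  have hgU : VertDiv.genOpen X ϖ ≤ U := fun x hx => (hU x).2 fun h => by
    obtain ⟨k, hk⟩ := Set.mem_iUnion.1 h
    rw [hπ k] at hk
    exact (VertDiv.mem_genOpen_iff X hϖ x).1 hx
      ((show Set.range (Γc (π k)).ι.base ∈ Models.fibreComponents R X from hΓc.2 ▸ ⟨_, rfl⟩).1.2 hk)
  obtain ⟨e, he⟩ := Adjunction.exists_frame_of_restrict
    ((Scheme.Modules.restrictFunctorIsoPullback U.ι).app M ≪≫ hMU.some)
  obtain ⟨a, N, ha, haU⟩ := VertDiv.exists_exponents_open X Γc hΓc hreg hirr hM hgU he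
  -- the class
  let z : Fin n → ℤ := fun j => (a j : ℤ) - N * D.m j
  have hPa : ((D.P fun j => (a j : ℤ)) : PicF.Cl X.left) = PicF.cl M := by
    have h2 : ((D.P fun i => (a i : ℤ))⁻¹ : (PicF.Cl X.left)ˣ).val =
        ∏ i, PicF.cl (ClSub.idealMod (Γc i).ι.ker) ^ a i := by
      simp only [VertClass.Data.P, zpow_natCast, ← Finset.prod_inv_distrib, Units.coe_prod, ← inv_pow,
        Units.val_pow_eq_pow_val]
      rfl
    rw [← h2] at ha
    calc ((D.P fun i => (a i : ℤ)) : PicF.Cl X.left) =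
        (PicF.cl M * ((D.P fun i => (a i : ℤ))⁻¹ : (PicF.Cl X.left)ˣ).val) * (D.P fun i => (a i : ℤ)) := by
          rw [ha, one_mul]
      _ = _ := by rw [mul_assoc, Units.inv_mul, mul_one]
  have hPz : PicF.cl M = ((D.P z) : PicF.Cl X.left) := by
    rw [D.P_eq_of_shift (N := (N : ℤ)) (a := a) (fun j => by simp [z]), ← D.P_natCast, hPa]
  have hπi : Function.Injective π := fun k l h => hΓ (by
    show Set.range (Γ k).ι.base = Set.range (Γ l).ι.base
    rw [hπ k, hπ l, h])
  have hz : ∀ j, j ∉ Finset.univ.image π → z j = 0 := fun j hj => by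
    have hjU : Models.genPtOf R X (Γc j) ∈ U := (hU _).2 fun h => by
      obtain ⟨k, hk⟩ := Set.mem_iUnion.1 h
      have hsub : Set.range (Γc j).ι.base ⊆ Set.range (Γc (π k)).ι.base := by
        rw [FibreIdeal.range_eq_closure X Γc hΓc j]
        exact closure_minimal (Set.singleton_subset_iff.2 (hπ k ▸ hk)) (Γc _).ι.isClosedEmbedding.isClosed_range
      have he : Set.range (Γc j).ι.base = Set.range (Γc (π k)).ι.base := Set.Subset.antisymm hsub
        ((show Set.range (Γc j).ι.base ∈ Models.fibreComponents R X from hΓc.2 ▸ ⟨_, rfl⟩).2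
          (show Set.range (Γc (π k)).ι.base ∈ Models.fibreComponents R X from hΓc.2 ▸ ⟨_, rfl⟩).1 hsub)
      exact hj (Finset.mem_image.2 ⟨k, Finset.mem_univ _, (hΓc.1 he).symm⟩)
    simp only [z, haU j hjU, VertClass.Data.m]
    push_cast
    ring
  have hLcl : ∀ k, PicF.cl (L k) = PicF.cl (L₀ (π k)) := fun k => by
    have h1 : PicF.cl (L k) * PicF.cl (ClSub.idealMod (Γ k).ι.ker) = 1 := by
      rw [← PicMul.cl_tensor]; exact PicMul.cl_eq_iff.2 (hL k)
    have h2 : PicF.cl (L₀ (π k)) * PicF.cl (ClSub.idealMod (Γ k).ι.ker) = 1 := by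
      rw [← PicMul.cl_tensor, InterForm.ker_eq_of_range (hπ k)]; exact PicMul.cl_eq_iff.2 (hLc _)
    exact left_inv_eq_right_inv h1 (by rw [mul_comm]; exact h2)
  have hsum : ∀ k, ∑ l, z (π l) * ArSurf.inter R X (L l) (Γ k) = 0 := fun k => by
    have hMc : ArSurf.inter R X M (Γc (π k)) = ArSurf.inter R X M (Γ k) := by
      have h : PicF.cl M = PicF.cl (FGA.multiTwist L₀ a) := hPa.symm.trans (D.P_natCast a)
      rw [ArInter.inter_congr _ hM h, ArInter.inter_congr _ hM h, ArInter.inter_multiTwist _ hLi,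
        ArInter.inter_multiTwist _ hLi]
      exact Finset.sum_congr rfl fun j _ => by rw [InterForm.inter_eq_of_range hΓc L₀ hLc hreg (Γ k) (π k) (hπ k) j]
    have h0 := D.inter_eq hM hPz (π k)
    rw [hMc, hM0, ← Finset.sum_subset (Finset.subset_univ (Finset.univ.image π))
      (fun j _ hj => by rw [hz j hj, zero_mul]), Finset.sum_image fun x _ y _ h => hπi h] at h0
    refine Eq.trans (Finset.sum_congr rfl fun l _ => ?_) h0.symm
    rw [ArInter.inter_congr _ (ArInter.isInvertible_of_inverse (IdealCl.isInvertible_idealMod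
      (InterForm.ker_eq_of_range (hπ l) ▸ heff (π l))) (hL l)) (hLcl l),
      InterForm.inter_eq_of_range hΓc L₀ hLc hreg (Γ k) (π k) (hπ k) (π l)]
  have hc0 : (fun k => z (π k)) = 0 := by
    by_contra hne
    refine (hneg _ hne).ne ?_
    rw [Fintype.sum_prod_type]
    refine Finset.sum_eq_zero fun k _ => ?_
    rw [Finset.sum_congr rfl fun l _ => mul_assoc (z (π k)) (z (π l)) _, ← Finset.mul_sum, hsum k, mul_zero]
  have hz0 : z = 0 := funext fun j => by
    by_cases hj : j ∈ Finset.univ.image π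
    · obtain ⟨k, -, rfl⟩ := Finset.mem_image.1 hj
      exact congrFun hc0 k
    · exact hz j hj
  rw [hPz, hz0, D.P_zero, Units.val_one]

include hX in
/-- A pullback has degree zero on a contracted curve. -/
theorem inter_pullback_eq_zero (f : X ⟶ Y) (E : ArSurf.VertComp R X) (y : Y.left)
    (hE : Set.range ((E.ι ≫ f.left).base : E.curve.left → Y.left) = {y})
    {M : Y.left.Modules} (hM : PicF.IsInvertible M) :
    ArSurf.inter R X ((Scheme.Modules.pullback f.left).obj M) E = 0 := by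
  haveI := H26.isProper_of_isArithSurface hX
  obtain ⟨U, hy, e, he⟩ := InvX.exists_frame hM y
  have htop : (E.ι ≫ f.left) ⁻¹ᵁ U = ⊤ := SetLike.coe_injective (Set.eq_univ_of_forall fun c => by
    have h : (E.ι ≫ f.left) c ∈ ({y} : Set Y.left) := hE ▸ ⟨c, rfl⟩
    show (E.ι ≫ f.left) c ∈ U
    rw [Set.mem_singleton_iff.1 h]
    exact hy)
  obtain ⟨e2⟩ := VertDiv.nonempty_iso_of_frame_top
    (((InvX.isFrame_pullElt (E.ι ≫ f.left) he).res (le_of_eq htop.symm)))
  haveI := ArInter.isProper_curve E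
  unfold ArSurf.inter
  rw [ArInter.curveDeg_eq E (PicClLib.isInvertible_pullback E.ι (PicClLib.isInvertible_pullback f.left hM)),
    CurveRR.deg_congr _ (show (Scheme.Modules.pullback E.ι).obj ((Scheme.Modules.pullback f.left).obj M) ≅ _ from
      (Scheme.Modules.pullbackComp E.ι f.left).app M ≪≫ e2)]
  simp [Curv2.deg]

include hX in
theorem canonical_pullback_eq {r : ℕ} (Γ : Fin r → ArSurf.VertComp R X)
    (hΓ : Function.Injective fun i => Set.range ((Γ i).ι.base : (Γ i).curve.left → X.left))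
    (L : Fin r → X.left.Modules) (hL : ∀ j, ClSub.IsInverseOf (L j) (ClSub.idealMod (Γ j).ι.ker))
    (hneg : ∀ c : Fin r → ℤ, c ≠ 0 →
      (Finset.univ : Finset (Fin r × Fin r)).sum (fun p => c p.1 * c p.2 * ArSurf.inter R X (L p.2) (Γ p.1)) < 0)
    (ωX : X.left.Modules) (hωX : Canon.IsCanonical X.hom ωX) (hK : ∀ i, ArSurf.inter R X ωX (Γ i) = 0)
    (f : X ⟶ Y) [IsIntegral Y.left] (hYnor : ∀ q : Y.left, IsIntegrallyClosed (Y.left.presheaf.stalk q))
    (hYpr : Neron.IsProjectiveOver R Y)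
    (hfpt : ∀ i, ∃ y : Y.left, Set.range (((Γ i).ι ≫ f.left).base : (Γ i).curve.left → Y.left) = {y})
    (hfpre : f.left.base ⁻¹' (f.left.base '' ⋃ i, Set.range (Γ i).ι.base) = ⋃ i, Set.range (Γ i).ι.base)
    (hfiso : ∀ V : Y.left.Opens, (V : Set Y.left) ∩ f.left.base '' (⋃ i, Set.range (Γ i).ι.base) = ∅ →
      IsIso (f.left ∣_ V))
    (ωY : Y.left.Modules) (hωY : Canon.IsCanonical Y.hom ωY) :
    PicMul.pullHom f.left (PicF.cl ωY) = PicF.cl ωX ∧ ∀ W : Y.left.Opens, Function.Bijective (f.left.app W) := by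
  classical
  obtain ⟨hreg, hint, hdim, hflat, -⟩ := id hX
  haveI := hint; haveI := hflat
  haveI : IsProper X.hom := H26.isProper_of_isArithSurface hX
  obtain ⟨m, iY, hiY, hcY⟩ := id hYpr
  haveI := hiY
  haveI := H23.MultiP1.isProper_toBase (X := Spec (CommRingCat.of R)) m
  haveI : IsProper Y.hom := hcY ▸ inferInstance
  haveI : IsProper (f.left ≫ Y.hom) := by rw [Over.w f]; infer_instance
  haveI : IsProper f.left := IsProper.of_comp f.left Y.hom
  let B : Set Y.left := f.left.base '' ⋃ i, Set.range (Γ i).ι.base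
  let V : Y.left.Opens := ⟨Bᶜ, (f.left.isClosedMap _ (isClosed_iUnion_of_finite fun k =>
    (Γ k).ι.isClosedEmbedding.isClosed_range)).isOpen_compl⟩
  haveI := hfiso V (Set.compl_inter_self _)
  let U := f.left ⁻¹ᵁ V
  have hU : ∀ x, x ∈ U ↔ x ∉ ⋃ i, Set.range (Γ i).ι.base := fun x =>
    not_congr (Set.ext_iff.1 hfpre x)
  have hgen : genericPoint X.left ∈ U := (hU _).2 fun h => by
    obtain ⟨k, c, hc⟩ := Set.mem_iUnion.1 h
    have h1 : X.hom (genericPoint X.left) = IsLocalRing.closedPoint R := by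
      rw [← hc, ← Scheme.Hom.comp_apply, (Γ k).w, Scheme.Hom.comp_apply]
      exact PrimeSpectrum.ext ((congrArg (Ideal.comap (IsLocalRing.residue R))
        ((Ideal.eq_bot_or_top _).resolve_right
          ((Γ k).curve.hom c : PrimeSpectrum (IsLocalRing.ResidueField R)).isPrime.ne_top)).trans IsLocalRing.ker_residue)
    rw [apply_generic_base X, genericPoint_eq_bot_of_affine (CommRingCat.of R)] at h1
    exact IsDiscreteValuationRing.not_a_field R (congrArg PrimeSpectrum.asIdeal h1).symm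
  have hVne : (V : Set Y.left).Nonempty := ⟨_, hgen⟩
  refine ⟨?_, H26.Contract.bijective_app f.left hVne fun q => ⟨inferInstance, hYnor q⟩⟩
  haveI : IsOpenImmersion (U.ι ≫ f.left) := by
    rw [← morphismRestrict_ι]
    infer_instance
  obtain ⟨e⟩ := canonical_restrict hX f hYpr U ⟨⟨_, hgen⟩⟩ ωX hωX ωY hωY
  have hωXi : PicF.IsInvertible ωX := Adjunction.isInvertible_of_isCanonical hωX
  have hωYi : PicF.IsInvertible ωY := Adjunction.isInvertible_of_isCanonical hωY
  obtain ⟨J, hJ, hωJ⟩ := PicInv.exists_inverse hωXi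
  have hone := PicMul.cl_eq_iff.2 hωJ
  rw [PicMul.cl_tensor, ← PicMul.one_def] at hone
  have hPi := PicClLib.isInvertible_pullback f.left hωYi
  have hM : PicF.IsInvertible (CohB1.tensorMod J ((Scheme.Modules.pullback f.left).obj ωY)) :=
    PicMul.isInvertible_tensor hJ hPi
  have hMU : Nonempty ((Scheme.Modules.pullback U.ι).obj (CohB1.tensorMod J ((Scheme.Modules.pullback f.left).obj ωY))
      ≅ Coh.structureModule U.toScheme) := by
    refine PicMul.cl_eq_iff.1 ?_
    show PicMul.pullHom U.ι (PicF.cl _) = _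
    rw [PicMul.cl_tensor, map_mul, ← PicMul.one_def]
    have h : PicMul.pullHom U.ι (PicF.cl ((Scheme.Modules.pullback f.left).obj ωY)) = PicMul.pullHom U.ι (PicF.cl ωX) :=
      PicMul.cl_eq_iff.2 ⟨(Scheme.Modules.pullbackComp U.ι f.left).app ωY ≪≫ e.symm⟩
    rw [h, ← map_mul, mul_comm, hone, map_one]
  have hM0 : ∀ i, ArSurf.inter R X (CohB1.tensorMod J ((Scheme.Modules.pullback f.left).obj ωY)) (Γ i) = 0 := by
    intro i
    obtain ⟨y, hy⟩ := hfpt i
    have h1 : ArSurf.inter R X ωX (Γ i) + ArSurf.inter R X J (Γ i) = 0 := by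
      rw [← ArInter.inter_tensor _ hωXi hJ, ← ArInter.inter_structure (X := X) (Γ i)]
      exact Pic13Lib.NumTriv.curveDeg_congr _ _ ((Scheme.Modules.pullback (Γ i).ι).mapIso hωJ.some)
    rw [hK i, zero_add] at h1
    rw [ArInter.inter_tensor _ hJ hPi, h1, inter_pullback_eq_zero hX f (Γ i) y hy hωYi, add_zero]
  have h := cl_eq_one_of_off hX Γ hΓ L hL hneg U hU hM hMU hM0
  rw [PicMul.cl_tensor] at h
  show PicF.cl ((Scheme.Modules.pullback f.left).obj ωY) = _
  rw [← one_mul (PicF.cl ((Scheme.Modules.pullback f.left).obj ωY)), ← hone, mul_assoc, h, mul_one]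

end Groth.Agent.H26.DedMin
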