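import Groth.Agent.H26.Adjunction.Isolated

/-!
# Ranks of cohomology of proper schemes over fields are invariant under extension of the field
-/

noncomputable section

set_option autoImplicit false
set_option linter.style.haveILetI false
set_option linter.unusedSectionVars false
set_option backward.isDefEq.respectTransparency false
set_option backward.isDefEq.respectTransparency.types false
set_option maxHeartbeats 1000000

universe u

open CategoryTheory CategoryTheory.Limits AlgebraicGeometry TopologicalSpace
open scoped TensorProduct

namespace Groth.Agent.H26.DedMin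

open Groth.Agent Groth.Agent.H28

/-- Cohomological ranks of the structure sheaf are invariant under base change of fields. -/
theorem hRank_baseChange (K L : Type u) [Field K] [Field L] [Algebra K L] {C C' : Scheme.{u}}
    (f : C ⟶ Spec (CommRingCat.of K)) [IsProper f] (f' : C' ⟶ Spec (CommRingCat.of L)) (g : C' ⟶ C)
    (h : IsPullback g f' f (Spec.map (CommRingCat.ofHom (algebraMap K L)))) (i : ℕ) :
    Models.hRank L C' f' (Coh.structureModule C') i = Models.hRank K C f (Coh.structureModule C) i := by
  letI : C.Over (Spec (CommRingCat.of K)) := ⟨f⟩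
  letI : C'.Over (Spec (CommRingCat.of L)) := ⟨f'⟩
  haveI : CompactSpace C := QuasiCompact.compactSpace_of_compactSpace f
  haveI : QuasiSeparatedSpace C := quasiSeparatedSpace_of_quasiSeparated f
  obtain ⟨e⟩ := QCoh.HH_flatBaseChange (A := K) (B := L) h (QCoh.isQCoh_structureModule (X := C)) i
  obtain ⟨o⟩ := PicClLib.nonempty_pullback_structureModule g
  show Module.finrank L (Coh.HH C' (Coh.structureModule C') i) = Module.finrank K (Coh.HH C (Coh.structureModule C) i)
  refine ((NormalLib.hhIso (A := L) o i).finrank_eq).symm.trans (e.finrank_eq.symm.trans ?_)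
  exact (TensorProduct.isBaseChange K (Coh.HH C (Coh.structureModule C) i) L).finrank_eq

/-- Isomorphic schemes over a field have the same cohomological ranks. -/
theorem hRank_iso (K : Type u) [Field K] {C C' : Scheme.{u}} (f : C ⟶ Spec (CommRingCat.of K)) [IsProper f]
    (f' : C' ⟶ Spec (CommRingCat.of K)) (e : C' ≅ C) (h : e.hom ≫ f = f') (i : ℕ) :
    Models.hRank K C' f' (Coh.structureModule C') i = Models.hRank K C f (Coh.structureModule C) i := by
  refine hRank_baseChange K K f f' e.hom ?_ i
  rw [Algebra.algebraMap_self, CommRingCat.ofHom_id, Spec.map_id]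
  exact IsPullback.of_horiz_isIso ⟨by rw [Category.comp_id]; exact h⟩

/-- The Euler characteristic in degrees at most one as a difference of ranks. -/
theorem eulerCharLE_eq (K : Type u) [Field K] (C : Scheme.{u}) (f : C ⟶ Spec (CommRingCat.of K)) :
    letI : C.Over (Spec (CommRingCat.of K)) := ⟨f⟩
    FGA.eulerCharLE K C (Coh.structureModule C) 1 = (Models.hRank K C f (Coh.structureModule C) 0 : ℤ) -
      (Models.hRank K C f (Coh.structureModule C) 1 : ℤ) := by
  simp only [FGA.eulerCharLE, Finset.sum_range_succ, Finset.sum_range_zero]
  simp only [zero_add, pow_zero, one_mul, pow_one, neg_mul, ← sub_eq_add_neg]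
  rfl

end Groth.Agent.H26.DedMin
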