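import Groth.Agent.H26.DedMin.Disjoint
import Groth.Agent.H26.DedMin.Rank

/-!
# Over a model without exceptional curves every exceptional curve is contracted (Euler characteristic form)
-/

noncomputable section

set_option autoImplicit false
set_option linter.style.haveILetI false
set_option linter.unusedSectionVars false
set_option backward.isDefEq.respectTransparency false
set_option backward.isDefEq.respectTransparency.types false
set_option maxHeartbeats 1000000

universe u

open CategoryTheory CategoryTheory.Limits AlgebraicGeometry TopologicalSpace IsLocalRing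

namespace Groth.Agent.H26.DedMin

open Groth.Agent Groth.Agent.MinModel
open Groth.Agent.MinModel (Model exists_vertComp)

variable {R : Type u} [CommRing R] [IsDomain R] [IsDiscreteValuationRing R]
  {C : Scheme.{u}} {f : C ⟶ Spec (CommRingCat.of (FractionRing R))} [IsIntegral C] [IsProper f]
  (hdim : topologicalKrullDim C = 1)
  (hχ : (Models.hRank (FractionRing R) C f (Coh.structureModule C) 0 : ℤ) -
    (Models.hRank (FractionRing R) C f (Coh.structureModule C) 1 : ℤ) ≤ 0)
include hdim hχ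

/-- In non-positive Euler characteristic two exceptional curves are disjoint. -/
theorem disjoint_exc (M : Model C f) (Γ₁ Γ₂ : ArSurf.VertComp R (Over.mk M.p))
    (h₁ : Models.IsExcCurve Γ₁.ι) (h₂ : Models.IsExcCurve Γ₂.ι)
    (hne : Set.range Γ₁.ι.base ≠ Set.range Γ₂.ι.base) :
    Disjoint (Set.range Γ₁.ι.base) (Set.range Γ₂.ι.base) := by
  haveI : IsIntegral (Over.mk M.p).left := M.isIntegral
  haveI : IsProper (Over.mk M.p).hom := M.isProper
  haveI : Flat (Over.mk M.p).hom := M.flat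
  let e : ((Neron.genericFibre R).obj (Over.mk M.p)).left ≅ C :=
    (IsPullback.of_hasPullback M.p (Neron.genPt R)).isoIsPullback _ _ M.sq
  refine disjoint_of_chi M.regular (M.dim_eq_two hdim Γ₁) (le_of_eq_of_le ?_ hχ) Γ₁ Γ₂ h₁ h₂ hne
  rw [hRank_iso (FractionRing R) f ((Neron.genericFibre R).obj (Over.mk M.p)).hom e
      (IsPullback.isoIsPullback_hom_snd _ _ _ _) 0,
    hRank_iso (FractionRing R) f ((Neron.genericFibre R).obj (Over.mk M.p)).hom e
      (IsPullback.isoIsPullback_hom_snd _ _ _ _) 1]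

/-- Over a minimal model every exceptional curve is contracted. -/
theorem contracted {X₀ : Model C f} (hmin : ∀ Γ : ArSurf.VertComp R (Over.mk X₀.p), ¬ Models.IsExcCurve Γ.ι) :
    ∀ (M : Model C f) (r : M.Z ⟶ X₀.Z), r ≫ X₀.p = M.p → M.g ≫ r = X₀.g →
      ∀ Γ : ArSurf.VertComp R (Over.mk M.p), Models.IsExcCurve Γ.ι →
        ∃ x, Set.range (Γ.ι ≫ r) = {x} := by
  suffices key : ∀ {Z X : Scheme.{u}} (r : Z ⟶ X), Models.IsContractionSeq r →
      ∀ (N : Model C f), (∀ Γ : ArSurf.VertComp R (Over.mk N.p), ¬ Models.IsExcCurve Γ.ι) → ∀ (hX : X = N.Z) (M : Model C f) (hZ : Z = M.Z),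
      eqToHom hZ.symm ≫ r ≫ eqToHom hX ≫ N.p = M.p → M.g ≫ eqToHom hZ.symm ≫ r ≫ eqToHom hX = N.g →
      ∀ Γ : ArSurf.VertComp R (Over.mk M.p), Models.IsExcCurve Γ.ι →
        ∃ x, Set.range (Γ.ι ≫ eqToHom hZ.symm ≫ r) = {x} by
    intro M r hp hgr Γ hΓ
    haveI := M.isIntegral
    haveI := X₀.isIntegral
    haveI := M.isNoetherian
    haveI := X₀.isNoetherian
    obtain ⟨hP, hbir⟩ := M.proper_birational X₀ r hp hgr
    haveI := hP
    have hseq : Models.IsContractionSeq r := by
      simpa using SurfSeq.seq_of_birational (hX := M.regular) (hdX := M.dim_le hdim) r hbir X₀.regular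
        (X₀.dim_le hdim) X₀.Z (𝟙 _) (Models.IsContractionSeq.iso (Iso.refl X₀.Z))
    simpa using key r hseq X₀ hmin rfl M rfl (by simpa using hp) (by simpa using hgr) Γ hΓ
  intro Z X r hr
  induction hr with
  | @iso Z X e =>
    intro N hN hX M hZ hp hgr Γ hΓ
    subst hX hZ
    simp only [eqToHom_refl, Category.id_comp] at hp hgr ⊢
    obtain ⟨Γ', hΓ', -⟩ := M.transport hdim N e.hom hp ∅ isClosed_empty
      (by infer_instance) Γ hΓ (fun a => Set.notMem_empty _)
    exact absurd hΓ' (hN Γ')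
  | @step Z Z' X F ι c r' hι hF hc hr' ih =>
    intro N hN hX M hZ hp hgr Γ hΓ
    subst hX hZ
    simp only [eqToHom_refl, Category.id_comp, Category.assoc, Category.comp_id] at hp hgr ⊢
    haveI := M.isIntegral
    haveI := N.isIntegral
    haveI := N.isNoetherian
    haveI := N.isProper
    obtain ⟨hint, -, hreg, -, hP', -⟩ := Sol.of_seq hr' N.regular
    haveI := hint
    haveI := hP'
    obtain ⟨hNZ, hcP, y, hy, -, hyreg, hyd, hbl⟩ := id hc
    haveI := hNZ
    haveI := hcP
    haveI := hyreg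
    obtain ⟨hsq, hm⟩ := M.exists_of_contraction c (r' ≫ N.p) hp hreg y hy (PointBlow.isIso_off hy hbl)
    let M' : Model C f := ⟨Z', r' ≫ N.p, M.g ≫ c, hsq, hm⟩
    obtain ⟨F', ι', hι', hF'i, hF', hrange, -, eF, -⟩ := PointBlow.exists_exc hy hbl hyd
    haveI := hι'; haveI := hF'i
    have hyc : (r' ≫ N.p) y = closedPoint R := by
      have h := (r' ≫ N.p).isClosedMap _ hy
      rw [Set.image_singleton] at h
      exact (Set.mem_singleton_iff.1 ((IsLocalRing.specializes_closedPoint _).mem_closed h rfl)).symm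
    obtain ⟨ΓF, hΓF, e', he'⟩ := exists_vertComp (X := Over.mk M.p) ι' _ eF fun a => by
      show M.p (ι' a) = _
      rw [← hp, Scheme.Hom.comp_apply, show c (ι' a) = y from hrange.le ⟨a, rfl⟩]
      exact hyc
    have hΓFe : Models.IsExcCurve ΓF.ι :=
      H26.ExcTransport.isExcCurve_of_ker ι' ΓF.ι (SurfSeq.ker_eq_of_range ι' ΓF.ι hΓF.symm) hF'
    by_cases hΓr : Set.range Γ.ι.base = Set.range ΓF.ι.base
    · refine ⟨r' y, ?_⟩
      rw [show Set.range (Γ.ι ≫ c ≫ r') = (fun z => r' (c z)) '' Set.range Γ.ι.base by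
        rw [← Set.range_comp]; rfl, show Set.range Γ.ι.base = c ⁻¹' {y} from (hΓr.trans hΓF).trans hrange]
      have hne : (c ⁻¹' {y}).Nonempty := hrange ▸ ⟨_, genericPoint F', rfl⟩
      refine subset_antisymm ?_ ?_
      · rintro _ ⟨z, hz, rfl⟩
        show r' (c z) ∈ ({r' y} : Set N.Z)
        rw [show c z = y from hz]
        rfl
      · rintro _ rfl
        obtain ⟨z, hz⟩ := hne
        exact ⟨z, hz, congrArg r' hz⟩
    have hdisj := disjoint_exc hdim hχ M Γ ΓF hΓ hΓFe hΓr
    obtain ⟨Γ', hΓ', hΓ'r⟩ := M.transport hdim M' c hp {y} hy (PointBlow.isIso_off hy hbl) Γ hΓ fun a h =>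
      hdisj.le_bot ⟨⟨a, rfl⟩, hΓF.ge (hrange.ge h)⟩
    obtain ⟨x, hx⟩ := ih N hN rfl M' rfl (by simp [M']) (by simpa [M'] using hgr) Γ' hΓ'
    simp only [eqToHom_refl, Category.id_comp] at hx
    refine ⟨x, subset_antisymm ?_ ?_⟩
    · rintro _ ⟨a, rfl⟩
      obtain ⟨b, hb⟩ := (hΓ'r a).1
      rw [← hx]
      exact ⟨b, congrArg r' hb⟩
    · rintro _ rfl
      obtain ⟨-, h2⟩ := hΓ'r (genericPoint Γ.curve.left)
      obtain ⟨b, hb⟩ := hx.ge rfl
      obtain ⟨a, ha⟩ := h2 ⟨b, rfl⟩
      exact ⟨a, (congrArg r' ha).trans hb⟩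

end Groth.Agent.H26.DedMin
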