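import Groth.Agent.H26.DedMin.Vanish
import Groth.Agent.H26.NegDef
import Groth.Agent.MinModel.Main
import Groth.Agent.MinModel.VertFactor

/-!
# Exceptional curves are disjoint when the Euler characteristic of the generic fibre is not positive
-/

noncomputable section

set_option autoImplicit false
set_option linter.style.haveILetI false
set_option linter.unusedSectionVars false
set_option backward.isDefEq.respectTransparency false
set_option backward.isDefEq.respectTransparency.types false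
set_option maxHeartbeats 1000000

universe u

open CategoryTheory CategoryTheory.Limits AlgebraicGeometry TopologicalSpace IsLocalRing
open Groth.Agent.H23 Groth.Agent.H28
open Groth.Agent.H23.StalkIdeal
open scoped Groth.Agent.H23.PicMul

namespace Groth.Agent.H26.DedMin

open Groth.Agent Groth.Agent.H26.Adjunction

variable {R : Type u} [CommRing R] [IsDomain R] [IsDiscreteValuationRing R]

/-- Two meeting exceptional curves force a positive Euler characteristic of the generic fibre. -/
theorem disjoint_of_chi {X : Over (Spec (CommRingCat.of R))} [IsIntegral X.left] [IsProper X.hom] [Flat X.hom]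
    (hreg : ∀ x : X.left, IsRegularLocalRing (X.left.presheaf.stalk x)) (hdim : topologicalKrullDim X.left = 2)
    (hchi : (Models.hRank (FractionRing R) ((Neron.genericFibre R).obj X).left ((Neron.genericFibre R).obj X).hom
          (Coh.structureModule ((Neron.genericFibre R).obj X).left) 0 : ℤ) -
        (Models.hRank (FractionRing R) ((Neron.genericFibre R).obj X).left ((Neron.genericFibre R).obj X).hom
          (Coh.structureModule ((Neron.genericFibre R).obj X).left) 1 : ℤ) ≤ 0)
    (Γ₁ Γ₂ : ArSurf.VertComp R X) (h₁ : Models.IsExcCurve Γ₁.ι) (h₂ : Models.IsExcCurve Γ₂.ι)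
    (hne : Set.range Γ₁.ι.base ≠ Set.range Γ₂.ι.base) :
    Disjoint (Set.range Γ₁.ι.base) (Set.range Γ₂.ι.base) := by
  classical
  haveI : IsLocallyNoetherian X.left := LocallyOfFiniteType.isLocallyNoetherian X.hom
  obtain ⟨n, Γ, hΓ⟩ := CompList.exists_componentList (X := X) hdim
  obtain ⟨i, hi⟩ := InterForm.exists_same_range hΓ Γ₁
  obtain ⟨j, hj⟩ := InterForm.exists_same_range hΓ Γ₂
  rw [hi, hj] at hne ⊢
  replace h₁ := ExcTransport.isExcCurve_of_range hi h₁
  replace h₂ := ExcTransport.isExcCurve_of_range hj h₂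
  have hij : i ≠ j := fun h => hne (by rw [h])
  by_contra hmeet
  obtain ⟨heff, -⟩ := FibreIdeal.result X Γ hΓ hreg
  choose L hLi hL₀ using fun l => PicInv.exists_inverse (IdealCl.isInvertible_idealMod (heff l))
  have hL : ∀ l, ClSub.IsInverseOf (L l) (ClSub.idealMod (Γ l).ι.ker) := fun l => by
    refine PicMul.cl_eq_iff.1 ?_
    rw [PicMul.cl_tensor, mul_comm, ← PicMul.cl_tensor]
    exact PicMul.cl_eq_iff.2 (hL₀ l)
  let D : VertClass.Data X Γ := ⟨L, hΓ, inferInstance, inferInstance, hreg, hL⟩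
  obtain ⟨k1, ei⟩ := ExcCrit.invariants_of_exc (Γ i) (heff i) (hL i) h₁
  obtain ⟨k2, ej⟩ := ExcCrit.invariants_of_exc (Γ j) (heff j) (hL j) h₂
  set x := ArSurf.inter R X (L j) (Γ i) with hx
  have hx' : ArSurf.inter R X (L i) (Γ j) = x := InterForm.inter_symm hΓ L hL hreg j i
  have hoff := fun {a b : Fin n} (h : a ≠ b) => InterForm.inter_offDiag hΓ L hL hreg h
  have hx0 : 0 < x := lt_of_le_of_ne (hoff hij).1 fun h => hmeet ((hoff hij).2.1 h.symm)
  have hli := Int.le_of_dvd hx0 (WDeg.wdeg_dvd_inter (Γ i) (hLi j))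
  have hlj := Int.le_of_dvd hx0 (hx' ▸ WDeg.wdeg_dvd_inter (Γ j) (hLi i))
  let a : Fin n → ℤ := fun l => (if l = i then 1 else 0) + if l = j then 1 else 0
  have hQ : (∑ q : Fin n × Fin n, a q.1 * a q.2 * ArSurf.inter R X (L q.2) (Γ q.1)) =
      (-(Models.wdeg R X (Γ i) : ℤ) + x) + (x + -(Models.wdeg R X (Γ j) : ℤ)) := by
    rw [Fintype.sum_prod_type]
    simp only [a, add_mul, mul_add, mul_ite, ite_mul, one_mul, zero_mul, mul_one, mul_zero,
      Finset.sum_add_distrib, Finset.sum_ite_eq', Finset.mem_univ, if_true, Finset.sum_ite_irrel, Finset.sum_const_zero]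
    rw [ei, ej, hx', ← hx]
  have hle := InterForm.sum_nonpos hΓ L hL hreg a
  rw [hQ] at hle
  have hxi : x = (Models.wdeg R X (Γ i) : ℤ) := by omega
  have hxj : x = (Models.wdeg R X (Γ j) : ℤ) := by omega
  have hzero : (∑ q : Fin n × Fin n, a q.1 * a q.2 * ArSurf.inter R X (L q.2) (Γ q.1)) = 0 := by
    rw [hQ]; omega
  -- no other component meets the two curves
  have hother : ∀ l, l ≠ i → l ≠ j → ∀ m, (m = i ∨ m = j) →
      Disjoint (Set.range (Γ m).ι.base) (Set.range (Γ l).ι.base) := by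
    intro l hl hl' m hm
    by_contra hd
    have h := NegDef.ratio_eq_of_meet hΓ L hL hreg a hzero hd
    have hmz : ∀ k, (Models.mult R X (Γ k) : ℚ) ≠ 0 := fun k =>
      Nat.cast_ne_zero.2 (InterForm.mult_pos hΓ hreg k).ne'
    have hal : a l = 0 := by simp [a, hl, hl']
    have ham : a m = 1 := by
      rcases hm with rfl | rfl
      · simp [a, hij]
      · simp [a, hij.symm]
    rw [hal, ham, Int.cast_zero, zero_div, Int.cast_one, div_eq_zero_iff] at h
    exact h.elim one_ne_zero (hmz m)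
  let P : Set X.left := Set.range (Γ i).ι.base ∪ Set.range (Γ j).ι.base
  let T : Set X.left := ⋃ l ∈ {l : Fin n | l ≠ i ∧ l ≠ j}, Set.range (Γ l).ι.base
  have hT : IsClosed T := (Set.toFinite _).isClosed_biUnion fun l _ => (Γ l).ι.isClosedEmbedding.isClosed_range
  have hiso : ∃ U : X.left.Opens, (U : Set X.left) ∩ Models.specialFibreSet R X = P := by
    refine ⟨⟨Tᶜ, hT.isOpen_compl⟩, Set.ext fun y => ⟨?_, ?_⟩⟩
    · rintro ⟨hyT, hys⟩
      obtain ⟨l, hl⟩ := RedFibre.exists_mem_component hΓ hys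
      by_cases hli' : l = i
      · subst hli'; exact Or.inl hl
      by_cases hlj' : l = j
      · subst hlj'; exact Or.inr hl
      exact absurd (Set.mem_iUnion₂.2 ⟨l, (⟨hli', hlj'⟩ : l ≠ i ∧ l ≠ j), hl⟩) hyT
    · intro hy
      refine ⟨fun hyT => ?_, ?_⟩
      · obtain ⟨l, ⟨hl, hl'⟩, hyl⟩ := Set.mem_iUnion₂.1 hyT
        rcases hy with hy | hy
        · exact Set.disjoint_left.1 (hother l hl hl' i (Or.inl rfl)) hy hyl
        · exact Set.disjoint_left.1 (hother l hl hl' j (Or.inr rfl)) hy hyl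
      · rcases hy with hy | hy <;> exact (ArtinTriv.range_mem_fibreComponents hdim _).1.2 hy
  obtain ⟨π, hπ, hu, hloc⟩ := exists_vanishing_pair hdim (Γ i) (Γ j) hmeet hiso
  -- the principal divisor is supported on the two curves
  have hsupp : ∀ y, y ∈ ((Principal.princ π).support : Set X.left) ↔ y ∈ P := fun y => by
    obtain ⟨U, hU, hyU, -⟩ := exists_isAffineOpen_mem_and_subset (x := y) (U := ⊤) trivial
    rw [hloc y, SetLike.mem_coe, Scheme.IdealSheafData.mem_support_iff_of_mem (U := ⟨U, hU⟩) hyU,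
      Principal.princ_ideal, Scheme.zeroLocus_span, Scheme.mem_zeroLocus_iff]
    have hb : ∀ y ∈ U, (y ∈ X.left.basicOpen (Principal.res π U) ↔ y ∈ X.left.basicOpen π) := fun y hy => by
      unfold Principal.res
      rw [X.left.basicOpen_res]
      exact ⟨fun h => h.2, fun h => ⟨hy, h⟩⟩
    simp only [Set.mem_singleton_iff, forall_eq]
    exact not_congr (hb y hyU)
  have hPs : P ⊆ Models.specialFibreSet R X := by
    rintro y (hy | hy) <;> exact (ArtinTriv.range_mem_fibreComponents hdim _).1.2 hy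
  obtain ⟨b, hprod, hbnot⟩ : ∃ b : Fin n → ℕ, Principal.princ π = ∏ l, (Γ l).ι.ker ^ b l ∧
      ∀ l, Models.genPtOf R X (Γ l) ∉ ((Principal.princ π).support : Set X.left) → b l = 0 := by
    refine ⟨_, MinModel.eq_prod_of_isEffCartier X Γ hΓ hreg (Principal.isEffCartier π hπ)
      (fun y hy => hPs ((hsupp y).1 hy)), fun l hl => ?_⟩
    haveI : Subsingleton (X.left.presheaf.stalk (Models.genPtOf R X (Γ l)) ⧸
        sI (Principal.princ π) (Models.genPtOf R X (Γ l))) :=
      Ideal.Quotient.subsingleton_iff.2 (PointBlow.sI_eq_top hl)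
    rw [Module.length_eq_zero]
    rfl
  have hpow : ∀ l, b l ≠ 0 → l = i ∨ l = j := fun l hl => by
    by_contra hh
    rw [not_or] at hh
    have hgP : Models.genPtOf R X (Γ l) ∉ P := by
      rintro (h | h)
      · exact InterSymm.genPt_notMem (Γ l) (Γ i) (fun e => hh.1 (hΓ.1 e)) h
      · exact InterSymm.genPt_notMem (Γ l) (Γ j) (fun e => hh.2 (hΓ.1 e)) h
    exact hl (hbnot l fun h => hgP ((hsupp _).1 h))
  rw [hprod] at hsupp
  have hb0 : ∀ l, l ≠ i → l ≠ j → b l = 0 := fun l h h' => by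
    by_contra h0
    exact (hpow l h0).elim h h'
  obtain ⟨-, ⟨e⟩⟩ := Principal.shortExact hπ
  have hint : ∀ m, ∑ l, (b l : ℤ) * ArSurf.inter R X (L l) (Γ m) = 0 := fun m => by
    have h := Chain.inter_prod (Γc := Γ) (L := L) heff hL b (Γ m)
    rw [← hprod,
      ← ArInter.inter_congr (Γ m) InvX.isInvertible_structureModule (PicMul.cl_eq_iff.2 ⟨e⟩),
      ArInter.inter_structure] at h
    linarith
  have hsum : ∀ F : Fin n → ℤ, ∑ l, (b l : ℤ) * F l = (b i : ℤ) * F i + (b j : ℤ) * F j := fun F =>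
    Finset.sum_eq_add i j hij (fun l _ hl => by rw [hb0 l hl.1 hl.2, Nat.cast_zero, zero_mul])
      (fun h => absurd (Finset.mem_univ i) h) (fun h => absurd (Finset.mem_univ j) h)
  have hbij : b i = b j := by
    have h := hint i
    rw [hsum, ei, ← hx, hxi] at h
    have hw : (0 : ℤ) < Models.wdeg R X (Γ i) := by exact_mod_cast WDeg.wdeg_pos (Γ i)
    have : ((b j : ℤ) - b i) * Models.wdeg R X (Γ i) = 0 := by linarith
    have := (mul_eq_zero.1 this).resolve_right hw.ne'
    omega
  have hbi : 0 < b i := by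
    refine Nat.pos_of_ne_zero fun h0 => ?_
    have hmem : Models.genPtOf R X (Γ i) ∈ ((∏ l, (Γ l).ι.ker ^ b l).support : Set X.left) :=
      (hsupp _).2 (Or.inl ⟨_, rfl⟩)
    have htop : (∏ l, (Γ l).ι.ker ^ b l) = 1 := Finset.prod_eq_one fun l _ => by
      by_cases hl : l = i
      · rw [hl, h0, pow_zero]
      by_cases hl' : l = j
      · rw [hl', ← hbij, h0, pow_zero]
      rw [hb0 l hl hl', pow_zero]
    rw [htop, Scheme.IdealSheafData.one_eq_top, Scheme.IdealSheafData.support_top] at hmem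
    exact hmem
  obtain ⟨-, h2chi⟩ := EulerFibre.good_prod D _ b rfl
  have h2 : EulerFibre.twiceChi D b = 2 * (b i : ℤ) * Models.wdeg R X (Γ i) := by
    rw [EulerFibre.twiceChi, hsum, show ∑ l, (b l : ℤ) * ∑ m, (b m : ℤ) * ArSurf.inter R X (D.L m) (Γ l) = 0 from
      Finset.sum_eq_zero fun l _ => by rw [hint l, mul_zero], sub_zero,
      EulerFibre.wdeg_sub_h1, EulerFibre.wdeg_sub_h1, k1, k2]
    rw [show ArSurf.inter R X (D.L i) (Γ i) = -(Models.wdeg R X (Γ i) : ℤ) from ei,
      show ArSurf.inter R X (D.L j) (Γ j) = -(Models.wdeg R X (Γ j) : ℤ) from ej, ← hbij,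
      ← hxj, ← hxi]
    push_cast
    ring
  obtain ⟨c, c', hc, hc', hcc⟩ := chi_princ hdim D hπ hu
  rw [hprod] at hcc
  have hw : (0 : ℤ) < Models.wdeg R X (Γ i) := by exact_mod_cast WDeg.wdeg_pos (Γ i)
  have hpos : 0 < EulerFibre.chi X (ClSub.quotMod (∏ l, (Γ l).ι.ker ^ b l)) := by
    have : (0 : ℤ) < 2 * (b i : ℤ) * Models.wdeg R X (Γ i) := by positivity
    linarith
  have := mul_pos hc hpos
  rw [hcc] at this
  nlinarith

end Groth.Agent.H26.DedMin
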