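import Groth.Agent.H26.DedMin.Step

/-!
# Existence of a relatively minimal model over a Dedekind domain
-/

noncomputable section

set_option autoImplicit false
set_option linter.style.haveILetI false
set_option linter.unusedSectionVars false
set_option backward.isDefEq.respectTransparency false
set_option backward.isDefEq.respectTransparency.types false
set_option maxHeartbeats 1000000

universe u

open CategoryTheory CategoryTheory.Limits AlgebraicGeometry TopologicalSpace IsLocalRing

namespace Groth.Agent.H26.DedMin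

open Groth.Agent

variable {R : Type u} [CommRing R] [IsDedekindDomain R]

/-- An exceptional curve over a closed point is contracted inside arithmetic surfaces. -/
theorem exists_step (X : Over (Spec (CommRingCat.of R))) (hX : ArSurf.IsArithSurface R X)
    {s : Spec (CommRingCat.of R)} (hs : s ≠ genericPoint (Spec (CommRingCat.of R)))
    {E : Scheme.{u}} (ι : E ⟶ X.left) [IsClosedImmersion ι] (hE : Models.IsExcCurve ι)
    (hover : ∀ a, X.hom (ι a) = s) :
    ∃ (Y : Over (Spec (CommRingCat.of R))) (b : X ⟶ Y) (y : Y.left) (hy : IsClosed ({y} : Set Y.left)),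
      ArSurf.IsArithSurface R Y ∧ Models.IsContractionOf ι b.left ∧ IsIso ((Neron.genericFibre R).map b) ∧
      Y.hom y = s ∧ Set.range (ι ≫ b.left) = {y} ∧
      IsIso (b.left ∣_ (⟨{y}ᶜ, hy.isOpen_compl⟩ : Y.left.Opens)) ∧ Function.Surjective b.left ∧
      IsProper b.left := by
  obtain ⟨hreg, hint, hdim, hflat, n, i, hi, hcomm⟩ := id hX
  haveI := hint
  haveI := hflat
  haveI := hi
  haveI := isProper_arith X hX
  obtain ⟨O, hO⟩ := GGContract.exists_ample_projSpace R n
  obtain ⟨a, -, -⟩ := SeesawX.PnSpec.exists_iso n R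
  haveI : CompactSpace X.left := QuasiCompact.compactSpace_of_compactSpace X.hom
  haveI : IsClosedImmersion (i ≫ a.hom) := inferInstance
  have hL := AmpleVan.isAmple_pullback_of_isEmbedding (i ≫ a.hom) (i ≫ a.hom).isClosedEmbedding.isEmbedding hO
  obtain ⟨M, -, hM₀⟩ := H23.PicInv.exists_inverse (IdealCl.isInvertible_idealMod hE.1)
  have hM : ClSub.IsInverseOf M (ClSub.idealMod ι.ker) := by
    letI := H23.PicMul.clMonoid X.left
    refine H23.PicMul.cl_eq_iff.1 ?_
    rw [H23.PicMul.cl_tensor, mul_comm, ← H23.PicMul.cl_tensor]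
    exact H23.PicMul.cl_eq_iff.2 hM₀
  obtain ⟨X', b, g, hcon, hbg, hgP, -, L', hL', -⟩ :=
    ExcContr.exists_ample_contraction R X.hom _ hL ι hE M hM
  haveI := hgP
  obtain ⟨hNZ, hbP, y, hy, hrange, hyreg, hyd, hbl⟩ := id hcon
  haveI := hNZ
  haveI := hbP
  haveI := hyreg
  haveI hoff := PointBlow.isIso_off hy hbl
  obtain ⟨-, k, hk, e, -⟩ := id hE
  obtain ⟨a₁, a₂, hne, -⟩ := MinModel.exists_two_points k e
  have hys : g y = s := by
    rw [← show b (ι a₁) = y from hrange.le ⟨a₁, rfl⟩, ← Scheme.Hom.comp_apply, hbg]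
    exact hover a₁
  have hsur : Function.Surjective b := fun w => by
    by_cases hw : w = y
    · exact ⟨ι a₁, (hrange.le ⟨a₁, rfl⟩ : (ι ≫ b) a₁ = y).trans hw.symm⟩
    · obtain ⟨⟨z, hz⟩, hzw⟩ := (b ∣_ (⟨{y}ᶜ, hy.isOpen_compl⟩ : X'.Opens)).surjective ⟨w, hw⟩
      exact ⟨z, (morphismRestrict_base_coe b _ _).symm.trans (congrArg Subtype.val hzw)⟩
  have hreg' : ∀ w : X', IsRegularLocalRing (X'.presheaf.stalk w) := fun w => by
    by_cases hw : w = y
    · subst hw; exact hyreg
    · obtain ⟨z, rfl⟩ := hsur w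
      haveI := PointBlow.isIso_stalkMap_off hy hbl hw
      haveI := hreg z
      exact IsRegularLocalRing.of_ringEquiv (asIso (b.stalkMap z)).commRingCatIsoToRingEquiv.symm
  haveI : Nonempty X' := ⟨y⟩
  have hgp : IsGenericPoint (b (genericPoint X.left)) (Set.univ : Set X') := by
    have h := (genericPoint_spec X.left).image b.continuous
    rwa [Set.image_univ, hsur.range_eq, closure_univ] at h
  haveI : IrreducibleSpace X' := irreducibleSpace_def _ |>.2 hgp.isIrreducible
  haveI : IsIntegral X' := SmoothMinimal.isIntegral_of_regular hreg'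
  have hgen : g (genericPoint X') = genericPoint (Spec (CommRingCat.of R)) := by
    rw [← hgp.eq (genericPoint_spec X'), ← Scheme.Hom.comp_apply, hbg]
    exact apply_generic_base X
  haveI : Flat g := flat_of_dominant g hgen
  obtain ⟨N, j, hj, hj'⟩ := AmpleEmbed.exists_closedImmersion g hL'
  obtain ⟨a', ha', -⟩ := SeesawX.PnSpec.exists_iso N R
  haveI := hj
  have hdim' : topologicalKrullDim X' = 2 := le_antisymm
    ((topologicalKrullDim_le_of_surjective b hsur b.isClosedMap.specializingMap).trans_eq hdim)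
    (hyd.symm.trans_le (CurveCohLib.ringKrullDim_stalk_le_topologicalKrullDim y))
  let bM : X ⟶ Over.mk g := Over.homMk b hbg
  haveI : IsIso (bM.left ∣_ (⟨{y}ᶜ, hy.isOpen_compl⟩ : X'.Opens)) := hoff
  have hiso := isIso_genericFibre_map bM (⟨{y}ᶜ, hy.isOpen_compl⟩ : X'.Opens) fun z hz h => hs (by
    rw [← hys, ← show z = y from h]; exact hz)
  refine ⟨Over.mk g, bM, y, hy, ⟨hreg', ‹IsIntegral X'›, hdim', ‹Flat g›, N, j ≫ a'.inv, inferInstance, ?_⟩,
    hcon, hiso, hys, hrange, hoff, hsur, hbP⟩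
  rw [Category.assoc, ← ha', Iso.inv_hom_id_assoc]
  exact hj'

theorem exists_relMinimal_aux (B : Finset (Spec (CommRingCat.of R)))
    (hB : ∀ s ∈ B, s ≠ genericPoint (Spec (CommRingCat.of R))) :
    ∀ (n : ℕ) (X : Over (Spec (CommRingCat.of R))), ArSurf.IsArithSurface R X →
      {z : X.left | X.hom z ∈ B ∧ ¬ IsClosed ({z} : Set X.left)}.ncard = n →
      (∀ s, s ≠ genericPoint (Spec (CommRingCat.of R)) → ∀ {E : Scheme.{u}} (ι : E ⟶ X.left) [IsClosedImmersion ι],
        Models.IsExcCurve ι → (∀ a, X.hom (ι a) = s) → s ∈ B) →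
      ∃ (Y : Over (Spec (CommRingCat.of R))) (f : X ⟶ Y), ArSurf.IsArithSurface R Y ∧
        Neron.IsRelMinimalRegularModel R Y ∧ IsIso ((Neron.genericFibre R).map f) ∧
        Models.IsContractionSeq f.left := by
  intro n
  induction n using Nat.strong_induction_on with
  | _ n ih =>
  intro X hX hn hexc
  by_cases hno : ∀ {s : Spec (CommRingCat.of R)}, s ≠ genericPoint (Spec (CommRingCat.of R)) →
      ∀ {E : Scheme.{u}} (ι : E ⟶ X.left) [IsClosedImmersion ι], Models.IsExcCurve ι → ¬ ∀ a, X.hom (ι a) = s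
  · exact ⟨X, 𝟙 X, hX, relMinimal_of_no_exc X hX hno, inferInstance, Models.IsContractionSeq.iso (Iso.refl X.left)⟩
  simp only [not_forall, not_not] at hno
  obtain ⟨s, hs, E, ι, hι, hE, hover'⟩ := hno
  have hover : ∀ a, X.hom (ι a) = s := fun a => by_contra fun h => hover' ⟨a, h⟩
  haveI := hι
  obtain ⟨Y, b, y, hy, hY, hcon, hiso, hys, hrange, hoff, hsur, hbP⟩ := exists_step X hX hs ι hE hover
  haveI := hiso
  haveI := hoff
  haveI := hbP
  have hsB : s ∈ B := hexc s hs ι hE hover
  let U : Y.left.Opens := ⟨{y}ᶜ, hy.isOpen_compl⟩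
  have hinj : ∀ z z' : X.left, b.left z = b.left z' → b.left z ≠ y → z = z' := fun z z' h hne => by
    have h' : (b.left ∣_ U) ⟨z, hne⟩ = (b.left ∣_ U) ⟨z', fun e => hne (h.trans e)⟩ :=
      Subtype.ext (by rw [morphismRestrict_base_coe, morphismRestrict_base_coe]; exact h)
    exact congrArg Subtype.val ((b.left ∣_ U).homeomorph.injective h')
  obtain ⟨-, k, hk, e, -⟩ := id hE
  obtain ⟨a₁, a₂, hne₁₂, -⟩ := MinModel.exists_two_points k e
  -- the measure drops
  let P : (Z : Over (Spec (CommRingCat.of R))) → Set Z.left := fun Z =>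
    {z | Z.hom z ∈ B ∧ ¬ IsClosed ({z} : Set Z.left)}
  choose σ hσ using hsur
  have hyP : y ∉ P Y := fun h => h.2 hy
  have hlt : (P Y).ncard < n := by
    rw [← hn]
    haveI : IsIntegral (CohB1.ProjSpace 1 k) := H23.PnChart.isIntegral_projSpace 1 k
    haveI : Nonempty E := ⟨e.hom (genericPoint _)⟩
    haveI : IsIntegral E := isIntegral_of_isOpenImmersion e.inv
    let z₁ := ι (genericPoint E)
    have hz₁ : z₁ ∈ P X := by
      refine ⟨(hover _).symm ▸ hsB, fun hcl => hne₁₂ (ι.isClosedEmbedding.injective ?_)⟩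
      have h : ∀ a, ι a = z₁ := fun a => ((genericPoint_specializes a).map ι.continuous).mem_closed hcl rfl
      rw [h a₁, h a₂]
    have hsub : σ '' P Y ⊆ P X \ {z₁} := by
      rintro _ ⟨w, hw, rfl⟩
      refine ⟨⟨?_, fun hcl => hw.2 ?_⟩, fun h => hyP ?_⟩
      · rw [← Over.w b, Scheme.Hom.comp_apply, hσ]
        exact hw.1
      · have := b.left.isClosedMap _ hcl
        rwa [Set.image_singleton, hσ] at this
      · rw [← show w = y from (hσ w).symm.trans ((congrArg b.left (Set.mem_singleton_iff.1 h)).trans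
          (hrange.le ⟨genericPoint E, rfl⟩))]
        exact hw
    have hfin := finite_nonclosed X hX B hB
    have hinjσ : Function.Injective σ := fun w w' h => by rw [← hσ w, h, hσ]
    rw [← Set.ncard_image_of_injective _ hinjσ]
    exact (Set.ncard_le_ncard hsub (hfin.subset Set.diff_subset)).trans_lt
      (Set.ncard_diff_singleton_lt_of_mem hz₁ hfin)
  -- no new exceptional fibres
  have hexcY : ∀ t, t ≠ genericPoint (Spec (CommRingCat.of R)) → ∀ {F : Scheme.{u}} (κ : F ⟶ Y.left)
      [IsClosedImmersion κ], Models.IsExcCurve κ → (∀ a, Y.hom (κ a) = t) → t ∈ B := by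
    intro t ht F κ _ hF hFt
    by_cases hts : t = s
    · exact hts ▸ hsB
    have hκU : Set.range κ ⊆ Set.range U.ι := by
      rintro _ ⟨a, rfl⟩
      rw [Scheme.Opens.range_ι]
      exact fun h => hts ((hFt a).symm.trans ((congrArg Y.hom (show κ a = y from h)).trans hys))
    let κ' : F ⟶ U := IsOpenImmersion.lift U.ι κ hκU
    have hκ' : κ' ≫ U.ι = κ := IsOpenImmersion.lift_fac _ _ _
    haveI : IsClosedImmersion (κ' ≫ U.ι) := by rw [hκ']; infer_instance
    haveI : IsClosedImmersion κ' := IsClosedImmersion.of_comp κ' U.ι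
    have hF' : Models.IsExcCurve κ' := isExcCurve_up U.ι κ' κ hκ' U.ι.isOpenEmbedding.injective hF
    let q : (U : Scheme.{u}) ⟶ X.left := inv (b.left ∣_ U) ≫ (b.left ⁻¹ᵁ U).ι
    have hqb : q ≫ b.left = U.ι := by
      rw [Category.assoc, ← morphismRestrict_ι, IsIso.inv_hom_id_assoc]
    have hclosed : IsClosed (Set.range (κ' ≫ q)) := by
      have h : Set.range (κ' ≫ q) = b.left ⁻¹' Set.range κ := by
        ext z
        refine ⟨fun ⟨a, ha⟩ => ⟨a, ?_⟩, fun ⟨a, ha⟩ => ⟨a, hinj _ z ?_ ?_⟩⟩
        · rw [← ha, ← Scheme.Hom.comp_apply, Category.assoc, hqb, hκ']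
        · rw [← Scheme.Hom.comp_apply, Category.assoc, hqb, hκ']
          exact ha
        · rw [← Scheme.Hom.comp_apply, Category.assoc, hqb, hκ']
          intro h
          exact hts ((hFt a).symm.trans ((congrArg Y.hom h).trans hys))
      rw [h]
      exact κ.isClosedEmbedding.isClosed_range.preimage b.left.continuous
    haveI : IsClosedImmersion (κ' ≫ q) := IsClosedImmersion.of_isPreimmersion _ hclosed
    haveI := isProper_arith X hX
    haveI : IsLocallyNoetherian X.left := LocallyOfFiniteType.isLocallyNoetherian X.hom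
    refine hexc t ht (κ' ≫ q) (isExcCurve_down q κ' _ rfl q.isOpenEmbedding.injective hF') fun a => ?_
    rw [← Over.w b, ← Scheme.Hom.comp_apply, Category.assoc, reassoc_of% hqb, reassoc_of% hκ', Scheme.Hom.comp_apply]
    exact hFt a
  obtain ⟨Z, f, hZ, hmin, hf, hseq⟩ := ih _ hlt Y hY rfl hexcY
  haveI := hf
  exact ⟨Z, b ≫ f, hZ, hmin, by rw [Functor.map_comp]; infer_instance,
    Models.IsContractionSeq.step ι b.left f.left hι hE hcon hseq⟩

/-- Every arithmetic surface over a Dedekind domain contracts to a relatively minimal one. -/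
theorem exists_relMinimal (X : Over (Spec (CommRingCat.of R))) (hX : ArSurf.IsArithSurface R X) :
    ∃ (Y : Over (Spec (CommRingCat.of R))) (f : X ⟶ Y), ArSurf.IsArithSurface R Y ∧
      Neron.IsRelMinimalRegularModel R Y ∧ IsIso ((Neron.genericFibre R).map f) ∧
      Models.IsContractionSeq f.left := by
  obtain ⟨B, hB, hexc⟩ := finite_exc X hX
  exact exists_relMinimal_aux B hB _ X hX rfl hexc

end Groth.Agent.H26.DedMin
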