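import Groth.Agent.H26.DedMin.Global

/-!
# Uniqueness of relatively minimal models over a Dedekind domain
-/

noncomputable section

set_option autoImplicit false
set_option linter.style.haveILetI false
set_option linter.unusedSectionVars false
set_option backward.isDefEq.respectTransparency false
set_option backward.isDefEq.respectTransparency.types false
set_option maxHeartbeats 1000000

universe u

open CategoryTheory CategoryTheory.Limits AlgebraicGeometry TopologicalSpace IsLocalRing

namespace Groth.Agent.H26.DedMin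

open Groth.Agent

variable {R : Type u} [CommRing R] [IsDedekindDomain R]

/-- Morphisms out of an integral flat scheme are determined by the generic fibre. -/
theorem hom_ext_genericFibre {X₁ X₂ : Over (Spec (CommRingCat.of R))} [IsIntegral X₁.left] [Flat X₁.hom]
    [IsSeparated X₂.hom] (f f' : X₁ ⟶ X₂)
    (h : (Neron.genericFibre R).map f = (Neron.genericFibre R).map f') : f = f' := by
  let q₁ := pullback.fst X₁.hom (Neron.genPt R)
  haveI : IsDominant q₁ := by
    refine ⟨Dense.mono ?_ (dense_iff_closure_eq.2 (genericPoint_spec X₁.left).def)⟩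
    rw [Set.singleton_subset_iff, Scheme.Pullback.range_fst, Set.mem_preimage, SmoothMinimal.range_genPt,
      Set.mem_singleton_iff]
    exact apply_generic_base X₁
  refine Over.OverMorphism.ext (ext_of_isDominant_of_isSeparated X₂.hom ((Over.w f).trans (Over.w f').symm) q₁ ?_)
  rw [show q₁ ≫ f.left = ((Neron.genericFibre R).map f).left ≫ pullback.fst X₂.hom (Neron.genPt R) from
      (pullback.lift_fst _ _ _).symm,
    show q₁ ≫ f'.left = ((Neron.genericFibre R).map f').left ≫ pullback.fst X₂.hom (Neron.genPt R) from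
      (pullback.lift_fst _ _ _).symm, h]

/-- Isomorphisms of generic fibres extend uniquely to morphisms into a relatively minimal surface. -/
theorem existsUnique_hom (X₁ X₂ : Over (Spec (CommRingCat.of R))) (h₁ : ArSurf.IsArithSurface R X₁)
    (h₂ : ArSurf.IsArithSurface R X₂) (m₂ : Neron.IsRelMinimalRegularModel R X₂)
    (hχ : FGA.eulerCharLE (FractionRing R) ((Neron.genericFibre R).obj X₁).left (Coh.structureModule _) 1 ≤ 0)
    (φ : (Neron.genericFibre R).obj X₁ ≅ (Neron.genericFibre R).obj X₂) :
    ∃! f : X₁ ⟶ X₂, (Neron.genericFibre R).map f = φ.hom := by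
  obtain ⟨hreg₁, hint₁, hdim₁, hflat₁, n₁, i₁, hi₁, hc₁⟩ := id h₁
  obtain ⟨hreg₂, hint₂, hdim₂, hflat₂, n₂, i₂, hi₂, hc₂⟩ := id h₂
  haveI := hint₁; haveI := hint₂; haveI := hflat₁; haveI := hflat₂; haveI := hi₁; haveI := hi₂
  haveI := H23.MultiP1.isProper_toBase (X := Spec (CommRingCat.of R)) n₁
  haveI := H23.MultiP1.isProper_toBase (X := Spec (CommRingCat.of R)) n₂
  haveI : IsProper X₁.hom := hc₁ ▸ inferInstance
  haveI : IsProper X₂.hom := hc₂ ▸ inferInstance
  by_cases hR : IsField R
  · haveI : IsIso (Neron.genPt R) := by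
      haveI : IsIso (CommRingCat.ofHom (algebraMap R (FractionRing R))) :=
        (ConcreteCategory.isIso_iff_bijective _).2
          (IsField.localization_map_bijective (M := nonZeroDivisors R) zero_notMem_nonZeroDivisors hR)
      infer_instance
    let q₁ := pullback.fst X₁.hom (Neron.genPt R)
    let q₂ := pullback.fst X₂.hom (Neron.genPt R)
    let f : X₁ ⟶ X₂ := Over.homMk (inv q₁ ≫ φ.hom.left ≫ q₂) (by
      rw [Category.assoc, Category.assoc, IsIso.inv_comp_eq, pullback.condition, pullback.condition,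
        ← Category.assoc, show φ.hom.left ≫ pullback.snd X₂.hom (Neron.genPt R) = pullback.snd X₁.hom (Neron.genPt R) from
          Over.w φ.hom])
    have hf : (Neron.genericFibre R).map f = φ.hom := by
      refine Over.OverMorphism.ext (pullback.hom_ext ?_ ?_)
      · exact (pullback.lift_fst _ _ _).trans (IsIso.hom_inv_id_assoc q₁ _)
      · exact (Over.w ((Neron.genericFibre R).map f)).trans (Over.w φ.hom).symm
    exact ⟨f, hf, fun f' hf' => hom_ext_genericFibre _ _ (hf'.trans hf.symm)⟩
  haveI : IsProper ((Neron.genericFibre R).obj X₁).hom :=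
    inferInstanceAs (IsProper (pullback.snd X₁.hom (Neron.genPt R)))
  have hχ₂ : (Models.hRank (FractionRing R) ((Neron.genericFibre R).obj X₂).left ((Neron.genericFibre R).obj X₂).hom
          (Coh.structureModule ((Neron.genericFibre R).obj X₂).left) 0 : ℤ) -
        (Models.hRank (FractionRing R) ((Neron.genericFibre R).obj X₂).left ((Neron.genericFibre R).obj X₂).hom
          (Coh.structureModule ((Neron.genericFibre R).obj X₂).left) 1 : ℤ) ≤ 0 := by
    let e : ((Neron.genericFibre R).obj X₂).left ≅ ((Neron.genericFibre R).obj X₁).left := (Over.forget _).mapIso φ.symm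
    rw [hRank_iso (FractionRing R) ((Neron.genericFibre R).obj X₁).hom ((Neron.genericFibre R).obj X₂).hom e
        (Over.w φ.inv) 0,
      hRank_iso (FractionRing R) ((Neron.genericFibre R).obj X₁).hom ((Neron.genericFibre R).obj X₂).hom e
        (Over.w φ.inv) 1]
    exact (eulerCharLE_eq (FractionRing R) _ ((Neron.genericFibre R).obj X₁).hom).symm.trans_le hχ
  exact existsUnique_extension hreg₂ hχ₂ (fun hs _ ι _ hE => not_exc_of_relMinimal X₂ h₂ m₂ hs ι hE) hR X₁ hreg₁
    (fun z => (SchTop.ringKrullDim_stalk_le z).trans hdim₁.le) φ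

/-- Isomorphisms of generic fibres of relatively minimal surfaces extend uniquely to isomorphisms. -/
theorem existsUnique_iso (X₁ X₂ : Over (Spec (CommRingCat.of R))) (h₁ : ArSurf.IsArithSurface R X₁)
    (h₂ : ArSurf.IsArithSurface R X₂) (m₁ : Neron.IsRelMinimalRegularModel R X₁)
    (m₂ : Neron.IsRelMinimalRegularModel R X₂)
    (hχ : FGA.eulerCharLE (FractionRing R) ((Neron.genericFibre R).obj X₁).left (Coh.structureModule _) 1 ≤ 0)
    (φ : (Neron.genericFibre R).obj X₁ ≅ (Neron.genericFibre R).obj X₂) :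
    ∃! f : X₁ ⟶ X₂, IsIso f ∧ (Neron.genericFibre R).map f = φ.hom := by
  obtain ⟨hreg₁, hint₁, hdim₁, hflat₁, n₁, i₁, hi₁, hc₁⟩ := id h₁
  obtain ⟨hreg₂, hint₂, hdim₂, hflat₂, n₂, i₂, hi₂, hc₂⟩ := id h₂
  haveI := hint₁; haveI := hint₂; haveI := hflat₁; haveI := hflat₂; haveI := hi₁; haveI := hi₂
  haveI := H23.MultiP1.isProper_toBase (X := Spec (CommRingCat.of R)) n₁
  haveI := H23.MultiP1.isProper_toBase (X := Spec (CommRingCat.of R)) n₂
  haveI : IsProper X₁.hom := hc₁ ▸ inferInstance
  haveI : IsProper X₂.hom := hc₂ ▸ inferInstance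
  haveI : IsProper ((Neron.genericFibre R).obj X₁).hom :=
    inferInstanceAs (IsProper (pullback.snd X₁.hom (Neron.genPt R)))
  obtain ⟨f, hf, hfu⟩ := existsUnique_hom X₁ X₂ h₁ h₂ m₂ hχ φ
  have hχ₂ : FGA.eulerCharLE (FractionRing R) ((Neron.genericFibre R).obj X₂).left (Coh.structureModule _) 1 ≤ 0 := by
    let e : ((Neron.genericFibre R).obj X₂).left ≅ ((Neron.genericFibre R).obj X₁).left := (Over.forget _).mapIso φ.symm
    refine (eulerCharLE_eq (FractionRing R) _ ((Neron.genericFibre R).obj X₂).hom).trans_le ?_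
    rw [hRank_iso (FractionRing R) ((Neron.genericFibre R).obj X₁).hom ((Neron.genericFibre R).obj X₂).hom e
        (Over.w φ.inv) 0,
      hRank_iso (FractionRing R) ((Neron.genericFibre R).obj X₁).hom ((Neron.genericFibre R).obj X₂).hom e
        (Over.w φ.inv) 1]
    exact (eulerCharLE_eq (FractionRing R) _ ((Neron.genericFibre R).obj X₁).hom).symm.trans_le hχ
  obtain ⟨g, hg, -⟩ := existsUnique_hom X₂ X₁ h₂ h₁ m₁ hχ₂ φ.symm
  haveI : IsIso f := ⟨g, hom_ext_genericFibre _ _ (by rw [Functor.map_comp, hf, hg, CategoryTheory.Functor.map_id,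
      Iso.symm_hom, Iso.hom_inv_id]),
    hom_ext_genericFibre _ _ (by rw [Functor.map_comp, hf, hg, CategoryTheory.Functor.map_id,
      Iso.symm_hom, Iso.inv_hom_id])⟩
  exact ⟨f, ⟨inferInstance, hf⟩, fun f' hf' => hfu f' hf'.2⟩

end Groth.Agent.H26.DedMin
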