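import Groth.Agent.H26.DedMin.Bad
import Groth.Agent.CurveCohLib.SubBundle

/-!
# One contraction step over a Dedekind domain
-/

noncomputable section

set_option autoImplicit false
set_option linter.style.haveILetI false
set_option linter.unusedSectionVars false
set_option backward.isDefEq.respectTransparency false
set_option backward.isDefEq.respectTransparency.types false
set_option maxHeartbeats 1000000

universe u

open CategoryTheory CategoryTheory.Limits AlgebraicGeometry TopologicalSpace IsLocalRing

namespace Groth.Agent.H26.DedMin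

attribute [-instance] instAlgebraAtPrimeFractionRing

open Groth.Agent

variable {R : Type u} [CommRing R] [IsDedekindDomain R]

theorem isProper_arith (X : Over (Spec (CommRingCat.of R))) (hX : ArSurf.IsArithSurface R X) : IsProper X.hom := by
  obtain ⟨-, -, -, -, n, i, hi, hiw⟩ := hX
  haveI := hi
  haveI : IsProper (CohB1.ProjSpaceOver.toBase n (Spec (CommRingCat.of R))) :=
    MorphismProperty.pullback_snd _ _ (Groth.Agent.PnCoh.Chow.isProper_toSpec n _)
  rw [← hiw]
  infer_instance

/-- A non-closed point of a closed fibre has no proper generalisation in the fibre. -/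
theorem eq_of_specializes_fibre (X : Over (Spec (CommRingCat.of R))) (hX : ArSurf.IsArithSurface R X)
    {s : Spec (CommRingCat.of R)} (hs : s ≠ genericPoint (Spec (CommRingCat.of R))) {w z : X.left}
    (hw : X.hom w = s) (hz : ¬ IsClosed ({z} : Set X.left)) (h : w ⤳ z) : w = z := by
  obtain ⟨-, hint, hdim, hflat, -⟩ := hX
  haveI := hint
  haveI := hflat
  by_contra hne
  obtain ⟨z₀, hz₀, hz₀'⟩ : ∃ z₀, z ⤳ z₀ ∧ z₀ ≠ z := by
    by_contra hcon
    simp only [not_exists, not_and, ne_eq, not_not] at hcon
    refine hz (closure_eq_iff_isClosed.1 (subset_antisymm (fun a ha => ?_) subset_closure))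
    exact hcon a (specializes_iff_mem_closure.2 ha)
  have l1 : w < genericPoint X.left :=
    lt_of_le_of_ne (show w ≤ genericPoint X.left from genericPoint_specializes w) fun e => hs
      (by rw [← hw, e]; exact apply_generic_base X)
  have l2 : z < w := lt_of_le_of_ne (show z ≤ w from h) fun e => hne e.symm
  have l3 : z₀ < z := lt_of_le_of_ne (show z₀ ≤ z from hz₀) hz₀'
  let q : LTSeries X.left :=
    (((RelSeries.singleton _ (genericPoint X.left) : LTSeries X.left).cons w l1).cons z l2).cons z₀ l3
  have h3 : (3 : WithBot ℕ∞) ≤ topologicalKrullDim X.left := by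
    rw [topologicalKrullDim, Order.krullDim_eq_of_orderIso (irreducibleSetEquivPoints (α := X.left))]
    exact le_of_eq_of_le (by simp [q]) (Order.LTSeries.length_le_krullDim q)
  rw [hdim] at h3
  exact absurd h3 (by decide)

/-- The non-closed points over finitely many closed points of the base form a finite set. -/
theorem finite_nonclosed (X : Over (Spec (CommRingCat.of R))) (hX : ArSurf.IsArithSurface R X)
    (B : Finset (Spec (CommRingCat.of R))) (hB : ∀ s ∈ B, s ≠ genericPoint (Spec (CommRingCat.of R))) :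
    {z : X.left | X.hom z ∈ B ∧ ¬ IsClosed ({z} : Set X.left)}.Finite := by
  haveI := isProper_arith X hX
  haveI : IsLocallyNoetherian X.left := LocallyOfFiniteType.isLocallyNoetherian X.hom
  haveI : CompactSpace X.left := QuasiCompact.compactSpace_of_compactSpace X.hom
  haveI : IsNoetherian X.left := ⟨⟩
  rw [show {z : X.left | X.hom z ∈ B ∧ ¬ IsClosed ({z} : Set X.left)} =
    ⋃ s ∈ B, {z : X.left | X.hom z = s ∧ ¬ IsClosed ({z} : Set X.left)} from by ext z; simp]
  refine B.finite_toSet.biUnion fun s hs => ?_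
  let S := X.hom ⁻¹' {s}
  haveI : NoetherianSpace S := Topology.IsEmbedding.subtypeVal.isInducing.noetherianSpace
  have hfin : {z : S | ¬ IsClosed ({(z : X.left)} : Set X.left)}.Finite := by
    refine Set.Finite.of_finite_image (f := fun z : S => closure ({z} : Set S))
      ((TopologicalSpace.NoetherianSpace.finite_irreducibleComponents (α := S)).subset ?_) ?_
    · rintro _ ⟨z, hz, rfl⟩
      refine ⟨isIrreducible_singleton.closure, fun Z hZ hsub a ha => ?_⟩
      show a ∈ closure ({z} : Set S)
      rw [Topology.IsEmbedding.subtypeVal.closure_eq_preimage_closure_image, Set.mem_preimage, Set.image_singleton]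
      have hirr : IsIrreducible (closure ((Subtype.val : S → X.left) '' Z)) :=
        (hZ.image _ continuous_subtype_val.continuousOn).closure
      obtain ⟨w, hw⟩ : ∃ w, IsGenericPoint w (closure ((Subtype.val : S → X.left) '' Z)) :=
        QuasiSober.sober hirr isClosed_closure
      have hwz : w ⤳ z.1 := hw.specializes (subset_closure ⟨z, hsub (subset_closure rfl), rfl⟩)
      have hws : X.hom w = s := by
        have hcl : IsClosed ({s} : Set (Spec (CommRingCat.of R))) :=
          (PrimeSpectrum.isClosed_singleton_iff_isMaximal _).2 (s.isPrime.isMaximal (asIdeal_ne_bot s (hB s hs)))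
        exact closure_minimal (s := (Subtype.val : S → X.left) '' Z) (t := X.hom ⁻¹' {s})
          (fun b ⟨c, _, hc⟩ => hc ▸ c.2) (hcl.preimage X.hom.continuous) hw.mem
      rw [← eq_of_specializes_fibre X hX (hB s hs) hws hz hwz]
      exact hw.def.symm ▸ subset_closure ⟨a, ha, rfl⟩
    · intro a _ b _ hab
      have h1 : a ⤳ b := specializes_iff_mem_closure.2 ((show closure ({a} : Set S) = closure {b} from hab).ge (subset_closure rfl))
      have h2 : b ⤳ a := specializes_iff_mem_closure.2 ((show closure ({a} : Set S) = closure {b} from hab).le (subset_closure rfl))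
      exact Subtype.ext ((h1.map continuous_subtype_val).antisymm (h2.map continuous_subtype_val)).eq
  refine (hfin.image Subtype.val).subset fun z hz => ⟨⟨z, hz.1⟩, hz.2, rfl⟩

/-- Only finitely many closed points of the base carry an exceptional curve. -/
theorem finite_exc (X : Over (Spec (CommRingCat.of R))) (hX : ArSurf.IsArithSurface R X) :
    ∃ B : Finset (Spec (CommRingCat.of R)), (∀ s ∈ B, s ≠ genericPoint (Spec (CommRingCat.of R))) ∧
      ∀ s, s ≠ genericPoint (Spec (CommRingCat.of R)) → ∀ {E : Scheme.{u}} (ι : E ⟶ X.left) [IsClosedImmersion ι],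
        Models.IsExcCurve ι → (∀ a, X.hom (ι a) = s) → s ∈ B := by
  classical
  haveI := isProper_arith X hX
  obtain ⟨hreg, hint, hdim, hflat, -⟩ := id hX
  haveI := hint
  haveI := hflat
  haveI : IsLocallyNoetherian X.left := LocallyOfFiniteType.isLocallyNoetherian X.hom
  haveI : LocallyOfFinitePresentation X.hom := inferInstance
  let η := genericPoint (Spec (CommRingCat.of R))
  let N := MoreMor.nGeomIrredComp X.hom η
  let K := FractionRing R
  let Y := pullback X.hom (Neron.genPt R)
  letI : Y.Over (Spec (CommRingCat.of K)) := ⟨pullback.snd X.hom (Neron.genPt R)⟩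
  haveI : LocallyOfFiniteType (Y ↘ Spec (CommRingCat.of K)) :=
    inferInstanceAs (LocallyOfFiniteType (pullback.snd X.hom (Neron.genPt R)))
  haveI : IsProper (Y ↘ Spec (CommRingCat.of K)) :=
    inferInstanceAs (IsProper (pullback.snd X.hom (Neron.genPt R)))
  haveI : CompactSpace Y := QuasiCompact.compactSpace_of_compactSpace (Y ↘ Spec (CommRingCat.of K))
  have hregY : ∀ y : Y, IsRegularLocalRing (Y.presheaf.stalk y) := fun y => by
    haveI := hreg (pullback.fst X.hom (Neron.genPt R) y)
    haveI := isIso_stalkMap_preimmersion (pullback.fst X.hom (Neron.genPt R)) y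
    exact IsRegularLocalRing.of_ringEquiv
      (asIso ((pullback.fst X.hom (Neron.genPt R)).stalkMap y)).commRingCatIsoToRingEquiv
  let pt : Spec (CommRingCat.of K) := IsLocalRing.closedPoint K
  obtain ⟨hN1, hN2⟩ := count_generic hregY pt
  have hbc := Triage.GeomCount.nGeom_baseChange X.hom (pullback.snd X.hom (Neron.genPt R))
    (pullback.fst X.hom (Neron.genPt R)) (Neron.genPt R) (IsPullback.of_hasPullback _ _) pt
  rw [genPt_apply] at hbc
  have hNfin : N < ⊤ := lt_of_eq_of_lt hbc.1.symm hN2
  have hNc : MoreMor.nGeomConnComp X.hom η = N := hbc.2.symm.trans (hN1.symm.trans hbc.1)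
  have hC1 := (S1338.result X.hom N).isConstructible
  have hC2 := (S1339.result X.hom N).isConstructible
  obtain ⟨U, hU, hUη, hUC⟩ := exists_open_generic η
    (fun V hV hne => ((genericPoint_spec (Spec (CommRingCat.of R))).mem_open_set_iff hV).2 (by simpa using hne))
    (hC1.inter hC2)
  have hUC' : U ⊆ {y | MoreMor.nGeomIrredComp X.hom y = N} ∩ {y | MoreMor.nGeomConnComp X.hom y = N} :=
    hUC.resolve_right fun h => h hUη ⟨rfl, hNc⟩
  obtain ⟨_, ⟨r, rfl⟩, hrη, hrU⟩ := PrimeSpectrum.isTopologicalBasis_basic_opens.exists_subset_of_mem_open hUη hU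
  have hr : r ≠ 0 := fun h => hrη (h ▸ Submodule.zero_mem _)
  have hfinB : {t : Spec (CommRingCat.of R) | t ≠ η ∧ r ∈ t.asIdeal}.Finite := by
    have hI : Ideal.span {r} ≠ (0 : Ideal R) := by
      rwa [Ne, Ideal.zero_eq_bot, Ideal.span_singleton_eq_bot]
    refine ((Ideal.finite_factors hI).image fun v : IsDedekindDomain.HeightOneSpectrum R =>
      (⟨v.asIdeal, v.isPrime⟩ : PrimeSpectrum R)).subset fun t ht => ?_
    exact ⟨⟨t.asIdeal, t.isPrime, asIdeal_ne_bot t ht.1⟩,
      Ideal.dvd_iff_le.2 ((Ideal.span_singleton_le_iff_mem _).2 ht.2), rfl⟩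
  refine ⟨hfinB.toFinset, fun t ht => (hfinB.mem_toFinset.1 ht).1, fun s hs E ι _ hE hover => ?_⟩
  refine hfinB.mem_toFinset.2 ⟨hs, ?_⟩
  by_contra hrs
  obtain ⟨hsI, hsC⟩ := hUC' (hrU hrs)
  haveI := isDVR s hs
  obtain ⟨Γ, hΓe, hΓr⟩ := exists_exc_loc s hs X ι hE hover
  let Xs := loc s X
  haveI : IsIntegral Xs.left := loc_isIntegral s X
  haveI : IsLocallyNoetherian Xs.left := LocallyOfFiniteType.isLocallyNoetherian Xs.hom
  have hdimS : topologicalKrullDim Xs.left = 2 := MinDesing.dim_eq_two Xs.hom
    (loc_dim s X fun z => (CurveCohLib.ringKrullDim_stalk_le_topologicalKrullDim z).trans_eq hdim) Γ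
  have hregS := loc_regular s X hreg
  let π := locπ s X
  have hπi := (locπ s X).isEmbedding.isInducing
  let e' := Models.genPtOf (LR s) Xs Γ
  have hover' : ∀ a : Xs.left, a ∈ Models.specialFibreSet (LR s) Xs → X.hom (π a) = s := fun a ha => by
    rw [← Scheme.Hom.comp_apply, pullback.condition, Scheme.Hom.comp_apply]
    exact (congrArg (lmap s) (show pullback.snd X.hom (lmap s) a = closedPoint (LR s) from ha)).trans (lmap_closedPoint s)
  have hover'' : ∀ a : Xs.left, X.hom (π a) = s → a ∈ Models.specialFibreSet (LR s) Xs := fun a ha =>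
    eq_closedPoint_of_lmap s (by
      rw [← Scheme.Hom.comp_apply, show Xs.hom ≫ lmap s = π ≫ X.hom from pullback.condition.symm]
      exact ha)
  have hΓsp : ∀ a ∈ Set.range Γ.ι, a ∈ Models.specialFibreSet (LR s) Xs := fun a ha => by
    obtain ⟨b, hb⟩ : π a ∈ Set.range ι := hΓr.le ha
    exact hover'' a (hb ▸ hover b)
  have he's : e' ∈ Set.range Γ.ι := ⟨_, rfl⟩
  have henc : ¬ IsClosed ({π e'} : Set X.left) := fun hcl => by
    obtain ⟨-, k, hk, e, -⟩ := id hE
    obtain ⟨a₁, a₂, hne, -⟩ := MinModel.exists_two_points k e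
    have hall : ∀ a, ι a = π e' := fun a => by
      obtain ⟨w, hw⟩ : ι a ∈ Set.range π := by
        rw [range_locπ, Set.mem_preimage, hover a]
        exact ⟨_, lmap_closedPoint s⟩
      have : w ∈ closure ({e'} : Set Xs.left) :=
        (InterSymm.range_eq_closure Γ).le (hΓr.ge (show π w ∈ Set.range ι from ⟨a, hw.symm⟩))
      rw [← hw]
      exact (specializes_iff_mem_closure.2 this).map π.continuous |>.mem_closed hcl rfl
    exact hne (ι.isClosedEmbedding.injective ((hall a₁).trans (hall a₂).symm))
  -- a point of the special fibre generalising the generic point of the curve is that point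
  have hmax : ∀ w' : Xs.left, w' ∈ Models.specialFibreSet (LR s) Xs → w' ⤳ e' → w' = e' := fun w' hw hwe =>
    (locπ s X).isEmbedding.injective
      (eq_of_specializes_fibre X hX hs (hover' w' hw) henc (hwe.map π.continuous))
  have hΓcomp : Set.range Γ.ι.base ∈ Models.fibreComponents (LR s) Xs := by
    refine ⟨⟨?_, hΓsp⟩, fun S hS hsub => ?_⟩
    · rw [InterSymm.range_eq_closure Γ]
      exact isIrreducible_singleton.closure
    obtain ⟨w, hw⟩ : ∃ w, IsGenericPoint w (closure S) := QuasiSober.sober hS.1.closure isClosed_closure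
    have hws : w ∈ Models.specialFibreSet (LR s) Xs :=
      closure_minimal hS.2 (Models.isClosed_specialFibreSet (LR s) Xs) hw.mem
    obtain rfl := hmax w hws (hw.specializes (subset_closure (hsub he's)))
    refine fun a ha => (InterSymm.range_eq_closure Γ).ge ?_
    exact hw.def.symm ▸ subset_closure ha
  obtain ⟨n, Γc, hΓc⟩ := H26.CompList.exists_componentList (X := Xs) hdimS
  obtain ⟨i, hi⟩ := hΓc.2.ge hΓcomp
  have hdisj : ∀ j, i ≠ j → Disjoint (Set.range (Γc i).ι.base) (Set.range (Γc j).ι.base) := by
    intro j hij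
    rw [Set.disjoint_left]
    intro x hxi hxj
    refine hij (hΓc.1 ?_)
    obtain ⟨⟨hjirr, hjsp⟩, hjmax⟩ := hΓc.2.le ⟨j, rfl⟩
    have hxj' : x ∈ closure ({Models.genPtOf (LR s) Xs (Γc j)} : Set Xs.left) := (InterSymm.range_eq_closure _).le hxj
    have hxe : x ∈ closure ({e'} : Set Xs.left) := (InterSymm.range_eq_closure Γ).le (hi ▸ hxi)
    let z' := Models.genPtOf (LR s) Xs (Γc j)
    obtain ⟨w, hws, hwz, hwe⟩ := exists_common_generalization X.hom s (hsI ▸ hNfin) (hsI.trans hsC.symm)
      (hover' z' (hjsp ⟨_, rfl⟩)) (hover' e' (hΓsp _ he's)) (hover' x (hjsp hxj))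
      ((specializes_iff_mem_closure.2 hxj').map π.continuous) ((specializes_iff_mem_closure.2 hxe).map π.continuous)
    obtain rfl := eq_of_specializes_fibre X hX hs hws henc hwe
    have hle : Set.range (Γc j).ι.base ⊆ Set.range Γ.ι.base := by
      rw [InterSymm.range_eq_closure Γ, InterSymm.range_eq_closure (Γc j)]
      exact closure_minimal (Set.singleton_subset_iff.2 (specializes_iff_mem_closure.1 (hπi.specializes_iff.1 hwz)))
        isClosed_closure
    exact hi.trans (subset_antisymm (hjmax hΓcomp.1 hle) hle)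
  have hinv : ∀ j, ∃ L : Xs.left.Modules, ClSub.IsInverseOf L (ClSub.idealMod (Γc j).ι.ker) := fun j => by
    obtain ⟨M, -, hM₀⟩ := H23.PicInv.exists_inverse (IdealCl.isInvertible_idealMod
      ((FibreIdeal.result Xs Γc hΓc hregS).1 j))
    refine ⟨M, ?_⟩
    letI := H23.PicMul.clMonoid Xs.left
    refine H23.PicMul.cl_eq_iff.1 ?_
    rw [H23.PicMul.cl_tensor, mul_comm, ← H23.PicMul.cl_tensor]
    exact H23.PicMul.cl_eq_iff.2 hM₀
  choose L hL using hinv
  obtain ⟨-, -, hrow, hmpos⟩ := InterForm.mat_spec hΓc L hL hregS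
  have hrow' := hrow i
  rw [Finset.sum_eq_single i] at hrow'
  · have h0 : ArSurf.inter (LR s) Xs (L i) (Γc i) = 0 := by
      have h := (mul_eq_zero.1 hrow').resolve_left (hmpos i).ne'
      rw [InterForm.mat] at h
      exact_mod_cast h
    have hexci : Models.IsExcCurve (Γc i).ι :=
      ExcTransport.isExcCurve_of_ker _ (Γc i).ι (InterForm.ker_eq_of_range hi.symm) hΓe
    have h2 := (ExcCrit.invariants_of_exc (Γc i) ((FibreIdeal.result Xs Γc hΓc hregS).1 i) (hL i) hexci).2
    have h3 : 0 < Models.wdeg (LR s) Xs (Γc i) := by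
      exact WDeg.wdeg_pos (Γc i)
    omega
  · intro j _ hj
    have := ((InterForm.inter_offDiag hΓc L hL hregS (i := i) (j := j) (Ne.symm hj)).2).2 (hdisj j (Ne.symm hj))
    rw [InterForm.mat, this, Int.cast_zero, mul_zero]
  · simp

end Groth.Agent.H26.DedMin
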