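import Groth.Agent.H26.Adjunction.Isolated
import Groth.Agent.S0388
import Groth.Agent.H26.ArtinTriv.Henselian
import Groth.Agent.H26.FibreIdeal

/-!
# Two meeting curves forming a connected component of the closed fibre
-/

noncomputable section

set_option autoImplicit false
set_option linter.style.haveILetI false
set_option linter.unusedSectionVars false
set_option backward.isDefEq.respectTransparency false
set_option backward.isDefEq.respectTransparency.types false
set_option maxHeartbeats 1000000

universe u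

open CategoryTheory CategoryTheory.Limits AlgebraicGeometry TopologicalSpace
open Groth.Agent.H23 Groth.Agent.H28
open Groth.Agent.PnCoh.Finite (mapLin deltaLin)
open scoped Groth.Agent.H23.PicMul TensorProduct

namespace Groth.Agent.H26.DedMin

open Groth.Agent Groth.Agent.H26.Adjunction Groth.Agent.H26.Adjunction.Vanishing

variable {R : Type u} [CommRing R] [IsDomain R] [IsDiscreteValuationRing R]

theorem exists_vanishing_pair {X : Over (Spec (CommRingCat.of R))} [IsIntegral X.left] [Flat X.hom] [IsProper X.hom]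
    (hdim : topologicalKrullDim X.left = 2) (E F : ArSurf.VertComp R X)
    (hmeet : ¬ Disjoint (Set.range E.ι.base) (Set.range F.ι.base))
    (hiso : ∃ U : X.left.Opens, (U : Set X.left) ∩ Models.specialFibreSet R X =
      Set.range E.ι.base ∪ Set.range F.ι.base) :
    ∃ π : Γ(X.left, ⊤), π ≠ 0 ∧ ¬ IsUnit π ∧
      ∀ x : X.left, x ∈ Set.range E.ι.base ∪ Set.range F.ι.base ↔ x ∉ X.left.basicOpen π := by
  haveI := E.isClosedImmersion
  haveI := E.isIntegral
  haveI := F.isClosedImmersion
  haveI := F.isIntegral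
  obtain ⟨U, hU⟩ := hiso
  let f := X.hom
  let N := f.normalization
  let ν : X.left ⟶ N := f.toNormalization
  haveI : IsAffine N := isAffine_of_isAffineHom f.fromNormalization
  haveI hν : IsProper ν := by
    haveI : IsProper (ν ≫ f.fromNormalization) := by
      rw [f.toNormalization_fromNormalization]; infer_instance
    exact IsProper.of_comp ν f.fromNormalization
  haveI : GeometricallyConnected ν := (S0388.result f).1
  let A := Γ(N, ⊤)
  let e : N ≅ Spec A := N.isoSpec
  let g : Spec A ⟶ Spec (CommRingCat.of R) := e.inv ≫ f.fromNormalization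
  let φ : CommRingCat.of R ⟶ A := Spec.preimage g
  have hφ : Spec.map φ = g := Spec.map_preimage g
  haveI : IsIntegralHom (Spec.map φ) := by rw [hφ]; infer_instance
  have hint : φ.hom.IsIntegral := (IsIntegralHom.SpecMap_iff).1 inferInstance
  letI : Algebra R A := φ.hom.toAlgebra
  haveI : Algebra.IsIntegral R A := ⟨hint⟩
  haveI : IsDomain A := inferInstanceAs (IsDomain Γ(f.normalization, ⊤))
  have hcomp : ∀ x : X.left, Spec.map φ (e.hom (ν x)) = f x := fun x => by
    rw [hφ, ← Scheme.Hom.comp_apply, ← Scheme.Hom.comp_apply]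
    congr 1
    simp [g, ν]
  let pt : X.left → PrimeSpectrum A := fun x => e.hom (ν x)
  have hfib : ∀ x : X.left, x ∈ Models.specialFibreSet R X ↔ (pt x).asIdeal.comap φ.hom = IsLocalRing.maximalIdeal R := by
    intro x
    show f x = IsLocalRing.closedPoint R ↔ _
    rw [← hcomp x]
    exact ⟨fun h => congrArg PrimeSpectrum.asIdeal h, fun h => PrimeSpectrum.ext h⟩
  have hmax : ∀ x : X.left, x ∈ Models.specialFibreSet R X → (pt x).asIdeal.IsMaximal := fun x hx =>
    Ideal.isMaximal_of_isIntegral_of_isMaximal_comap (R := R) _ (by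
      rw [show algebraMap R A = φ.hom from rfl, (hfib x).1 hx]; infer_instance)
  have hEs : ∀ c, E.ι.base c ∈ Models.specialFibreSet R X :=
    fun c => (ArtinTriv.range_mem_fibreComponents hdim E).1.2 ⟨c, rfl⟩
  let η := E.ι.base (genericPoint E.curve.left)
  let p := pt η
  have hpE : ∀ c, pt (E.ι.base c) = p := fun c => by
    have h1 : p ⤳ pt (E.ι.base c) :=
      (((genericPoint_specializes c).map E.ι.continuous).map ν.continuous).map e.hom.continuous
    have h2 := (PrimeSpectrum.le_iff_specializes _ _).2 h1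
    exact (PrimeSpectrum.ext ((hmax η (hEs _)).eq_of_le (pt (E.ι.base c)).2.ne_top h2)).symm
  obtain ⟨z, ⟨c₁, hc₁⟩, ⟨c₂, hc₂⟩⟩ := Set.not_disjoint_iff.1 hmeet
  have hFs : ∀ c, F.ι.base c ∈ Models.specialFibreSet R X :=
    fun c => (ArtinTriv.range_mem_fibreComponents hdim F).1.2 ⟨c, rfl⟩
  have hpF : ∀ c, pt (F.ι.base c) = p := fun c => by
    have hq : ∀ d, pt (F.ι.base d) = pt (F.ι.base (genericPoint F.curve.left)) := fun d => by
      have h1 : pt (F.ι.base (genericPoint F.curve.left)) ⤳ pt (F.ι.base d) :=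
        (((genericPoint_specializes d).map F.ι.continuous).map ν.continuous).map e.hom.continuous
      exact (PrimeSpectrum.ext ((hmax _ (hFs _)).eq_of_le (pt (F.ι.base d)).2.ne_top
        ((PrimeSpectrum.le_iff_specializes _ _).2 h1))).symm
    exact (hq c).trans ((hq c₂).symm.trans ((congrArg pt (hc₂.trans hc₁.symm)).trans (hpE c₁)))
  -- the fibre of `ν` over `p` is the pair
  have hpre : ∀ x, pt x = p → x ∈ Set.range E.ι.base ∪ Set.range F.ι.base := fun x hx => by
    have hνx : ν x = ν η := e.hom.homeomorph.injective hx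
    have hC : _root_.IsPreconnected (ν ⁻¹' {ν η}) := (ν.isConnected_preimage_singleton _).isPreconnected
    have hsub : ν ⁻¹' {ν η} ⊆ Models.specialFibreSet R X := fun y hy => by
      rw [hfib y, show pt y = pt η from congrArg e.hom hy]
      exact (hfib η).1 (hEs _)
    have hEcl : IsClosed (Set.range E.ι.base ∪ Set.range F.ι.base) :=
      E.ι.isClosedEmbedding.isClosed_range.union F.ι.isClosedEmbedding.isClosed_range
    refine hU ▸ ⟨?_, hsub hνx⟩
    by_contra hxU
    obtain ⟨y, hy, hyE, hyU⟩ := hC (U : Set X.left) (Set.range E.ι.base ∪ Set.range F.ι.base)ᶜ U.2 hEcl.isOpen_compl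
      (fun y hy => by
        by_cases hyE : y ∈ Set.range E.ι.base ∪ Set.range F.ι.base
        · exact Or.inl (hU.ge hyE).1
        · exact Or.inr hyE)
      ⟨η, rfl, (hU.ge (Or.inl ⟨_, rfl⟩)).1⟩ ⟨x, hνx, fun hxE => hxU (hU.ge hxE).1⟩
    exact hyU (hU.le ⟨hyE, hsub hy⟩)
  -- separate the point from the other components
  let S' : Set X.left := Models.specialFibreSet R X ∩ (U : Set X.left)ᶜ
  have hT : IsClosed (pt '' S') := by
    rw [show pt '' S' = e.hom '' (ν '' S') from (Set.image_image _ _ _).symm]
    exact e.hom.homeomorph.isClosedMap _ (ν.isClosedMap _ ((Models.isClosed_specialFibreSet R X).inter U.2.isClosed_compl))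
  have hpT : p ∉ pt '' S' := by
    rintro ⟨x, hx, hxp⟩
    exact hx.2 (hU.ge (hpre x hxp)).1
  obtain ⟨a₀, ha₀, ha₀T⟩ := exists_separate p (hmax η (hEs _)) hT hpT
  obtain ⟨ϖ, hirr⟩ := IsDiscreteValuationRing.exists_irreducible R
  have hϖ0 : φ.hom ϖ ≠ 0 := fun h0 => by
    have h1 : ϖ ∈ (pt (genericPoint X.left)).asIdeal.comap φ.hom := by
      rw [Ideal.mem_comap, h0]; exact zero_mem _
    have h2 : f (genericPoint X.left) = genericPoint (Spec (CommRingCat.of R)) := ArtinTriv.apply_generic X
    rw [genericPoint_eq_bot_of_affine, ← hcomp] at h2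
    have h3 : (pt (genericPoint X.left)).asIdeal.comap φ.hom = ⊥ := congrArg PrimeSpectrum.asIdeal h2
    rw [h3] at h1
    exact hirr.ne_zero h1
  obtain ⟨a, ha, ha0, haT⟩ : ∃ a ∈ p.asIdeal, a ≠ 0 ∧ ∀ q ∈ pt '' S', a ∉ q.asIdeal := by
    by_cases h : a₀ = 0
    · refine ⟨φ.hom ϖ, ?_, hϖ0, fun q hq _ => ha₀T q hq (h ▸ zero_mem _)⟩
      show ϖ ∈ p.asIdeal.comap φ.hom
      rw [(hfib η).1 (hEs _), hirr.maximalIdeal_eq]
      exact Ideal.mem_span_singleton_self ϖ
    · exact ⟨a₀, ha₀, h, ha₀T⟩
  have hbo : ∀ x : X.left, x ∈ X.left.basicOpen (ν.appTop a) ↔ a ∉ (pt x).asIdeal := fun x => by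
    rw [← Scheme.preimage_basicOpen_top]
    show ν x ∈ N.basicOpen a ↔ _
    have h1 : e.hom ⁻¹ᵁ (Spec A).basicOpen ((Scheme.ΓSpecIso A).inv a) = N.basicOpen a := by
      rw [Scheme.preimage_basicOpen_top]
      congr 1
      show (N.toSpecΓ).appTop ((Scheme.ΓSpecIso A).inv a) = a
      rw [Scheme.toSpecΓ_appTop, ← CommRingCat.comp_apply, Iso.inv_hom_id]
      rfl
    rw [← h1]
    show e.hom (ν x) ∈ (Spec A).basicOpen ((Scheme.ΓSpecIso A).inv a) ↔ _
    rw [basicOpen_eq_of_affine]
    rfl
  have hloc : ∀ x : X.left, x ∈ Set.range E.ι.base ∪ Set.range F.ι.base ↔ x ∉ X.left.basicOpen (ν.appTop a) := fun x => by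
    rw [hbo, not_not]
    refine ⟨fun h => ?_, fun hax => ?_⟩
    · rcases h with ⟨c, rfl⟩ | ⟨c, rfl⟩
      · exact (hpE c).symm ▸ ha
      · exact (hpF c).symm ▸ ha
    have hxs : x ∈ Models.specialFibreSet R X := by
      rw [hfib]
      have hne : (pt x).asIdeal.comap (algebraMap R A) ≠ ⊥ := fun h =>
        ha0 (by
          have h4 := Ideal.eq_bot_of_comap_eq_bot (R := R) h
          rw [h4] at hax
          exact hax)
      haveI : ((pt x).asIdeal.comap (algebraMap R A)).IsPrime := Ideal.comap_isPrime _ _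
      exact IsLocalRing.eq_maximalIdeal (Ideal.IsPrime.isMaximal inferInstance hne)
    by_cases hxU : x ∈ U
    · exact hU.le ⟨hxU, hxs⟩
    · exact absurd hax (haT _ ⟨x, ⟨hxs, hxU⟩, rfl⟩)
  refine ⟨ν.appTop a, fun h0 => ?_, fun hu => ?_, hloc⟩
  · have hgen : genericPoint X.left ∈ Set.range E.ι.base ∪ Set.range F.ι.base := (hloc _).2 (by rw [h0, Scheme.basicOpen_zero]; exact id)
    have h1 : genericPoint X.left ∈ Models.specialFibreSet R X := (hU.ge hgen).2
    have h2 : f (genericPoint X.left) = genericPoint (Spec (CommRingCat.of R)) := ArtinTriv.apply_generic X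
    rw [show f (genericPoint X.left) = IsLocalRing.closedPoint R from h1, genericPoint_eq_bot_of_affine] at h2
    exact GGContract.closedPoint_ne_bot R h2
  · exact (hloc η).1 (Or.inl ⟨_, rfl⟩) (by rw [X.left.basicOpen_of_isUnit hu]; trivial)

/-- The Euler characteristic of a principal vertical divisor has the sign of that of the generic fibre. -/
theorem chi_princ {X : Over (Spec (CommRingCat.of R))} [IsProper X.hom] [Flat X.hom] [IsIntegral X.left]
    (hdim : topologicalKrullDim X.left = 2) {n : ℕ} {Γc : Fin n → ArSurf.VertComp R X} (D : VertClass.Data X Γc)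
    {π : Γ(X.left, ⊤)} (hπ : π ≠ 0) (hu : ¬ IsUnit π) :
    ∃ c c' : ℤ, 0 < c ∧ 0 < c' ∧ c * EulerFibre.chi X (ClSub.quotMod (Principal.princ π)) =
      c' * ((Models.hRank (FractionRing R) ((Neron.genericFibre R).obj X).left ((Neron.genericFibre R).obj X).hom
          (Coh.structureModule ((Neron.genericFibre R).obj X).left) 0 : ℤ) -
        (Models.hRank (FractionRing R) ((Neron.genericFibre R).obj X).left ((Neron.genericFibre R).obj X).hom
          (Coh.structureModule ((Neron.genericFibre R).obj X).left) 1 : ℤ)) := by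
  classical
  haveI : IsLocallyNoetherian X.left := LocallyOfFiniteType.isLocallyNoetherian X.hom
  haveI : CompactSpace X.left := QuasiCompact.compactSpace_of_compactSpace X.hom
  haveI : IsNoetherian X.left := ⟨⟩
  -- cohomology of the surface
  let C := (Neron.genericFibre R).obj X
  let O := Coh.structureModule X.left
  let A := Γ(X.left, ⊤)
  haveI : IsProper ((Scheme.IdealSheafData.vanishingIdeal ⟨Set.univ, isClosed_univ⟩ :
    X.left.IdealSheafData).subschemeι ≫ X.hom) := inferInstance
  have hfin : ∀ i, Module.Finite R (Coh.HH X.left O i) :=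
    fun i => FFun.finite_HH_of_properSupport R (C := Set.univ) ⟨isClosed_univ, show IsProper (_ ≫ X.hom) from inferInstance⟩ QCoh.isCoh_structureModule'
      (Set.subset_univ _) i
  letI : Algebra R A := (Coh.toGlobal X.hom).toAlgebra
  letI : ∀ i, Module A (Coh.HH X.left O i) := fun i => Coh.moduleΓtop O i
  haveI : ∀ i, IsScalarTower R A (Coh.HH X.left O i) := fun i => IsScalarTower.of_algebraMap_smul fun _ _ => rfl
  haveI : ∀ i, Module.Finite A (Coh.HH X.left O i) := fun i =>
    haveI := hfin i
    Module.Finite.of_restrictScalars_finite R A _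
  haveI : Nonempty (⊤ : X.left.Opens) := ⟨⟨genericPoint X.left, trivial⟩⟩
  haveI : Module.Finite R A := by
    haveI := hfin 0
    let e : Coh.HH X.left O 0 ≃+ A := Sheaf.H.equiv₀ (Coh.toAb O) isTerminalTop
    have he : ∀ (r : Coh.Γtop X.left) (x : Coh.HH X.left O 0), e (r • x) = (show A from r) * e x := by
      intro r x
      have h := (Sheaf.H.equiv₀_naturality isTerminalTop (Coh.smulAb O r) x).symm
      refine (show e (r • x) = _ from h).trans ?_
      show (show A from Coh.resTop X.left (Opposite.op ⊤) r) * e x = _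
      congr 1
      show (X.left.presheaf.map (homOfLE le_top).op).hom r = r
      rw [show (homOfLE le_top).op = 𝟙 (Opposite.op (⊤ : X.left.Opens)) from rfl, X.left.presheaf.map_id]
      rfl
    let eL : Coh.HH X.left O 0 ≃ₗ[R] A := { e with map_smul' := fun c x => he _ x }
    exact Module.Finite.equiv eL
  have hinjA : Function.Injective (algebraMap R A) := (injective_iff_map_eq_zero _).2 fun a ha => by
    by_contra ha0
    obtain ⟨U, hU, hxU, -⟩ := exists_isAffineOpen_mem_and_subset (x := genericPoint X.left) (U := ⊤) trivial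
    haveI : Nonempty ↥U.toScheme := ⟨⟨_, hxU⟩⟩
    have h1 := FibreIdeal.unifOn_mem_nonZeroDivisors X ha0 hU
    rw [show FibreIdeal.unifOn X a U = 0 from
      (congrArg (X.left.presheaf.map (homOfLE (le_top : U ≤ ⊤)).op).hom ha).trans (map_zero _)] at h1
    exact zero_notMem_nonZeroDivisors h1
  have hd : 0 < Module.finrank R A := by
    haveI : NoZeroSMulDivisors R A := ⟨fun {r x} h => by
      rw [Algebra.smul_def] at h
      rcases mul_eq_zero.1 h with h | h
      · exact Or.inl (hinjA (h.trans (map_zero _).symm))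
      · exact Or.inr h⟩
    haveI : Module.IsTorsionFree R A := inferInstance
    exact Module.finrank_pos
  -- lengths
  have h2 : Subsingleton (Coh.HH X.left O 2) := by
    obtain ⟨ϖ, hirr⟩ := IsDiscreteValuationRing.exists_irreducible R
    obtain ⟨hz, hS⟩ := FibreSeq.shortExact X hirr.maximalIdeal_eq hirr.ne_zero
    have hgF : EulerFibre.Good X (ClSub.quotMod (Models.specialFibreIdeal R X)) :=
      (EulerFibre.good_fibre D).1
    have e3 := EulerFibre.length_mid _ _ (CurveCohLib.ker_deltaLin R hS 2)
    haveI := hgF.2 2 le_rfl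
    rw [Module.length_eq_zero, eq_comm, add_eq_zero, Module.length_eq_zero_iff] at e3
    haveI := e3.1
    have hsur : ∀ x : Coh.HH X.left O 2, ∃ y, ϖ • y = x := fun x => by
      have hx : x ∈ LinearMap.ker (mapLin R (ClSub.toSubscheme (Models.specialFibreIdeal R X)) 2) :=
        congrArg Subtype.val (Subsingleton.elim
          (⟨mapLin R (ClSub.toSubscheme (Models.specialFibreIdeal R X)) 2 x, ⟨x, rfl⟩⟩ :
            LinearMap.range (mapLin R (ClSub.toSubscheme (Models.specialFibreIdeal R X)) 2)) 0)
      rw [CurveCohLib.ker_mapLin_g R hS 2] at hx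
      obtain ⟨y, hy⟩ := hx
      refine ⟨y, ?_⟩
      rw [← hy]
      show ϖ • y = Sheaf.H.map ((QCoh.toAbFunctor X.left).map (FibreSeq.mulConst X ϖ)) 2 y
      rw [FibreSeq.toAb_mulConst]
      rfl
    refine Submodule.subsingleton_iff R |>.1 (subsingleton_of_bot_eq_top ?_)
    refine (Submodule.eq_bot_of_le_smul_of_le_jacobson_bot (IsLocalRing.maximalIdeal R) ⊤ (hfin 2).fg_top
      (fun x _ => ?_) (IsLocalRing.maximalIdeal_le_jacobson _)).symm
    obtain ⟨y, rfl⟩ := hsur x
    exact Submodule.smul_mem_smul (by rw [hirr.maximalIdeal_eq]; exact Ideal.mem_span_singleton_self ϖ) trivial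
  have hrank : ∀ i, Module.finrank R (Coh.HH X.left O i) =
      Models.hRank (FractionRing R) C.left C.hom (Coh.structureModule C.left) i := fun i => by
    letI : C.left.Over (Spec (CommRingCat.of (FractionRing R))) := ⟨C.hom⟩
    have hg : IsPullback (pullback.fst X.hom (Neron.genPt R)) C.hom X.hom
        (Spec.map (CommRingCat.ofHom (algebraMap R (FractionRing R)))) :=
      IsPullback.of_hasPullback X.hom (Neron.genPt R)
    obtain ⟨e⟩ := QCoh.HH_flatBaseChange (A := R) (B := FractionRing R) hg (QCoh.isQCoh_structureModule (X := X.left)) i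
    obtain ⟨o⟩ := PicClLib.nonempty_pullback_structureModule (pullback.fst X.hom (Neron.genPt R))
    haveI := hfin i
    refine ((TensorProduct.isBaseChange R (Coh.HH X.left O i) (FractionRing R)).finrank_eq).symm.trans ?_
    exact e.finrank_eq.trans (NormalLib.hhIso (A := FractionRing R) o i).finrank_eq
  obtain ⟨a0, b0⟩ := EulMul.formula (R := R) hinjA hπ (Coh.HH X.left O 0)
  obtain ⟨a1, b1⟩ := EulMul.formula (R := R) hinjA hπ (Coh.HH X.left O 1)
  have hℓ := EulMul.length_pos (R := R) hinjA hπ hu
  generalize (Module.length R (A ⧸ LinearMap.range (LinearMap.mulLeft R π))).toNat = ℓ at hℓ b0 b1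
  have e0 := length_quot_princ (X := X) hπ 0
  have e1 := length_quot_princ (X := X) hπ 1
  have hk2 : Module.length R (LinearMap.ker (EulMul.mulMap (R := R) π (Coh.HH X.left O 2))) = 0 := by
    haveI := h2
    exact Module.length_eq_zero
  have hk0 : Module.length R (LinearMap.ker (EulMul.mulMap (R := R) π (Coh.HH X.left O 0))) = 0 := by
    obtain ⟨⟨hz, hS⟩, -⟩ := Principal.shortExact hπ
    have hinj0 := CurveCohLib.mapLin_f_zero_injective R hS
    have hmap : EulMul.mulMap (R := R) π (Coh.HH X.left O 0) = mapLin R (Principal.mulSect π) 0 :=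
      LinearMap.ext fun x => by
        show _ = Sheaf.H.map ((QCoh.toAbFunctor X.left).map (Principal.mulSect π)) 0 x
        rw [Principal.toAb_mulSect]
        rfl
    rw [hmap, LinearMap.ker_eq_bot.2 hinj0, Module.length_bot]
  have hchi : (Module.finrank R A : ℤ) * EulerFibre.chi X (ClSub.quotMod (Principal.princ π)) =
      (ℓ : ℤ) * FGA.eulerCharLE (FractionRing R) C.left (Coh.structureModule C.left) 1 := by
    have hgen : FGA.eulerCharLE (FractionRing R) C.left (Coh.structureModule C.left) 1 =
        (Module.finrank R (Coh.HH X.left O 0) : ℤ) - (Module.finrank R (Coh.HH X.left O 1) : ℤ) := by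
      rw [hrank, hrank]
      simp only [FGA.eulerCharLE, Finset.sum_range_succ, Finset.sum_range_zero]
      simp only [zero_add, pow_zero, one_mul, pow_one, neg_mul, ← sub_eq_add_neg]
      rfl
    change (Module.finrank R A : ℤ) * _ = (ℓ : ℤ) * (Module.finrank R (Coh.HH X.left O 0) : ℤ) at b0
    change (Module.finrank R A : ℤ) * _ = (ℓ : ℤ) * (Module.finrank R (Coh.HH X.left O 1) : ℤ) at b1
    rw [hgen, mul_sub, ← b0, ← b1, ← mul_sub]
    congr 1
    show ((Module.length R _).toNat : ℤ) - ((Module.length R _).toNat : ℤ) = _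
    rw [e0, e1]
    simp only [IntThLib.eul]
    rw [hk0, hk2, add_zero, ENat.toNat_add a0.1 a1.2]
    push_cast
    simp only [ENat.toNat_zero, Nat.cast_zero, sub_zero]
    ring
  refine ⟨(Module.finrank R A : ℤ), ℓ, Int.natCast_pos.2 hd, Int.natCast_pos.2 hℓ, hchi.trans ?_⟩
  simp only [FGA.eulerCharLE, Finset.sum_range_succ, Finset.sum_range_zero]
  simp only [zero_add, pow_zero, one_mul, pow_one, neg_mul, ← sub_eq_add_neg]
  rfl

end Groth.Agent.H26.DedMin
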